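import Cfsg.Agent.Mrg.Omega.NO3S.EThree.Qt
import Cfsg.Agent.PLocal.OffenderStep
import Cfsg.Agent.Omega.NO3S.EThree.TBig
import Cfsg.Agent.Mrg.Omega.NO3S.EThree.Frame
import Cfsg.Agent.Mrg.Omega.NO3S.EThree.ExactB

-- merged: Cfsg.Agent.Mrg.Omega.NO3S.EThree.TEnd
section

section


/-!
# The transvection case is impossible

`TQL.false` : `TQL Z U B → False`  (helper118 #18644 (4)-(7) for all `q`; no STEP F, no module, no (NO)).
-/

set_option autoImplicit false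
set_option linter.unusedSectionVars false

namespace Cfsg.Agent.Omega.NO3S.EThree

open Subgroup Cfsg Cfsg.Agent.ZN Cfsg.Agent.Omega.MinPar
open Cfsg.Agent.Omega.NoFF.Basic (conj_conj mem_conj conj_le_iff conj_le_centralizer comm_symm comm_mono)
open Cfsg.Agent.Omega.NOThreeL.Pair (conj_eq_of_mem)
open Cfsg.Agent.Omega.OM.PG PtGeo
open scoped Pointwise

universe u

variable {G : Type u} [Group G]

/-- `R_a = ⟨N_w : w ~ a⟩` -/
def RR (Z : Fin 2 → Subgroup G) (a : Subgroup G) : Subgroup G := sSup {N | ∃ w, Adj Z a w ∧ N = NN Z w}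

theorem NN_le_RR {Z : Fin 2 → Subgroup G} {a w : Subgroup G} (h : Adj Z a w) : NN Z w ≤ RR Z a :=
  le_sSup ⟨w, h, rfl⟩

theorem conj_inv_eq {g : G} {A B : Subgroup G} (h : MulAut.conj g • A = B) : MulAut.conj g⁻¹ • B = A := by
  rw [← h, inv_conj_conj]

namespace TQL

variable [Finite G] {Z U : Fin 2 → Subgroup G} {B : Subgroup G} (P : TQL Z U B)
include P

/-- nonperpendicular points of `N_a` are conjugate -/
theorem move {a w s : Subgroup G} (hw : Adj Z a w) (hs : Adj Z a s) (h : ¬ s ≤ centralizer (NN Z w : Set G)) :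
    ∃ g ∈ NN Z w ⊔ NN Z s, MulAut.conj g • w = s := by
  have hws : ¬ w ≤ centralizer (NN Z s : Set G) := fun h1 => h (P.perp_symm hs hw h1)
  obtain ⟨x, hx, hx1⟩ := P.exists_ne (P.adj_pt hw)
  obtain ⟨y, hy, hy1⟩ := P.exists_ne (P.adj_pt hs)
  have hxN := hw.le_NN hx
  have hyN := hs.le_NN hy
  have hyc : y ∉ centralizer (NN Z w : Set G) := fun h1 => hy1 (P.cen_one hw hs h hy h1)
  have hxc : x ∉ centralizer (NN Z s : Set G) := fun h1 => hx1 (P.cen_one hs hw hws hx h1)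
  obtain ⟨t, ht, α, hα, e⟩ := P.sur hw hyN hyc hx
  obtain ⟨t', ht', α', hα', e'⟩ := P.sur hs hxN hxc hy
  have h1 : t * y * t⁻¹ ∈ MulAut.conj t • s := mem_conj_self hy
  have h2 : t' * x * t'⁻¹ ∈ MulAut.conj t' • w := mem_conj_self hx
  have hta := P.conj_pt hw ht
  have hta' := P.conj_pt hs ht'
  have k1 : Adj Z a (MulAut.conj t • s) := by have := hs.conj t; rwa [hta] at this
  have k2 : Adj Z a (MulAut.conj t' • w) := by have := hw.conj t'; rwa [hta'] at this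
  have h3 : t * y * t⁻¹ ∈ a ⊔ MulAut.conj t' • w := by
    have e1 : t * y * t⁻¹ = t' * x * t'⁻¹ * (α'⁻¹ * α) := by
      rw [e, e', P.abN hw.pt hyN hxN]; group
    rw [e1]
    exact mul_mem (mem_sup_right h2) (mem_sup_left (mul_mem (inv_mem hα') hα))
  have h4 : t * y * t⁻¹ ≠ 1 := fun e => hy1 (conj_eq_one_iff.1 e)
  rcases P.fus' k2 (P.adj_pt k1) h1 h3 h4 with e1 | e1
  · exact absurd e1.symm (P.adj_ne k1)
  · refine ⟨t⁻¹ * t', mul_mem (inv_mem (mem_sup_left ht)) (mem_sup_right ht'), ?_⟩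
    rw [← conj_conj, ← e1, inv_conj_conj]

/-- perp is symmetric, `cen_one` in the form (1) -/
theorem perp_of {a w p : Subgroup G} (hw : Adj Z a w) (hp : Adj Z a p) {x : G} (hx : x ∈ p) (hx1 : x ≠ 1)
    (h : x ∈ centralizer (NN Z w : Set G)) : p ≤ centralizer (NN Z w : Set G) := by
  by_contra hcon
  exact hx1 (P.cen_one hw hp hcon hx h)

/-- every `w ~ a` is perpendicular to a point of every line of `N_a` -/
theorem perp_line {a w : Subgroup G} (hw : Adj Z a w) {k : G} (hk : a = MulAut.conj k • Z 0) :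
    ∃ p, IsPt Z p ∧ p ≤ MulAut.conj k • U 1 ∧ p ≤ centralizer (NN Z w : Set G) := by
  have hu : Adj Z a (MulAut.conj k • Z 1) := ⟨k, hk, rfl⟩
  by_cases h : MulAut.conj k • Z 1 ≤ centralizer (NN Z w : Set G)
  · exact ⟨_, P.adj_pt hu, P.pt_le_line k, h⟩
  obtain ⟨y', hy', hle, hne⟩ := P.exists_other k (P.adj_pt hu)
  obtain ⟨y, hy, hy1⟩ := P.exists_ne hy'
  have hyN : y ∈ NN Z a := by
    rw [hk]
    exact P.line_le_NN k (hle hy)
  obtain ⟨x, hx, hc⟩ := P.dec hw hu h hyN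
  have h1 : x⁻¹ * y ∈ MulAut.conj k • U 1 := mul_mem (inv_mem (P.pt_le_line k hx)) (hle hy)
  have h2 : x⁻¹ * y ≠ 1 := by
    intro e
    have e1 : x = y := inv_mul_eq_one.1 e
    exact hne (P.ti _ _ hy' (P.adj_pt hu) y hy (e1 ▸ hx) hy1)
  obtain ⟨p, hp, hple, hpm⟩ := P.pts1 h1 h2
  refine ⟨p, hp, hple, P.perp_of hw ?_ hpm h2 hc⟩
  rw [hk]
  exact P.adj_of_le hp hple

theorem RR_cent {a : Subgroup G} : RR Z a ≤ centralizer (a : Set G) := by
  refine sSup_le ?_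
  rintro _ ⟨w, hw, rfl⟩
  exact P.NN_le_cent hw

omit P in
theorem conj_RR (g : G) (a : Subgroup G) : MulAut.conj g • RR Z a = RR Z (MulAut.conj g • a) := by
  have key : ∀ (g : G) (a : Subgroup G), RR Z (MulAut.conj g • a) ≤ MulAut.conj g • RR Z a := by
    intro g a
    refine sSup_le ?_
    rintro _ ⟨w, hw, rfl⟩
    have h1 := hw.conj g⁻¹
    rw [inv_conj_conj] at h1
    have h2 := conj_le_iff (g := g) |>.2 (NN_le_RR h1)
    rwa [← NN_conj, conj_inv_conj] at h2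
  refine le_antisymm ?_ (key g a)
  have h1 := key g⁻¹ (MulAut.conj g • a)
  rw [inv_conj_conj] at h1
  have h2 := conj_le_iff (g := g) |>.2 h1
  rwa [conj_inv_conj] at h2

/-- `R_a` is transitive on the `w ~ a`. -/
theorem RR_trans {a w w' : Subgroup G} (hw : Adj Z a w) (hw' : Adj Z a w') : ∃ g ∈ RR Z a, MulAut.conj g • w = w' := by
  obtain ⟨M, _, π, q⟩ := P.qt hw.pt
  obtain ⟨_, ⟨s, hs, rfl⟩, h1, h2⟩ := P.cn_one hw.pt q hw hw'
  rw [P.le_pr q hw hs] at h1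
  rw [P.le_pr q hw' hs] at h2
  obtain ⟨g₁, hg₁, e₁⟩ := P.move hw hs h1
  obtain ⟨g₂, hg₂, e₂⟩ := P.move hs hw' fun h => h2 (P.perp_symm hs hw' h)
  refine ⟨g₂ * g₁, mul_mem ?_ ?_, by rw [← conj_conj, e₁, e₂]⟩
  · exact (sup_le (NN_le_RR hs) (NN_le_RR hw')) hg₂
  · exact (sup_le (NN_le_RR hw) (NN_le_RR hs)) hg₁

/-! ### The group `W_a` -/

/-- `W_a` -/
def WW (Z U : Fin 2 → Subgroup G) (a : Subgroup G) : Subgroup G := sSup {l | LnOn Z U a l}

theorem swapk (k : G) : ∃ k' : G, MulAut.conj k' • Z 0 = MulAut.conj k • Z 1 ∧ MulAut.conj k' • Z 1 = MulAut.conj k • Z 0 ∧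
    MulAut.conj k' • U 1 = MulAut.conj k • U 0 ∧ MulAut.conj k' • U 0 = MulAut.conj k • U 1 := by
  obtain ⟨s, s0, s1, s2, s3⟩ := P.swap
  exact ⟨k * s, by rw [← conj_conj, s0], by rw [← conj_conj, s1], by rw [← conj_conj, s3], by rw [← conj_conj, s2]⟩

omit P in
theorem le_WW {a l : Subgroup G} (h : LnOn Z U a l) : l ≤ WW Z U a := le_sSup h

theorem WW_comm {a : Subgroup G} (ha : IsPt Z a) : WW Z U a ≤ centralizer (WW Z U a : Set G) := by
  refine sSup_le fun l hl => comm_symm (sSup_le fun l' hl' => ?_)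
  obtain ⟨k, rfl⟩ := ha
  have h1 : LnOn Z U (Z 0) (MulAut.conj k⁻¹ • l) := by
    have := LnOn.conj hl k⁻¹
    rwa [inv_conj_conj] at this
  have h2 : LnOn Z U (Z 0) (MulAut.conj k⁻¹ • l') := by
    have := LnOn.conj hl' k⁻¹
    rwa [inv_conj_conj] at this
  have h3 := conj_le_centralizer (g := k) (P.ab _ _ h2 h1)
  rwa [conj_inv_conj, conj_inv_conj] at h3

theorem WW_le_QQ {a : Subgroup G} : WW Z U a ≤ QQ a := by
  refine sSup_le ?_
  rintro _ ⟨k, rfl, rfl⟩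
  rw [QQ_conj]
  exact conj_le_iff.2 P.UQ'

theorem WW_cent_NN {a : Subgroup G} (ha : IsPt Z a) : WW Z U a ≤ centralizer (NN Z a : Set G) :=
  P.WW_le_QQ.trans (P.QQ_le_cent ha)

theorem a_le_WW {a : Subgroup G} (ha : IsPt Z a) : a ≤ WW Z U a := by
  obtain ⟨k, rfl⟩ := ha
  exact (conj_le_iff.2 P.ZU).trans (le_WW ⟨k, rfl, rfl⟩)

/-- `E` : the lines on `a` conjugate to `k U_0` in `H_a ∩ H_u` -/
def EE (U : Fin 2 → Subgroup G) (a u : Subgroup G) (k : G) : Subgroup G :=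
  sSup {l | ∃ d : G, MulAut.conj d • a = a ∧ MulAut.conj d • u = u ∧ l = MulAut.conj d • (MulAut.conj k • U 0)}

omit P in
theorem conj_EE {a u : Subgroup G} {k t : G} (ht : MulAut.conj t • a = a) (ht' : MulAut.conj t • u = u) {x : G}
    (hx : x ∈ EE U a u k) : t * x * t⁻¹ ∈ EE U a u k := by
  have h1 : EE U a u k ≤ MulAut.conj t⁻¹ • EE U a u k := by
    refine sSup_le ?_
    rintro _ ⟨d, h1, h2, rfl⟩
    have h3 : MulAut.conj (t * d) • (MulAut.conj k • U 0) ≤ EE U a u k :=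
      le_sSup ⟨t * d, by rw [← conj_conj, h1, ht], by rw [← conj_conj, h2, ht'], rfl⟩
    have h4 := conj_le_iff (g := t⁻¹) |>.2 h3
    rwa [← conj_conj t d, inv_conj_conj] at h4
  have h2 := h1 hx
  rw [mem_conj, inv_inv] at h2
  exact h2

/-- **`C_{N_u}(N_a) ≤ E u`** (#18644 (4)(a)) -/
theorem cent_EE {a u : Subgroup G} {k : G} (hk : a = MulAut.conj k • Z 0) (hu : u = MulAut.conj k • Z 1) {n : G}
    (hn : n ∈ NN Z u) (hc : n ∈ centralizer (NN Z a : Set G)) : ∃ e ∈ EE U a u k, e⁻¹ * n ∈ u := by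
  obtain ⟨k', k1, k2, k3, k4⟩ := P.swapk k
  rw [← hk] at k2
  rw [← hu] at k1
  have hau : Adj Z a u := ⟨k, hk, hu⟩
  have hua := P.adj_symm hau
  obtain ⟨M, _, π, q⟩ := P.qt hua.pt
  have g := P.geoO hua.pt q
  have hEN : EE U a u k ≤ NN Z u := by
    refine sSup_le ?_
    rintro _ ⟨d, h1, h2, rfl⟩
    have h3 := conj_le_iff (g := d) |>.2 (P.line_le_NN k')
    rwa [k1, k3, ← NN_conj, h2] at h3
  have hA := g.inv (x := q.im a) ⟨a, hua, rfl⟩ (A := q.im (EE U a u k)) (by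
    rintro _ ⟨w, hw, rfl⟩ hp t ht _ ⟨e, he, heN, rfl⟩
    obtain ⟨τ, hτ, h1⟩ := (P.mem_Ta q hw).1 ht
    rw [P.le_pr q hua hw] at hp
    have h2 : a ≤ centralizer (NN Z w : Set G) := P.perp_symm hua hw hp
    have h3 : MulAut.conj τ • a = a := norm_conj (centralizer_le_normalizer _ (comm_symm h2 hτ))
    rw [h1 e heN]
    have h4 := conj_EE (k := k) h3 (P.conj_pt hw hτ) he
    exact q.π_mem_im h4 (hEN h4))
  have hU : MulAut.conj k • U 0 ≤ EE U a u k :=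
    le_sSup ⟨1, by rw [map_one, one_smul], by rw [map_one, one_smul], by rw [map_one, one_smul]⟩
  rcases hA with hA | hA
  · exfalso
    obtain ⟨y', hy', hle, hne⟩ := P.exists_other k' (y := a) hau.pt
    obtain ⟨y, hy, hy1⟩ := P.exists_ne hy'
    have hay' : Adj Z u y' := by
      rw [← k1]
      exact P.adj_of_le hy' hle
    rw [k3] at hle
    exact hne (P.im_inj q hay' hua hy hy1 (hA (q.π_mem_im (hU (hle hy)) (hay'.le_NN hy))))
  · obtain ⟨e, he, heN, h1⟩ := hA ((P.mem_pr q hua hn).2 hc)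
    exact ⟨e, he, (q.eq_iff heN hn).1 h1⟩

/-- **`[W_a, N_u] ≤ a u`** (#18644 (5)) -/
theorem comm_WW {a u : Subgroup G} (hau : Adj Z a u) {w n : G} (hw : w ∈ WW Z U a) (hn : n ∈ NN Z u) :
    w * n * w⁻¹ * n⁻¹ ∈ a ⊔ u := by
  obtain ⟨k, hk, hku⟩ := hau
  have hau : Adj Z a u := ⟨k, hk, hku⟩
  have hua := P.adj_symm hau
  obtain ⟨M, _, π, q⟩ := P.qt hua.pt
  have g := P.geoO hua.pt q
  have hwa : w ∈ centralizer (a : Set G) := (centralizer_le (P.a_le_WW hau.pt)) (P.WW_comm hau.pt hw)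
  have hwu : w ∈ centralizer (u : Set G) := (centralizer_le hau.le_NN) (P.WW_cent_NN hau.pt hw)
  have hwu' : MulAut.conj w • u = u := norm_conj (centralizer_le_normalizer _ hwu)
  obtain ⟨φ, hφ⟩ := P.act_ex q hwu'
  have hwN : ∀ n ∈ NN Z u, w * n * w⁻¹ ∈ NN Z u := by
    intro n hn
    have h1 : MulAut.conj w • NN Z u = NN Z u := by rw [← NN_conj, hwu']
    rw [← h1]
    exact mem_conj_self hn
  have hEW : EE U a u k ≤ WW Z U a := by
    refine sSup_le ?_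
    rintro _ ⟨d, h1, h2, rfl⟩
    refine le_WW ⟨d * k, ?_, (conj_conj _ _ _)⟩
    rw [← conj_conj, ← hk, h1]
  have key := g.tv (x := q.im a) ⟨a, hua, rfl⟩ (φ := φ) (by
    rintro _ ⟨s, hs, rfl⟩ hr t ht
    obtain ⟨τ, hτ, h1⟩ := (P.mem_Ta q hs).1 ht
    rw [P.mp_im q hs hwu' hφ] at hr
    have h2 : MulAut.conj w • s = s := P.im_eq q (P.adj_conj_of q hs hwu') hs hr
    have h3 : w * τ * w⁻¹ ∈ NN Z s := by
      have := mem_conj_self (k := w) hτ
      rwa [← NN_conj, h2] at this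
    obtain ⟨φ', hφ'⟩ := P.act_ex q (P.conj_pt hs h3)
    refine ⟨φ', (P.mem_Ta q hs).2 ⟨_, h3, hφ'⟩, fun m => ?_⟩
    obtain ⟨n, hn, rfl⟩ := q.surj m
    have h4 : τ * n * τ⁻¹ ∈ NN Z u := by
      have := mem_conj_self (k := τ) hn
      rwa [P.conj_NN hs hτ] at this
    rw [h1 n hn, hφ n hn, hφ' _ (hwN n hn), hφ _ h4]
    congr 1
    group) (by
    rintro _ ⟨s, hs, rfl⟩ t ht t' ht' m hm he m'
    obtain ⟨τ, hτ, h1⟩ := (P.mem_Ta q hs).1 ht
    obtain ⟨τ', hτ', h1'⟩ := (P.mem_Ta q hs).1 ht'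
    obtain ⟨n, hn, rfl⟩ := q.surj m
    obtain ⟨n', hn', rfl⟩ := q.surj m'
    rw [P.mem_pr q hs hn] at hm
    have h4 : ∀ τ ∈ NN Z s, ∀ n ∈ NN Z u, τ * n * τ⁻¹ ∈ NN Z u := by
      intro τ hτ n hn
      have := mem_conj_self (k := τ) hn
      rwa [P.conj_NN hs hτ] at this
    rw [h1 n hn, h1' n hn, q.eq_iff (h4 τ hτ n hn) (h4 τ' hτ' n hn)] at he
    have hzz : τ⁻¹ * τ' ∈ NN Z s := mul_mem (inv_mem hτ) hτ'
    have h5 : τ⁻¹ * τ' ∈ centralizer (NN Z u : Set G) := by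
      refine P.lift' hs hn hm hzz ?_
      -- `n (t n t⁻¹)⁻¹ ∈ u`
      set t₀ : G := τ⁻¹ * τ' with ht₀
      have e1 : (τ * n * τ⁻¹)⁻¹ * (τ' * n * τ'⁻¹) = τ * (n⁻¹ * (t₀ * n * t₀⁻¹)) * τ⁻¹ := by
        rw [ht₀]; group
      rw [e1] at he
      have h6 : n⁻¹ * (t₀ * n * t₀⁻¹) ∈ u := by
        have h7 := mem_conj_self (k := τ⁻¹) he
        rw [conj_inv_eq (P.conj_pt hs hτ)] at h7
        have e2 : τ⁻¹ * (τ * (n⁻¹ * (t₀ * n * t₀⁻¹)) * τ⁻¹) * τ⁻¹⁻¹ = n⁻¹ * (t₀ * n * t₀⁻¹) := by group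
        rwa [e2] at h7
      have e3 : n * t₀ * n⁻¹ * t₀⁻¹ = n * (n⁻¹ * (t₀ * n * t₀⁻¹))⁻¹ * n⁻¹ := by group
      rw [e3, ← P.aN hua.pt (inv_mem h6) hn, mul_inv_cancel_right]
      exact inv_mem h6
    rw [h1 n' hn', h1' n' hn']
    congr 1
    have h6 := mem_centralizer_iff.1 h5 n' hn'
    have e4 : τ' * n' * τ'⁻¹ = τ * ((τ⁻¹ * τ') * n' * (τ⁻¹ * τ')⁻¹) * τ⁻¹ := by group
    rw [e4, ← h6, mul_inv_cancel_right]) (by
    intro m hm
    obtain ⟨n, hn, rfl⟩ := q.surj m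
    rw [P.mem_pr q hua hn] at hm
    obtain ⟨e, he, hc⟩ := P.cent_EE hk hku hn hm
    rw [hφ n hn]
    congr 1
    have h1 : e * w = w * e := mem_centralizer_iff.1 (P.WW_comm hau.pt hw) e (hEW he)
    have h2 : e⁻¹ * n * w = w * (e⁻¹ * n) := mem_centralizer_iff.1 hwu _ hc
    have h3 : w * n = n * w := by
      calc w * n = w * e * (e⁻¹ * n) := by group
        _ = e * w * (e⁻¹ * n) := by rw [h1]
        _ = e * (e⁻¹ * n * w) := by rw [h2]; group
        _ = n * w := by group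
    rw [h3, mul_inv_cancel_right])
  have h1 := key (π n)
  rw [hφ n hn] at h1
  have h2 : π (w * n * w⁻¹) - π n = π (w * n * w⁻¹ * n⁻¹) := by
    rw [q.mul _ (hwN n hn) _ (inv_mem hn), q.inv hn]; abel
  rw [h2] at h1
  obtain ⟨α, hα, hαN, e⟩ := h1
  have h3 : α⁻¹ * (w * n * w⁻¹ * n⁻¹) ∈ u := (q.eq_iff hαN (mul_mem (hwN n hn) (inv_mem hn))).1 e
  have h4 : w * n * w⁻¹ * n⁻¹ = α * (α⁻¹ * (w * n * w⁻¹ * n⁻¹)) := by group
  rw [h4]
  exact mul_mem (mem_sup_left hα) (mem_sup_right h3)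

/-- `kU_0 ≤ N_u` for `u = k Z_1` -/
theorem U_le_NN (k : G) : MulAut.conj k • U 0 ≤ NN Z (MulAut.conj k • Z 1) := by
  obtain ⟨k', k1, k2, k3, k4⟩ := P.swapk k
  have := P.line_le_NN k'
  rwa [k1, k3] at this

theorem U_le_cent (k : G) : MulAut.conj k • U 0 ≤ centralizer (NN Z (MulAut.conj k • Z 0) : Set G) := by
  obtain ⟨k', k1, k2, k3, k4⟩ := P.swapk k
  have := P.line_le_cent k'
  rwa [k2, k3] at this

/-- the points of `kU_0` are adjacent to `k Z_1` -/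
theorem adj_U {k : G} {y : Subgroup G} (hy : IsPt Z y) (hle : y ≤ MulAut.conj k • U 0) :
    Adj Z (MulAut.conj k • Z 1) y := by
  obtain ⟨k', k1, k2, k3, k4⟩ := P.swapk k
  rw [← k3] at hle
  rw [← k1]
  exact P.adj_of_le hy hle

theorem ptsU {k x : G} (hx : x ∈ MulAut.conj k • U 0) (hx1 : x ≠ 1) :
    ∃ w, IsPt Z w ∧ w ≤ MulAut.conj k • U 0 ∧ x ∈ w := by
  obtain ⟨k', k1, k2, k3, k4⟩ := P.swapk k
  rw [← k3] at hx ⊢
  exact P.pts1 hx hx1

/-- **`N_a ∩ N_u ≤ a u`** (#18644 (4)(b)) -/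
theorem inter {a u : Subgroup G} (hau : Adj Z a u) : NN Z a ⊓ NN Z u ≤ a ⊔ u := by
  obtain ⟨k, hk, hku⟩ := hau
  have hau : Adj Z a u := ⟨k, hk, hku⟩
  have hua := P.adj_symm hau
  obtain ⟨M, _, π, q⟩ := P.qt hua.pt
  have g := P.geoO hua.pt q
  have hA := g.inv (x := q.im a) ⟨a, hua, rfl⟩ (A := q.im (NN Z a ⊓ NN Z u)) (by
    rintro _ ⟨w, hw, rfl⟩ hp t ht _ ⟨e, he, heN, rfl⟩
    obtain ⟨τ, hτ, h1⟩ := (P.mem_Ta q hw).1 ht
    rw [P.le_pr q hua hw] at hp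
    have h2 : a ≤ centralizer (NN Z w : Set G) := P.perp_symm hua hw hp
    have h3 : MulAut.conj τ • a = a := norm_conj (centralizer_le_normalizer _ (comm_symm h2 hτ))
    rw [h1 e heN]
    have h4 : τ * e * τ⁻¹ ∈ NN Z a := by
      have := mem_conj_self (k := τ) he.1
      rwa [← NN_conj, h3] at this
    have h5 : τ * e * τ⁻¹ ∈ NN Z u := by
      have := mem_conj_self (k := τ) he.2
      rwa [P.conj_NN hw hτ] at this
    exact q.π_mem_im (mem_inf.2 ⟨h4, h5⟩) h5)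
  rcases hA with hA | hA
  · intro n hn
    obtain ⟨α, hα, hαN, e⟩ := hA (q.π_mem_im hn hn.2)
    have h3 : α⁻¹ * n ∈ u := (q.eq_iff hαN hn.2).1 e
    have : n = α * (α⁻¹ * n) := by group
    rw [this]
    exact mul_mem (mem_sup_left hα) (mem_sup_right h3)
  · exfalso
    -- `kU_0 ≤ N_a`
    have hUN : MulAut.conj k • U 0 ≤ NN Z u := by rw [hku]; exact P.U_le_NN k
    have hUa : MulAut.conj k • U 0 ≤ NN Z a := by
      intro v hv
      have h1 : v ∈ centralizer (NN Z a : Set G) := by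
        rw [hk]
        exact P.U_le_cent k hv
      obtain ⟨e, he, heN, e1⟩ := hA ((P.mem_pr q hua (hUN hv)).2 h1)
      have h2 : e⁻¹ * v ∈ u := (q.eq_iff heN (hUN hv)).1 e1
      have h3 : v = e * (e⁻¹ * v) := by group
      rw [h3]
      exact mul_mem he.1 (hau.le_NN h2)
    -- an element of `kU_0 - a`
    obtain ⟨k', k1, k2, k3, k4⟩ := P.swapk k
    obtain ⟨y', hy', hle, hne⟩ := P.exists_other k' (y := a) hau.pt
    rw [k3] at hle
    obtain ⟨v, hv, hv1⟩ := P.exists_ne hy'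
    have hva : v ∉ a := fun h => hne (P.ti _ _ hy' hau.pt v hv h hv1)
    obtain ⟨M', _, π', q'⟩ := P.qt hau.pt
    have g' := P.geoO hau.pt q'
    have hvN : v ∈ NN Z a := hUa (hle hv)
    have hv0 : π' v ≠ 0 := fun h => hva ((q'.ker v hvN).1 h)
    obtain ⟨_, ⟨w, hw, rfl⟩, hvw⟩ := g'.vect (π' v) hv0
    obtain ⟨T, hT2, hTa, hTu, hTf, hTU⟩ := P.Bfix' k
    rw [← hk] at hTa hTf hTU
    rw [← hku] at hTu hTf
    obtain ⟨y, hy, hyN, e⟩ := hvw
    have hy1 : y ≠ 1 := by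
      rintro rfl
      rw [q'.one] at e
      exact hv0 e.symm
    have hTw : ∀ t ∈ T, MulAut.conj t • w = w := by
      intro t ht
      obtain ⟨φ, hφ⟩ := P.act_ex q' (hTa t ht)
      have htv : t * v * t⁻¹ ∈ NN Z a := by
        have := mem_conj_self (k := t) hvN
        rwa [← NN_conj, hTa t ht] at this
      have h1 : π' (t * v * t⁻¹) = π' v := by
        rw [q'.eq_iff htv hvN]
        have h2 := hTU v (hle hv) t ht
        have h3 : (t * v * t⁻¹)⁻¹ * v = v⁻¹ * (t * v * t⁻¹ * v⁻¹)⁻¹ * v := by group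
        rw [h3]
        have h4 := P.aN hau.pt (inv_mem h2) hvN
        rw [mul_assoc, h4, inv_mul_cancel_left]
        exact inv_mem h2
      refine P.im_inj q' (P.adj_conj_of q' hw (hTa t ht)) hw (mem_conj_self hy) (fun e => hy1 (conj_eq_one_iff.1 e)) ?_
      rw [← hφ y hyN, e, hφ v hvN, h1, ← e]
      exact q'.π_mem_im hy hyN
    have hw2 : IsPGroup 2 w := by
      intro x
      exact ⟨1, Subtype.ext (P.ZsqConj (P.adj_pt hw) x x.2)⟩
    have : Fact (Nat.Prime 2) := ⟨Nat.prime_two⟩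
    have h1 : w ⊓ centralizer (T : Set G) ≠ ⊥ := by
      refine Cfsg.Agent.PLocal.OffenderStep.inf_centralizer_ne_bot w T hw2 hT2 (fun t ht => conj_norm (hTw t ht)) ?_
      obtain ⟨x, hx, hx1⟩ := P.exists_ne (P.adj_pt hw)
      exact fun h => hx1 ((eq_bot_iff_forall _).1 h x hx)
    obtain ⟨x, hx, hx1⟩ : ∃ x ∈ w ⊓ centralizer (T : Set G), x ≠ 1 := by
      by_contra hcon
      push Not at hcon
      exact h1 ((eq_bot_iff_forall _).2 hcon)
    have h2 : x ∈ a ⊔ u := hTf x (hw.le_NN hx.1) fun t ht => by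
      rw [mem_centralizer_iff.1 hx.2 t ht, mul_inv_cancel_right]
    have h3 : w = u := by
      rcases P.fus' hau (P.adj_pt hw) hx.1 h2 hx1 with h | h
      · exact absurd h.symm (P.adj_ne hw)
      · exact h
    subst h3
    -- `v ∈ a u`
    have h4 : v ∈ a ⊔ w := by
      have h5 : y⁻¹ * v ∈ a := (q'.eq_iff hyN hvN).1 e
      have : v = y * (y⁻¹ * v) := by group
      rw [this]
      exact mul_mem (mem_sup_right hy) (mem_sup_left h5)
    rcases P.fus' hau hy' hv h4 hv1 with h | h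
    · exact hne h
    · have h5 := P.adj_U hy' hle
      rw [← hku, h] at h5
      exact P.adj_ne h5 rfl

/-- `R_a` centralises `W_aN_a / aN_a` -/
theorem RR_WW {a : Subgroup G} {r w : G} (hr : r ∈ RR Z a) (hw : w ∈ WW Z U a) :
    w⁻¹ * (r * w * r⁻¹) ∈ a ⊔ NN Z a := by
  have hinv : ∀ r, MulAut.conj r • a = a → ∀ z ∈ a ⊔ NN Z a, r * z * r⁻¹ ∈ a ⊔ NN Z a := by
    intro r hr z hz
    have h1 : MulAut.conj r • (a ⊔ NN Z a) = a ⊔ NN Z a := by rw [conj_sup', ← NN_conj, hr]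
    rw [← h1]
    exact mem_conj_self hz
  let K : Subgroup G :=
    { carrier := {r | MulAut.conj r • a = a ∧ ∀ w ∈ WW Z U a, w⁻¹ * (r * w * r⁻¹) ∈ a ⊔ NN Z a}
      one_mem' := ⟨by rw [map_one, one_smul], fun w _ => by
        have : w⁻¹ * (1 * w * 1⁻¹) = 1 := by group
        rw [this]; exact one_mem _⟩
      mul_mem' := by
        rintro x y ⟨x1, x2⟩ ⟨y1, y2⟩
        refine ⟨by rw [← conj_conj, y1, x1], fun w hw => ?_⟩
        have e : w⁻¹ * (x * y * w * (x * y)⁻¹) = (w⁻¹ * (x * w * x⁻¹)) * (x * (w⁻¹ * (y * w * y⁻¹)) * x⁻¹) := by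
          group
        rw [e]
        exact mul_mem (x2 w hw) (hinv x x1 _ (y2 w hw))
      inv_mem' := by
        rintro x ⟨x1, x2⟩
        have x1' := conj_inv_eq x1
        refine ⟨x1', fun w hw => ?_⟩
        have e : w⁻¹ * (x⁻¹ * w * x⁻¹⁻¹) = x⁻¹ * (w⁻¹ * (x * w * x⁻¹))⁻¹ * x⁻¹⁻¹ := by group
        rw [e]
        exact hinv _ x1' _ (inv_mem (x2 w hw)) }
  have h1 : RR Z a ≤ K := by
    refine sSup_le ?_
    rintro _ ⟨p, hp, rfl⟩ t ht
    refine ⟨P.conj_pt hp ht, fun w hw => ?_⟩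
    have h2 := P.comm_WW hp (inv_mem hw) ht
    have e : w⁻¹ * (t * w * t⁻¹) = w⁻¹ * t * w⁻¹⁻¹ * t⁻¹ := by group
    rw [e]
    exact (sup_le_sup_left hp.le_NN a) h2
  exact (h1 hr).2 w hw

/-- `H_u ∩ R_a` normalises `kU_0` (#18644 (6)) -/
theorem norm_U {a u : Subgroup G} {k : G} (hk : a = MulAut.conj k • Z 0) (hku : u = MulAut.conj k • Z 1) {d : G}
    (hd : d ∈ RR Z a) (hdu : MulAut.conj d • u = u) :
    MulAut.conj d • (MulAut.conj k • U 0) = MulAut.conj k • U 0 := by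
  have hau : Adj Z a u := ⟨k, hk, hku⟩
  have hUW : MulAut.conj k • U 0 ≤ WW Z U a := le_WW ⟨k, hk, rfl⟩
  have haU : a ≤ MulAut.conj k • U 0 := by
    rw [hk]
    exact conj_le_iff.2 P.ZU
  have hUN : MulAut.conj k • U 0 ≤ NN Z u := by rw [hku]; exact P.U_le_NN k
  refine Subgroup.eq_of_le_of_card_ge ?_ ?_
  · intro x hx
    rw [mem_conj] at hx
    set v : G := d⁻¹ * x * d with hv
    have hxv : x = d * v * d⁻¹ := by rw [hv]; group
    by_cases hv1 : v = 1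
    · rw [hxv, hv1, mul_one, mul_inv_cancel]; exact one_mem _
    obtain ⟨p, hp, hple, hvp⟩ := P.ptsU hx hv1
    have h1 := P.RR_WW hd (hUW hx)
    obtain ⟨α, hα, n, hn, e⟩ := mem_sup_of_comm (P.self' hau.pt) h1
    have hxN : d * v * d⁻¹ ∈ NN Z u := by
      have := mem_conj_self (k := d) (hUN hx)
      rwa [← NN_conj, hdu] at this
    have hnu : n ∈ NN Z u := by
      have e1 : n = α⁻¹ * (v⁻¹ * (d * v * d⁻¹)) := by rw [e]; group
      rw [e1]
      exact mul_mem (inv_mem (hUN (haU hα))) (mul_mem (inv_mem (hUN hx)) hxN)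
    obtain ⟨α', hα', υ, hυ, e2⟩ := P.mem_au hau (P.inter hau (mem_inf.2 ⟨hn, hnu⟩))
    have e3 : d * v * d⁻¹ = v * α * α' * υ := by
      have : d * v * d⁻¹ = v * (v⁻¹ * (d * v * d⁻¹)) := by group
      rw [this, e, e2]; group
    have hv' : v * α * α' ∈ MulAut.conj k • U 0 := mul_mem (mul_mem hx (haU hα)) (haU hα')
    have hadj : Adj Z u p := by
      rw [hku]
      exact P.adj_U hp hple
    have hadj' : Adj Z u (MulAut.conj d • p) := by
      have := hadj.conj d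
      rwa [hdu] at this
    have hxp : d * v * d⁻¹ ∈ MulAut.conj d • p := mem_conj_self hvp
    have hx1 : d * v * d⁻¹ ≠ 1 := fun e => hv1 (conj_eq_one_iff.1 e)
    by_cases h0 : v * α * α' = 1
    · exfalso
      rw [h0, one_mul] at e3
      have h2 : MulAut.conj d • p = u := P.ti _ _ (P.adj_pt hadj') hadj'.pt _ hxp (e3 ▸ hυ) hx1
      exact P.adj_ne hadj' h2.symm
    · obtain ⟨p', hp', hple', hvp'⟩ := P.ptsU hv' h0
      have hadj'' : Adj Z u p' := by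
        rw [hku]
        exact P.adj_U hp' hple'
      have h2 : d * v * d⁻¹ ∈ u ⊔ p' := by
        rw [e3]
        exact mul_mem (mem_sup_right hvp') (mem_sup_left hυ)
      rcases P.fus' hadj'' (P.adj_pt hadj') hxp h2 hx1 with h3 | h3
      · exact absurd h3.symm (P.adj_ne hadj')
      · rw [hxv]
        exact hple' (h3 ▸ hxp)
  · exact (Nat.card_congr (Subgroup.equivSMul (MulAut.conj d) (MulAut.conj k • U 0 : Subgroup G)).toEquiv).le

/-- `R_a` normalises the lines on `a` -/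
theorem RR_norm {a : Subgroup G} {k : G} (hk : a = MulAut.conj k • Z 0) {r : G} (hr : r ∈ RR Z a) :
    MulAut.conj r • (MulAut.conj k • U 0) = MulAut.conj k • U 0 := by
  have h1 : RR Z a ≤ normalizer ((MulAut.conj k • U 0 : Subgroup G) : Set G) := by
    refine sSup_le ?_
    rintro _ ⟨w, hw, rfl⟩ t ht
    obtain ⟨p, hp, hple, hpw⟩ := P.perp_line hw hk
    obtain ⟨g, g1, g2, g3, g4⟩ := P.tr1 hp hple
    rw [← hk] at g2
    have hga := conj_inv_eq g2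
    have h2 : g⁻¹ * t * g ∈ RR Z a := by
      have h3 := mem_conj_self (k := g⁻¹) (NN_le_RR hw ht)
      rwa [conj_RR, hga, inv_inv] at h3
    have htp : MulAut.conj t • p = p := norm_conj (centralizer_le_normalizer _ (comm_symm hpw ht))
    have h3 : MulAut.conj (g⁻¹ * t * g) • (MulAut.conj k • Z 1) = MulAut.conj k • Z 1 := by
      rw [← conj_conj (g⁻¹ * t) g, g1, ← conj_conj, htp, ← g1, inv_conj_conj]
    have h4 := P.norm_U hk rfl h2 h3
    rw [← conj_conj (g⁻¹ * t) g, g4, ← conj_conj] at h4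
    have h5 := congrArg (fun A => MulAut.conj g • A) h4
    simp only [conj_inv_conj] at h5
    rw [g4] at h5
    exact conj_norm h5
  exact norm_conj (h1 hr)

/-- the lines on `a` lie in `N_u` for ALL `u ~ a` -/
theorem star {a u l p : Subgroup G} (hl : LnOn Z U a l) (hau : Adj Z a u) (hp : IsPt Z p) (hple : p ≤ l) :
    Adj Z u p := by
  obtain ⟨k, hk, rfl⟩ := hl
  have hu' : Adj Z a (MulAut.conj k • Z 1) := ⟨k, hk, rfl⟩
  obtain ⟨r, hr, e⟩ := P.RR_trans hu' hau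
  have h1 := P.RR_norm hk (inv_mem hr)
  have h2 : MulAut.conj r⁻¹ • p ≤ MulAut.conj k • U 0 := by
    have := conj_le_iff (g := r⁻¹) |>.2 hple
    rwa [h1] at this
  have h3 := (P.adj_U (hp.conj r⁻¹) h2).conj r
  rwa [conj_inv_conj, e] at h3

/-- perpendicular points of `N_u` are on a line -/
theorem common_line {u w w' : Subgroup G} (hw : Adj Z u w) (hw' : Adj Z u w') (hne : w ≠ w')
    (hp : w' ≤ centralizer (NN Z w : Set G)) : ∃ l, LnOn Z U w l ∧ w' ≤ l := by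
  obtain ⟨k', hk, hkw⟩ := hw
  have hw : Adj Z u w := ⟨k', hk, hkw⟩
  obtain ⟨y, hy, hyle, hyne⟩ := P.exists_other k' (y := w) (P.adj_pt hw)
  have hyu : Adj Z u y := by
    rw [hk]
    exact P.adj_of_le hy hyle
  obtain ⟨M, _, π, q⟩ := P.qt hw.pt
  have g := P.geoO hw.pt q
  obtain ⟨_, ⟨p, hpu, rfl⟩, h1, h2, h3⟩ := g.two (x := q.im w) ⟨w, hw, rfl⟩ (y := q.im y) ⟨y, hyu, rfl⟩
    (y' := q.im w') ⟨w', hw', rfl⟩ (fun e => hyne (P.im_eq q hw hyu e).symm) (fun e => hne (P.im_eq q hw hw' e))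
  rw [P.le_pr q hw hpu] at h1
  rw [P.le_pr q hyu hpu] at h2
  rw [P.le_pr q hw' hpu] at h3
  obtain ⟨g₁, hg₁, e₁⟩ := P.move hyu hpu h2
  obtain ⟨g₂, hg₂, e₂⟩ := P.move hpu hw' fun h => h3 (P.perp_symm hpu hw' h)
  have hyw : w ≤ centralizer (NN Z y : Set G) := by
    refine P.perp_symm hw hyu ?_
    rw [hkw]
    exact hyle.trans (P.line_le_cent k')
  have hc1 : NN Z y ⊔ NN Z p ≤ centralizer (w : Set G) :=
    sup_le (comm_symm hyw) (comm_symm (P.perp_symm hw hpu h1))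
  have hc2 : NN Z p ⊔ NN Z w' ≤ centralizer (w : Set G) :=
    sup_le (comm_symm (P.perp_symm hw hpu h1)) (comm_symm (P.perp_symm hw hw' hp))
  have hd1 : NN Z y ⊔ NN Z p ≤ centralizer (u : Set G) := sup_le (P.NN_le_cent hyu) (P.NN_le_cent hpu)
  have hd2 : NN Z p ⊔ NN Z w' ≤ centralizer (u : Set G) := sup_le (P.NN_le_cent hpu) (P.NN_le_cent hw')
  have hgw : MulAut.conj (g₂ * g₁) • w = w := by
    rw [← conj_conj, norm_conj (centralizer_le_normalizer _ (hc1 hg₁)),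
      norm_conj (centralizer_le_normalizer _ (hc2 hg₂))]
  have hgy : MulAut.conj (g₂ * g₁) • y = w' := by rw [← conj_conj, e₁, e₂]
  obtain ⟨k'', k1, k2, k3, k4⟩ := P.swapk (g₂ * g₁ * k')
  refine ⟨MulAut.conj k'' • U 0, ⟨k'', ?_, rfl⟩, ?_⟩
  · rw [k1, ← conj_conj, ← hkw, hgw]
  · rw [k4, ← conj_conj, ← hgy]
    exact conj_le_iff.2 hyle

/-- all neighbours of `u` are neighbours of `u'` -/
theorem nbrs {a u u' w : Subgroup G} (hau : Adj Z a u) (hau' : Adj Z a u') (hw : Adj Z u w) : Adj Z u' w := by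
  have step : ∀ w w', Adj Z u w → Adj Z u' w → Adj Z u w' → w' ≤ centralizer (NN Z w : Set G) → Adj Z u' w' := by
    intro w w' h1 h2 h3 h4
    by_cases hne : w = w'
    · rwa [← hne]
    obtain ⟨l, hl, hle⟩ := P.common_line h1 h3 hne h4
    exact P.star hl (P.adj_symm h2) (P.adj_pt h3) hle
  obtain ⟨k, hk, hka⟩ := P.adj_symm hau
  obtain ⟨p, hp, hple, hpw⟩ := P.perp_line hw hk
  have hup : Adj Z u p := by rw [hk]; exact P.adj_of_le hp hple
  have hu'p : Adj Z u' p := by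
    obtain ⟨k'', k1, k2, k3, k4⟩ := P.swapk k
    have hl : LnOn Z U a (MulAut.conj k • U 1) := ⟨k'', by rw [k1, hka], by rw [k4]⟩
    exact P.star hl hau' hp hple
  exact step p w hup hu'p hw (P.perp_symm hw hup hpw)

/-- **The transvection case is impossible.** -/
theorem false : False := by
  have h01 : Adj Z (Z 0) (Z 1) := ⟨1, by rw [map_one, one_smul], by rw [map_one, one_smul]⟩
  have key : ∀ u u', Adj Z (Z 0) u → Adj Z (Z 0) u' → NN Z u ≤ NN Z u' := fun u u' h h' =>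
    sSup_le fun w hw => (P.nbrs h h' hw).le_NN
  have h1 : HH (Z 0) ≤ normalizer (NN Z (Z 1) : Set G) := by
    intro g hg
    have h2 : Adj Z (Z 0) (MulAut.conj g • Z 1) := by
      have := h01.conj g
      rwa [norm_conj hg] at this
    apply conj_norm
    rw [← NN_conj]
    exact le_antisymm (key _ _ h2 h01) (key _ _ h01 h2)
  have h2 : IsPGroup 2 (NN Z (Z 1)) := fun x => ⟨1, Subtype.ext (by
    have := P.sq_one (P.adj_pt h01) x.2
    change (x : G) ^ 2 ^ 1 = 1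
    rw [pow_one, sq, this])⟩
  have h3 := P.nonLoc (NN Z (Z 1)) h2 h1 (PP.HH_le_NN (Z 1))
  have h4 : Z 0 ≤ NN Z (Z 1) := (P.adj_symm h01).le_NN
  rw [h3] at h4
  exact P.ne (le_bot_iff.1 h4)

end TQL

end Cfsg.Agent.Omega.NO3S.EThree

end

section


/-!
# The index is `q`: `1 ≠ [N_0, N_1] ≤ Z_0Z_1` implies `|N_0 : C_{N_0}(N_1)| = |Z_0|`

`TQ0.bd`, `TQ0.ln` : the hypotheses of `Big.Bd.false_of_line` for `N_a / a`; `TQ0.idx_eq`; `TQ0.toTQ`.
-/

set_option autoImplicit false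
set_option linter.unusedSectionVars false

namespace Cfsg.Agent.Omega.NO3S.EThree

open Subgroup Cfsg Cfsg.Agent.ZN Cfsg.Agent.Omega.MinPar
open Cfsg.Agent.Omega.NoFF.Basic (conj_conj mem_conj conj_le_iff conj_le_centralizer comm_symm comm_mono)
open Cfsg.Agent.Omega.NOThreeL.Pair (conj_eq_of_mem)
open Cfsg.Agent.Omega.OM.PG
open scoped Pointwise

universe u

variable {G : Type u} [Group G]

namespace TQ0

variable [Finite G] {Z U : Fin 2 → Subgroup G} (P : TQ0 Z U)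
include P

variable {a : Subgroup G} {M : Type u} [AddCommGroup M] {π : G → M} (q : Qt (NN Z a) a M π)
include q

theorem conj_mem_NN {w : Subgroup G} (hw : Adj Z a w) {t : G} (ht : t ∈ NN Z w) {n : G} (hn : n ∈ NN Z a) :
    t * n * t⁻¹ ∈ NN Z a := by
  rw [← P.conj_NN hw ht]
  exact mem_conj_self hn

theorem eta_ex {w : Subgroup G} (hw : Adj Z a w) {t : G} (ht : t ∈ NN Z w) :
    ∃ η : M →+ M, ∀ x ∈ NN Z a, η (π x) = π (t * x * t⁻¹) - π x := by
  obtain ⟨φ, hφ⟩ := P.act_ex q (P.conj_pt hw ht)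
  refine ⟨φ.toAddMonoidHom - AddMonoidHom.id M, fun x hx => ?_⟩
  rw [AddMonoidHom.sub_apply, ← hφ x hx]
  rfl

theorem eta_im {w : Subgroup G} (hw : Adj Z a w) {t : G} (ht : t ∈ NN Z w) {n : G} (hn : n ∈ NN Z a) :
    π (t * n * t⁻¹) - π n ∈ q.im w := by
  obtain ⟨α, hα, υ, hυ, e⟩ := P.mem_au hw (P.com' hw hn ht)
  have hυN := hw.le_NN hυ
  have htn := P.conj_mem_NN q hw ht hn
  have e1 : (t * n * t⁻¹)⁻¹ * (n * υ⁻¹) ∈ a := by
    have e2 : (t * n * t⁻¹)⁻¹ = n⁻¹ * (n * t * n⁻¹ * t⁻¹) := by group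
    have e3 : υ * n = n * υ := P.abN hw.pt hυN hn
    have e4 : n⁻¹ * α = α * n⁻¹ := (P.aN hw.pt hα (inv_mem hn)).symm
    have e5 : (t * n * t⁻¹)⁻¹ * (n * υ⁻¹) = α := by
      rw [e2, e]
      calc n⁻¹ * (α * υ) * (n * υ⁻¹) = (n⁻¹ * α) * (υ * n) * υ⁻¹ := by group
        _ = (α * n⁻¹) * (n * υ) * υ⁻¹ := by rw [e3, e4]
        _ = α := by group
    rw [e5]
    exact hα
  have e6 : π (t * n * t⁻¹) = π (n * υ⁻¹) := (q.eq_iff htn (mul_mem hn (inv_mem hυN))).2 e1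
  rw [e6, q.mul n hn _ (inv_mem hυN), add_sub_cancel_left]
  exact q.π_mem_im (inv_mem hυ) (inv_mem hυN)

/-- `t ∈ N_w` fixing a nonzero vector of the point `r` centralises `r` -/
theorem eta_one {w r : Subgroup G} (hw : Adj Z a w) {t : G} (ht : t ∈ NN Z w) (hr : Adj Z a r) {y : G} (hy : y ∈ r)
    (hy1 : y ≠ 1) (h : π (t * y * t⁻¹) = π y) : ∀ z ∈ r, z * t = t * z := by
  intro z hz
  by_cases hrw : r = w
  · subst hrw
    exact (mem_centralizer_iff.1 (P.self_le (P.adj_pt hr) hz) t ht).symm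
  · refine P.cent_of_norm hw hr hrw ht ?_ hz
    refine P.im_inj q (P.adj_conj_of q hr (P.conj_pt hw ht)) hr (mem_conj_self hy) (fun e => hy1 (conj_eq_one_iff.1 e)) ?_
    rw [h]
    exact q.π_mem_im hy (hr.le_NN hy)

/-- `N_w - 1` on `N_a / a` -/
def Te : AddSubgroup M → AddSubgroup (M →+ M) := fun p =>
  { carrier := {η | ∀ w, Adj Z a w → p = q.im w → ∃ t ∈ NN Z w, ∀ x ∈ NN Z a, η (π x) = π (t * x * t⁻¹) - π x}
    zero_mem' := fun w hw hp => ⟨1, one_mem _, fun x hx => by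
      rw [one_mul, inv_one, mul_one, sub_self]; rfl⟩
    add_mem' := by
      intro η η' hη hη' w hw hp
      obtain ⟨t, ht, h1⟩ := hη w hw hp
      obtain ⟨t', ht', h2⟩ := hη' w hw hp
      refine ⟨t * t', mul_mem ht ht', fun x hx => ?_⟩
      have hx' := P.conj_mem_NN q hw ht' hx
      have h3 := P.eta_im q hw ht' hx
      obtain ⟨υ, hυ, hυN, e⟩ := q.mem_im.1 h3
      have h4 : η (π υ) = 0 := by
        rw [h1 υ hυN]
        have : t * υ * t⁻¹ = υ := by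
          rw [mem_centralizer_iff.1 (P.self_le (P.adj_pt hw) hυ) t ht, mul_inv_cancel_right]
        rw [this, sub_self]
      have h5 : η (π (t' * x * t'⁻¹)) = η (π x) := by
        have : π (t' * x * t'⁻¹) = π υ + π x := by rw [e]; abel
        rw [this, map_add, h4, zero_add]
      have h6 := h1 _ hx'
      have e7 : t * t' * x * (t * t')⁻¹ = t * (t' * x * t'⁻¹) * t⁻¹ := by group
      rw [AddMonoidHom.add_apply, h2 x hx, e7, ← h5, h6]
      abel
    neg_mem' := by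
      intro η hη w hw hp
      obtain ⟨t, ht, h1⟩ := hη w hw hp
      refine ⟨t⁻¹, inv_mem ht, fun x hx => ?_⟩
      have hx' := P.conj_mem_NN q hw (inv_mem ht) hx
      have h3 := P.eta_im q hw (inv_mem ht) hx
      obtain ⟨υ, hυ, hυN, e⟩ := q.mem_im.1 h3
      have h4 : η (π υ) = 0 := by
        rw [h1 υ hυN]
        have : t * υ * t⁻¹ = υ := by
          rw [mem_centralizer_iff.1 (P.self_le (P.adj_pt hw) hυ) t ht, mul_inv_cancel_right]
        rw [this, sub_self]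
      have h5 : η (π (t⁻¹ * x * t⁻¹⁻¹)) = η (π x) := by
        have : π (t⁻¹ * x * t⁻¹⁻¹) = π υ + π x := by rw [e]; abel
        rw [this, map_add, h4, zero_add]
      have h6 := h1 _ hx'
      have e7 : t * (t⁻¹ * x * t⁻¹⁻¹) * t⁻¹ = x := by group
      rw [e7, h5] at h6
      rw [AddMonoidHom.neg_apply, h6]
      abel }

theorem mem_Te {w : Subgroup G} (hw : Adj Z a w) {η : M →+ M} :
    η ∈ Te P q (q.im w) ↔ ∃ t ∈ NN Z w, ∀ x ∈ NN Z a, η (π x) = π (t * x * t⁻¹) - π x := by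
  constructor
  · intro h
    exact h w hw rfl
  · rintro ⟨t, ht, h⟩ w' hw' e
    have := P.im_eq q hw hw' e
    subst this
    exact ⟨t, ht, h⟩

/-- `η` kills the point `r` iff `t` centralises `r` -/
theorem kill_iff {w r : Subgroup G} (hw : Adj Z a w) (hr : Adj Z a r) {t : G} (ht : t ∈ NN Z w) {η : M →+ M}
    (h : ∀ x ∈ NN Z a, η (π x) = π (t * x * t⁻¹) - π x) {b : M} (hb : b ∈ q.im r) (hb0 : b ≠ 0) :
    η b = 0 ↔ ∀ z ∈ r, z * t = t * z := by
  obtain ⟨y, hy, hyN, rfl⟩ := q.mem_im.1 hb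
  have hy1 : y ≠ 1 := by
    rintro rfl
    exact hb0 q.one
  constructor
  · intro h0
    rw [h y hyN, sub_eq_zero] at h0
    exact P.eta_one q hw ht hr hy hy1 h0
  · intro hc
    rw [h y hyN, ← hc y hy, mul_inv_cancel_right, sub_self]

theorem kill_of {r : Subgroup G} {t : G} {η : M →+ M}
    (h : ∀ x ∈ NN Z a, η (π x) = π (t * x * t⁻¹) - π x) (hc : ∀ z ∈ r, z * t = t * z) : ∀ v ∈ q.im r, η v = 0 := by
  rintro _ ⟨y, hy, hyN, rfl⟩
  rw [h y hyN, ← hc y hy, mul_inv_cancel_right, sub_self]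

theorem ne_zero_ex {r : Subgroup G} (hr : Adj Z a r) : ∃ v ∈ q.im r, v ≠ 0 := by
  obtain ⟨x, hx, hx1⟩ := P.exists_ne (P.adj_pt hr)
  exact ⟨π x, q.π_mem_im hx (hr.le_NN hx), P.π_ne q hr hx hx1⟩

theorem adj_iff {w r : Subgroup G} (hw : Adj Z a w) (hr : Adj Z a r) :
    Big.Adj (Te P q) (q.im w) (q.im r) ↔ ¬ r ≤ centralizer (NN Z w : Set G) := by
  constructor
  · rintro ⟨η, hη, v, hv, h0⟩ hle
    obtain ⟨t, ht, h⟩ := (P.mem_Te q hw).1 hη
    exact h0 (P.kill_of q h (fun z hz => (mem_centralizer_iff.1 (hle hz) t ht).symm) v hv)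
  · intro hle
    obtain ⟨z, hz, hzc⟩ := SetLike.not_le_iff_exists.1 hle
    rw [mem_centralizer_iff] at hzc
    push Not at hzc
    obtain ⟨t, ht, hne⟩ := hzc
    obtain ⟨η, hη⟩ := P.eta_ex q hw ht
    obtain ⟨v, hv, hv0⟩ := P.ne_zero_ex q hr
    refine ⟨η, (P.mem_Te q hw).2 ⟨t, ht, hη⟩, v, hv, fun h0 => hne ?_⟩
    exact ((P.kill_iff q hw hr ht hη hv hv0).1 h0 z hz).symm

theorem card_im {w : Subgroup G} (hw : Adj Z a w) : Nat.card (q.im w) = Nat.card (Z 0) := by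
  rw [← P.card_pt (P.adj_pt hw)]
  let f : w → q.im w := fun x => ⟨π x, q.π_mem_im x.2 (hw.le_NN x.2)⟩
  have hf : Function.Bijective f := by
    constructor
    · intro x y hxy
      have h1 : π x = π y := congrArg Subtype.val hxy
      rw [q.eq_iff (hw.le_NN x.2) (hw.le_NN y.2)] at h1
      have h2 := P.pt_disj q hw (mul_mem (inv_mem x.2) y.2) h1
      exact Subtype.ext (inv_mul_eq_one.1 h2)
    · rintro ⟨_, x, hx, hxN, rfl⟩
      exact ⟨⟨x, hx⟩, rfl⟩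
  exact (Nat.card_congr (Equiv.ofBijective f hf)).symm

theorem finM : Finite M := by
  apply Finite.of_surjective (fun x : NN Z a => π x)
  intro m
  obtain ⟨x, hx, e⟩ := q.surj m
  exact ⟨⟨x, hx⟩, e⟩

/-- surjectivity of the evaluations -/
theorem eta_sur {w r : Subgroup G} (hw : Adj Z a w) (hr : Adj Z a r) (hwr : ¬ r ≤ centralizer (NN Z w : Set G))
    {b : M} (hb : b ∈ q.im r) (hb0 : b ≠ 0) {v : M} (hv : v ∈ q.im w) : ∃ η ∈ Te P q (q.im w), η b = v := by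
  have hsym := P.adj_symm hw
  -- a point of `N_w`
  obtain ⟨z, hz, hrz⟩ : ∃ z, Adj Z w z ∧ ¬ r ≤ centralizer (z : Set G) := by
    by_contra hcon
    push Not at hcon
    apply hwr
    rw [le_centralizer_iff]
    exact sSup_le fun z hz => le_centralizer_iff.1 (hcon z hz)
  have hza : z ≠ a := by
    rintro rfl
    exact hrz (hr.le_NN.trans (P.self' hr.pt))
  obtain ⟨x₀, hx₀, hx₀N, rfl⟩ := q.mem_im.1 hb
  have hx₀1 : x₀ ≠ 1 := by
    rintro rfl
    exact hb0 q.one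
  have hzw : ∀ t ∈ z, t ∈ NN Z w := fun t ht => hz.le_NN ht
  let f : z → q.im w := fun t => ⟨π ((t : G) * x₀ * (t : G)⁻¹) - π x₀, P.eta_im q hw (hzw _ t.2) hx₀N⟩
  have hf : Function.Injective f := by
    intro s t hst
    have h1 : π ((s : G) * x₀ * (s : G)⁻¹) - π x₀ = π ((t : G) * x₀ * (t : G)⁻¹) - π x₀ := congrArg Subtype.val hst
    have h2 : π ((s : G) * x₀ * (s : G)⁻¹) = π ((t : G) * x₀ * (t : G)⁻¹) := sub_left_injective h1
    have hg : (t : G)⁻¹ * s ∈ z := mul_mem (inv_mem t.2) s.2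
    by_contra hne
    have hg1 : (t : G)⁻¹ * s ≠ 1 := fun e => hne (Subtype.ext (inv_mul_eq_one.1 e).symm)
    have h3 : π (((t : G)⁻¹ * s) * x₀ * ((t : G)⁻¹ * s)⁻¹) = π x₀ := by
      obtain ⟨φ, hφ⟩ := P.act_ex q (P.conj_pt hw (inv_mem (hzw _ t.2)))
      have h4 := congrArg φ h2
      rw [hφ _ (P.conj_mem_NN q hw (hzw _ s.2) hx₀N), hφ _ (P.conj_mem_NN q hw (hzw _ t.2) hx₀N)] at h4
      have e1 : (t : G)⁻¹ * (s * x₀ * (s : G)⁻¹) * (t : G)⁻¹⁻¹ = (t : G)⁻¹ * s * x₀ * ((t : G)⁻¹ * s)⁻¹ := by group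
      have e2 : (t : G)⁻¹ * (t * x₀ * (t : G)⁻¹) * (t : G)⁻¹⁻¹ = x₀ := by group
      rwa [e1, e2] at h4
    have h4 := P.eta_one q hw (hzw _ hg) hr hx₀ hx₀1 h3
    apply hrz
    intro x hx
    refine mem_centralizer_iff.2 fun y hy => ?_
    refine P.cent_of_norm hsym hz hza (hr.le_NN hx) ?_ hy
    refine P.norm_of (P.adj_pt hz) hg hg1 ?_
    rw [h4 x hx, mul_inv_cancel_right]
    exact hg
  have := finM P q
  have hc : Nat.card (q.im w) ≤ Nat.card z := by rw [P.card_im q hw, P.card_pt (P.adj_pt hz)]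
  obtain ⟨t, ht⟩ := (hf.bijective_of_nat_card_le hc).2 ⟨v, hv⟩
  obtain ⟨η, hη⟩ := P.eta_ex q hw (hzw _ t.2)
  exact ⟨η, (P.mem_Te q hw).2 ⟨t, hzw _ t.2, hη⟩, (hη x₀ hx₀N).trans (congrArg Subtype.val ht)⟩

theorem inv_eta {w : Subgroup G} (hw : Adj Z a w) {t : G} (ht : t ∈ NN Z w) {η : M →+ M}
    (h : ∀ x ∈ NN Z a, η (π x) = π (t * x * t⁻¹) - π x) (h2 : ∀ m, η (η m) = 0) {x : G} (hx : x ∈ NN Z a) :
    π (t⁻¹ * x * t) = π x - η (π x) := by
  have hx' : t⁻¹ * x * t ∈ NN Z a := by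
    have := P.conj_mem_NN q hw (inv_mem ht) hx
    rwa [inv_inv] at this
  have h1 := h _ hx'
  have e : t * (t⁻¹ * x * t) * t⁻¹ = x := by group
  rw [e] at h1
  have h3 : π (t⁻¹ * x * t) = π x - η (π (t⁻¹ * x * t)) := by rw [h1]; abel
  have h4 : η (π (t⁻¹ * x * t)) = η (π x) := by
    conv_lhs => rw [h3]
    rw [map_sub, h2, sub_zero]
  rw [h4] at h3
  exact h3

theorem eta_cl {w r : Subgroup G} (hw : Adj Z a w) (hr : Adj Z a r) {φ ψ : M →+ M} (hφ : φ ∈ Te P q (q.im w))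
    (hψ : ψ ∈ Te P q (q.im r)) (hk : ∀ v ∈ q.im w, ψ v = 0) : φ.comp ψ ∈ Te P q (q.im w) := by
  obtain ⟨s, hs, h1⟩ := (P.mem_Te q hw).1 hφ
  obtain ⟨t, ht, h2⟩ := (P.mem_Te q hr).1 hψ
  have imφ : ∀ m, φ m ∈ q.im w := by
    intro m
    obtain ⟨n, hn, rfl⟩ := q.surj m
    rw [h1 n hn]
    exact P.eta_im q hw hs hn
  have imψ : ∀ m, ψ m ∈ q.im r := by
    intro m
    obtain ⟨n, hn, rfl⟩ := q.surj m
    rw [h2 n hn]
    exact P.eta_im q hr ht hn
  have kφ : ∀ v ∈ q.im w, φ v = 0 := P.kill_of q h1 fun z hz =>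
    (mem_centralizer_iff.1 (P.self_le (P.adj_pt hw) hz) s hs).symm
  have kψ : ∀ v ∈ q.im r, ψ v = 0 := P.kill_of q h2 fun z hz =>
    (mem_centralizer_iff.1 (P.self_le (P.adj_pt hr) hz) t ht).symm
  obtain ⟨v, hv, hv0⟩ := P.ne_zero_ex q hw
  have htw := (P.kill_iff q hr hw ht h2 hv hv0).1 (hk v hv)
  -- `t` normalises `N_w`
  have htN : MulAut.conj t • NN Z w = NN Z w := by
    rw [← NN_conj]
    congr 1
    exact conj_eq_of_mem (centralizer_le_normalizer _ (mem_centralizer_iff.2 fun z hz => htw z hz))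
  refine (P.mem_Te q hw).2 ⟨s * (t * s⁻¹ * t⁻¹), mul_mem hs ?_, fun n hn => ?_⟩
  · rw [← htN]
    exact mem_conj_self (inv_mem hs)
  · have y1 : t⁻¹ * n * t ∈ NN Z a := by
      have := P.conj_mem_NN q hr (inv_mem ht) hn
      rwa [inv_inv] at this
    have y2 : s⁻¹ * (t⁻¹ * n * t) * s ∈ NN Z a := by
      have := P.conj_mem_NN q hw (inv_mem hs) y1
      rwa [inv_inv] at this
    have y3 : t * (s⁻¹ * (t⁻¹ * n * t) * s) * t⁻¹ ∈ NN Z a := P.conj_mem_NN q hr ht y2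
    have e1 := P.inv_eta q hr ht h2 (fun m => kψ _ (imψ m)) hn
    have e2 := P.inv_eta q hw hs h1 (fun m => kφ _ (imφ m)) y1
    have e3 : π (t * (s⁻¹ * (t⁻¹ * n * t) * s) * t⁻¹) = π (s⁻¹ * (t⁻¹ * n * t) * s) +
        ψ (π (s⁻¹ * (t⁻¹ * n * t) * s)) := by rw [h2 _ y2]; abel
    have e4 : π (s * (t * (s⁻¹ * (t⁻¹ * n * t) * s) * t⁻¹) * s⁻¹) = π (t * (s⁻¹ * (t⁻¹ * n * t) * s) * t⁻¹) +
        φ (π (t * (s⁻¹ * (t⁻¹ * n * t) * s) * t⁻¹)) := by rw [h1 _ y3]; abel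
    have e5 : s * (t * s⁻¹ * t⁻¹) * n * (s * (t * s⁻¹ * t⁻¹))⁻¹ =
        s * (t * (s⁻¹ * (t⁻¹ * n * t) * s) * t⁻¹) * s⁻¹ := by group
    have k1 : ∀ m, ψ (ψ m) = 0 := fun m => kψ _ (imψ m)
    have k2 : ∀ m, φ (φ m) = 0 := fun m => kφ _ (imφ m)
    have k3 : ∀ m, ψ (φ m) = 0 := fun m => hk _ (imφ m)
    rw [e5, e4, e3, e2, e1]
    show φ (ψ (π n)) = _
    simp only [map_sub, map_add, k1, k2, k3, map_zero]
    abel

theorem eta_card {w w' : Subgroup G} (hw : Adj Z a w) (hw' : Adj Z a w') :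
    Nat.card (Te P q (q.im w)) ≤ Nat.card (Te P q (q.im w')) := by
  obtain ⟨k, hk, hkw⟩ := id hw
  obtain ⟨k', hk', hkw'⟩ := id hw'
  set g : G := k' * k⁻¹ with hg
  have hga : MulAut.conj g • a = a := by
    conv_lhs => rw [hk, hg, ← conj_conj, inv_conj_conj]
    exact hk'.symm
  have hgw : MulAut.conj g • w = w' := by
    rw [hkw, hg, ← conj_conj, inv_conj_conj, ← hkw']
  obtain ⟨α, hα⟩ := P.act_ex q hga
  have hN : ∀ x ∈ NN Z a, g⁻¹ * x * g ∈ NN Z a := by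
    intro x hx
    have h1 : MulAut.conj g • NN Z a = NN Z a := by rw [← NN_conj, hga]
    rw [← h1, mem_conj] at hx
    exact hx
  have hN' : ∀ x ∈ NN Z a, g * x * g⁻¹ ∈ NN Z a := by
    intro x hx
    have h1 : MulAut.conj g • NN Z a = NN Z a := by rw [← NN_conj, hga]
    rw [← h1]
    exact mem_conj_self hx
  have hα' : ∀ x ∈ NN Z a, α.symm (π x) = π (g⁻¹ * x * g) := by
    intro x hx
    rw [AddEquiv.symm_apply_eq, hα _ (hN x hx)]
    congr 1
    group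
  let F : (M →+ M) → (M →+ M) := fun η => (α.toAddMonoidHom.comp η).comp α.symm.toAddMonoidHom
  have hF : ∀ η ∈ Te P q (q.im w), F η ∈ Te P q (q.im w') := by
    intro η hη
    obtain ⟨t, ht, h⟩ := (P.mem_Te q hw).1 hη
    refine (P.mem_Te q hw').2 ⟨g * t * g⁻¹, ?_, fun x hx => ?_⟩
    · rw [← hgw, NN_conj]
      exact mem_conj_self ht
    · show α (η (α.symm (π x))) = _
      rw [hα' x hx, h _ (hN x hx), map_sub, hα _ (P.conj_mem_NN q hw ht (hN x hx)), hα _ (hN x hx)]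
      congr 2 <;> group
  have hinj : Function.Injective F := by
    intro η η' e
    ext m
    have h1 : F η (α m) = F η' (α m) := by rw [e]
    have h2 : α (η (α.symm (α m))) = α (η' (α.symm (α m))) := h1
    rw [AddEquiv.symm_apply_apply] at h2
    exact α.injective h2
  have := finM P q
  have : Finite (M →+ M) := Big.Bd.finite_hom
  refine Nat.card_le_card_of_injective (fun η : Te P q (q.im w) => (⟨F η.1, hF η.1 η.2⟩ : Te P q (q.im w'))) ?_
  intro η η' e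
  exact Subtype.ext (hinj (congrArg Subtype.val e))

theorem eq_top_of {K : AddSubgroup M} (h : ∀ w, Adj Z a w → q.im w ≤ K) (m : M) : m ∈ K := by
  obtain ⟨n, hn, rfl⟩ := q.surj m
  have h1 : NN Z a ≤ q.pre K := by
    refine sSup_le fun u hu x hx => ⟨hu.le_NN hx, ?_⟩
    exact h u hu (q.π_mem_im hx (hu.le_NN hx))
  exact (h1 hn).2

/-- The data of `TBig.lean`. -/
theorem bd : Big.Bd (PPa q) (Te P q) where
  ne := by
    rintro _ ⟨w, hw, rfl⟩
    exact P.ne_zero_ex q hw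
  ti := by
    rintro _ ⟨w, hw, rfl⟩ _ ⟨w', hw', rfl⟩ m ⟨x, hx, hxN, rfl⟩ h h0
    have hx1 : x ≠ 1 := by
      rintro rfl
      exact h0 q.one
    rw [P.im_inj q hw hw' hx hx1 h]
  im := by
    rintro _ ⟨w, hw, rfl⟩ η hη m
    obtain ⟨t, ht, h1⟩ := (P.mem_Te q hw).1 hη
    obtain ⟨n, hn, rfl⟩ := q.surj m
    rw [h1 n hn]
    exact P.eta_im q hw ht hn
  ker := by
    rintro _ ⟨w, hw, rfl⟩ η hη
    obtain ⟨t, ht, h1⟩ := (P.mem_Te q hw).1 hη
    exact P.kill_of q h1 fun z hz =>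
      (mem_centralizer_iff.1 (P.self_le (P.adj_pt hw) hz) t ht).symm
  one := by
    rintro _ ⟨w, hw, rfl⟩ _ ⟨r, hr, rfl⟩ η hη b hb hb0 h0
    obtain ⟨t, ht, h1⟩ := (P.mem_Te q hw).1 hη
    exact P.kill_of q h1 ((P.kill_iff q hw hr ht h1 hb hb0).1 h0)
  cl := by
    rintro _ ⟨w, hw, rfl⟩ _ ⟨r, hr, rfl⟩ φ hφ ψ hψ hk
    exact P.eta_cl q hw hr hφ hψ hk
  sur := by
    rintro _ ⟨w, hw, rfl⟩ _ ⟨r, hr, rfl⟩ h b hb hb0 v hv
    exact P.eta_sur q hw hr ((P.adj_iff q hw hr).1 h) hb hb0 hv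
  cardP := by
    rintro _ ⟨w, hw, rfl⟩ _ ⟨r, hr, rfl⟩
    rw [P.card_im q hw, P.card_im q hr]
  cardT := by
    rintro _ ⟨w, hw, rfl⟩ _ ⟨r, hr, rfl⟩
    exact le_antisymm (P.eta_card q hw hr) (P.eta_card q hr hw)
  span := by
    intro η h
    ext m
    exact P.eq_top_of q (K := η.ker) (fun w hw v hv => h _ ⟨w, hw, rfl⟩ v hv) m
  nbr := by
    rintro _ ⟨w, hw, rfl⟩
    obtain ⟨r, hr, h⟩ := P.exists_moved hw
    exact ⟨q.im r, ⟨r, hr, rfl⟩, (P.adj_iff q hw hr).2 h⟩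

theorem le_line_of {k : G} (hk : a = MulAut.conj k • Z 0) {w : Subgroup G} (hw : Adj Z a w)
    (h : q.im w ≤ q.im (MulAut.conj k • U 1)) : w ≤ MulAut.conj k • U 1 := by
  subst hk
  obtain ⟨x, hx, hx1⟩ := P.exists_ne (P.adj_pt hw)
  obtain ⟨l, hl, hlN, e⟩ := q.mem_im.1 (h (q.π_mem_im hx (hw.le_NN hx)))
  have hl1 : l ≠ 1 := by
    rintro rfl
    rw [q.one] at e
    exact P.π_ne q hw hx hx1 e.symm
  obtain ⟨w', hw', hle, hlw⟩ := P.pts1 hl hl1
  have haw' := P.adj_of_le hw' hle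
  have : w = w' := P.im_inj q hw haw' hx hx1 (by rw [← e]; exact q.π_mem_im hlw (haw'.le_NN hlw))
  rwa [this]

/-- the line -/
theorem ln {k : G} (hk : a = MulAut.conj k • Z 0) : Big.Ln (PPa q) (Te P q) (q.im (MulAut.conj k • U 1)) where
  cov := by
    rintro _ ⟨x, hx, hxN, rfl⟩ h0
    have hx1 : x ≠ 1 := by
      rintro rfl
      exact h0 q.one
    obtain ⟨w, hw, hle, hxw⟩ := P.pts1 hx hx1
    subst hk
    exact ⟨q.im w, ⟨w, P.adj_of_le hw hle, rfl⟩, q.im_mono hle, q.π_mem_im hxw hxN⟩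
  perp := by
    rintro _ ⟨w, hw, rfl⟩ hwV _ ⟨r, hr, rfl⟩ hrV
    have h1 := P.le_line_of q hk hw hwV
    have h2 := P.le_line_of q hk hr hrV
    rw [P.adj_iff q hw hr, not_not]
    subst hk
    obtain ⟨g, g1, -, g3, -⟩ := P.tr1 (P.adj_pt hw) h1
    have h4 := P.line_le_cent (g * k)
    rw [← conj_conj, ← conj_conj, g1, g3] at h4
    exact h2.trans h4
  gen := by
    rintro _ ⟨w, hw, rfl⟩ hwV _ ⟨r, hr, rfl⟩ hrV hne
    have h1 := P.le_line_of q hk hw hwV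
    have h2 := P.le_line_of q hk hr hrV
    have hne' : w ≠ r := by
      rintro rfl
      exact hne rfl
    rw [← P.line_eq (P.adj_pt hw) (P.adj_pt hr) h1 h2 hne']
    refine (q.im_sup hw.le_NN hr.le_NN fun g hg => mem_sup_of_comm (fun z hz => ?_) hg).le
    exact mem_centralizer_iff.2 fun x hx => P.abN hw.pt (hw.le_NN hx) (hr.le_NN hz)
  two := by
    rintro _ ⟨w, hw, rfl⟩ hwV
    obtain ⟨y, hy, hle, hne⟩ := P.exists_other k (P.adj_pt hw)
    subst hk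
    have hay := P.adj_of_le hy hle
    exact ⟨q.im y, ⟨y, hay, rfl⟩, q.im_mono hle, fun e => hne (P.im_eq q hay hw e)⟩
  ex := by
    subst hk
    exact ⟨q.im (MulAut.conj k • Z 1), ⟨_, ⟨k, rfl, rfl⟩, rfl⟩, q.im_mono (P.pt_le_line k)⟩

/-- `|T_p| ≤ q` -/
theorem card_Te_le {w : Subgroup G} (hw : Adj Z a w) : Nat.card (Te P q (q.im w)) ≤ Nat.card (Z 0) := by
  have := finM P q
  obtain ⟨k, hk, -⟩ := id hw
  by_contra hcon
  push Not at hcon
  refine (P.bd q).false_of_line ?_ (P.ln q hk)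
  rintro _ ⟨r, hr, rfl⟩
  rw [P.card_im q hr, (P.bd q).cardT _ ⟨r, hr, rfl⟩ _ ⟨w, hw, rfl⟩]
  exact hcon

/-- `|N_w : C_{N_w}(N_a)| ≤ |T_w|` -/
theorem relIndex_le {w : Subgroup G} (hw : Adj Z a w) :
    (centralizer (NN Z a : Set G)).relIndex (NN Z w) ≤ Nat.card (Te P q (q.im w)) := by
  have := finM P q
  have : Finite (M →+ M) := Big.Bd.finite_hom
  let C : Subgroup G := centralizer (NN Z a : Set G)
  choose η hη using fun t : NN Z w => P.eta_ex q hw t.2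
  let f : (NN Z w ⧸ C.subgroupOf (NN Z w)) → Te P q (q.im w) := fun x =>
    ⟨η x.out, (P.mem_Te q hw).2 ⟨x.out, x.out.2, hη x.out⟩⟩
  refine Nat.card_le_card_of_injective f ?_
  intro x y hxy
  have h1 : η x.out = η y.out := congrArg Subtype.val hxy
  set s : G := (x.out : G) with hs
  set t : G := (y.out : G) with ht
  have hsN : s ∈ NN Z w := x.out.2
  have htN : t ∈ NN Z w := y.out.2
  have hst : s⁻¹ * t ∈ NN Z w := mul_mem (inv_mem hsN) htN
  have h2 : s⁻¹ * t ∈ C := by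
    have key : NN Z a ≤ centralizer ({s⁻¹ * t} : Set G) := by
      refine sSup_le fun r hr => ?_
      obtain ⟨y₀, hy₀, hy₀1⟩ := P.exists_ne (P.adj_pt hr)
      have hy₀N := hr.le_NN hy₀
      have h3 : π (s * y₀ * s⁻¹) = π (t * y₀ * t⁻¹) := by
        have h4 := hη x.out y₀ hy₀N
        rw [h1, hη y.out y₀ hy₀N] at h4
        exact (sub_left_injective h4).symm
      have h5 : π ((s⁻¹ * t) * y₀ * (s⁻¹ * t)⁻¹) = π y₀ := by
        obtain ⟨φ, hφ⟩ := P.act_ex q (P.conj_pt hw (inv_mem hsN))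
        have h6 := congrArg φ h3
        rw [hφ _ (P.conj_mem_NN q hw hsN hy₀N), hφ _ (P.conj_mem_NN q hw htN hy₀N)] at h6
        have e1 : s⁻¹ * (s * y₀ * s⁻¹) * s⁻¹⁻¹ = y₀ := by group
        have e2 : s⁻¹ * (t * y₀ * t⁻¹) * s⁻¹⁻¹ = s⁻¹ * t * y₀ * (s⁻¹ * t)⁻¹ := by group
        rw [e1, e2] at h6
        exact h6.symm
      have h6 := P.eta_one q hw hst hr hy₀ hy₀1 h5
      intro z hz
      rw [mem_centralizer_singleton_iff]
      exact h6 z hz
    refine mem_centralizer_iff.2 fun n hn => ?_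
    exact (mem_centralizer_singleton_iff.1 (key hn))
  have h3 : (x.out)⁻¹ * y.out ∈ C.subgroupOf (NN Z w) := h2
  have h4 : ((x.out : NN Z w) : NN Z w ⧸ C.subgroupOf (NN Z w)) = (y.out : NN Z w) := QuotientGroup.eq.2 h3
  rwa [QuotientGroup.out_eq', QuotientGroup.out_eq'] at h4

omit q in
/-- **The index is `q`.** -/
theorem idx_eq : (centralizer (NN Z (Z 1) : Set G)).relIndex (NN Z (Z 0)) = Nat.card (Z 0) := by
  have h01 : Adj Z (Z 0) (Z 1) := ⟨1, by rw [map_one, one_smul], by rw [map_one, one_smul]⟩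
  have h10 := P.adj_symm h01
  apply le_antisymm
  · obtain ⟨M, _, π, q⟩ := exists_qt (NN Z (Z 1)) (Z 1) fun _ hx _ hy => P.abN h10.pt hx hy
    exact (P.relIndex_le q h10).trans (P.card_Te_le q h10)
  · obtain ⟨w, hw, hwu⟩ := P.exists_moved h01
    rw [← P.card_pt (P.adj_pt hw)]
    let C : Subgroup G := centralizer (NN Z (Z 1) : Set G)
    refine Nat.card_le_card_of_injective
      (fun y : w => ((⟨y, hw.le_NN y.2⟩ : NN Z (Z 0)) : NN Z (Z 0) ⧸ C.subgroupOf (NN Z (Z 0)))) ?_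
    intro y z hyz
    have h1 : (⟨y, hw.le_NN y.2⟩ : NN Z (Z 0))⁻¹ * ⟨z, hw.le_NN z.2⟩ ∈ C.subgroupOf (NN Z (Z 0)) :=
      QuotientGroup.eq.1 hyz
    have h2 : (y : G)⁻¹ * z ∈ C := h1
    have h3 := P.cen_one h01 hw hwu (mul_mem (inv_mem y.2) z.2) h2
    exact Subtype.ext (inv_mul_eq_one.1 h3)

omit q in
theorem toTQ : TQ Z U where
  toTQ0 := P
  idx := P.idx_eq

end TQ0

end Cfsg.Agent.Omega.NO3S.EThree

end

end

-- merged: Cfsg.Agent.Mrg.Omega.NO3S.EThree.TPlug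
section

section


/-!
# NO-3S, case (E), `[N_1, N_2] ≤ Z_1Z_2`, over the frame `Bg` (all `q`, every level)

* `Bg.core_sq` : a subgroup `J ⊴ N_G(Z i)` with `y² ∈ C(N_1)` for all `y ∈ J` centralises `N_1`;
* `Bg.toTQL` : two blocks, TI, nonlocal, `1 ≠ [N_1, N_2] ≤ Z_1Z_2` give `TQL`;
* `Bg.comm_false` : this is impossible.
-/

set_option autoImplicit false
set_option linter.unusedSectionVars false

namespace Cfsg.Agent.Omega.NO3S.EThree.Frame

open Subgroup Cfsg Cfsg.Agent.ZN.ChoiceBase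
open Cfsg.Agent.ZN (jj zj bau zc zl o2)
open Cfsg.Agent.ZN.ChoiceSit (Syl exists_syl syl_conj syl_not_dvd)
open Cfsg.Agent.Omega.OM Cfsg.Agent.Omega.OM.Uni
open Cfsg.Agent.Omega.MinPar (NonLoc)
open scoped Pointwise

universe u

variable {G : Type u} [Group G]

/-- `|F ⊔ X : F| = |X : F ∩ X|` for `X ≤ N(F)` -/
theorem relIndex_sup_nor {F X : Subgroup G} (h : X ≤ normalizer (F : Set G)) :
    F.relIndex (F ⊔ X) = F.relIndex X := by
  have hF : F ≤ F ⊔ X := le_sup_left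
  have hX : X ≤ F ⊔ X := le_sup_right
  have hn : (F.subgroupOf (F ⊔ X)).Normal := by
    rw [← normalizer_eq_top_iff, eq_top_iff]
    have h1 : F ⊔ X ≤ normalizer (F : Set G) := sup_le Subgroup.le_normalizer h
    rintro ⟨x, hx⟩ -
    rw [mem_normalizer_iff]
    rintro ⟨y, hy⟩
    simp only [mem_subgroupOf]
    exact mem_normalizer_iff.1 (h1 hx) y
  have h1 := relIndex_sup_left (X.subgroupOf (F ⊔ X)) (F.subgroupOf (F ⊔ X))
  have h2 : F.subgroupOf (F ⊔ X) ⊔ X.subgroupOf (F ⊔ X) = (F ⊔ X).subgroupOf (F ⊔ X) :=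
    (subgroupOf_sup hF hX).symm
  rw [h2] at h1
  rwa [relIndex_subgroupOf le_rfl, relIndex_subgroupOf hX] at h1

namespace Bg

section A

variable [Finite G] {S : Sylow 2 G} {P : Subgroup G} {ι : Type} {B ZJ : Subgroup G}
  {L W Z C : ι → Subgroup G} {q : ℕ} (h : Bg S P B ZJ L W Z C q) {i j : ι} {s : G} (p : Pa (S : Subgroup G) W i j s)
include h p

/-- A subgroup `J ⊴ H₁` with `y² ∈ C(N₁)` for all `y ∈ J` centralises `N₁`. -/
theorem core_sq [Finite ι] {J : Subgroup G} (hJ : J ≤ normalizer (Z i : Set G))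
    (hn : normalizer (Z i : Set G) ≤ normalizer (J : Set G))
    (hsq : ∀ y ∈ J, y * y ∈ centralizer (PG.NN ![Z i, Z j] (Z i) : Set G)) :
    J ≤ centralizer (PG.NN ![Z i, Z j] (Z i) : Set G) := by
  have : Fact (Nat.Prime 2) := ⟨Nat.prime_two⟩
  set H : Subgroup G := normalizer (Z i : Set G) with hH
  set F : Subgroup G := PG.FF ![Z i, Z j] (Z i) with hF
  set T : Subgroup G := (S : Subgroup G) ⊓ H with hT
  set M : Subgroup G := F ⊔ J with hM
  have hFH : F ≤ H := inf_le_left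
  have hMH : M ≤ H := sup_le hFH hJ
  have hFn : H ≤ normalizer (F : Set G) := PG.PP.HH_le_FF (Z i)
  have hMn : H ≤ normalizer (M : Set G) := by
    intro x hx
    rw [mem_normalizer_iff_cj, hM]
    refine (conj_sup' x F J).trans ?_
    exact congrArg₂ (· ⊔ ·) (cj_eq_of_mem_normalizer (hFn hx)) (cj_eq_of_mem_normalizer (hn hx))
  have hTH : T ≤ H := inf_le_right
  -- `|M : F|` is a power of 2
  have h1 : ∃ n, F.relIndex M = 2 ^ n := by
    rw [hM, relIndex_sup_nor (hJ.trans hFn)]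
    have hnor : (F.subgroupOf J).Normal := by
      rw [← normalizer_eq_top_iff, eq_top_iff]
      rintro ⟨x, hx⟩ -
      rw [mem_normalizer_iff]
      rintro ⟨y, hy⟩
      simp only [mem_subgroupOf]
      exact mem_normalizer_iff.1 (hFn (hJ hx)) y
    have h2 : IsPGroup 2 (J ⧸ F.subgroupOf J) := by
      intro x
      obtain ⟨y, rfl⟩ := QuotientGroup.mk'_surjective _ x
      refine ⟨1, ?_⟩
      rw [← map_pow, pow_one, pow_two, QuotientGroup.mk'_apply, QuotientGroup.eq_one_iff, mem_subgroupOf]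
      exact ⟨hJ (y * y).2, hsq y y.2⟩
    obtain ⟨n, hn⟩ := IsPGroup.iff_card.1 h2
    exact ⟨n, by rw [relIndex, index, hn]⟩
  -- `|M : T ∩ M|` is odd
  have h2 : ¬ 2 ∣ (T ⊓ M).relIndex M := by
    rw [inf_relIndex_right]
    intro hd
    apply syl_not_dvd (h.syl i)
    refine hd.trans ?_
    have h3 : T.relIndex M ∣ T.relIndex H := by
      have h4 : T.relIndex M = T.relIndex (M ⊔ T) := by
        have e1 : M.relIndex (M ⊔ T) = M.relIndex T := relIndex_sup_nor (hTH.trans hMn)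
        have e2 := relIndex_mul_relIndex (T ⊓ M) M (M ⊔ T) inf_le_right le_sup_left
        have e3 := relIndex_mul_relIndex (T ⊓ M) T (M ⊔ T) inf_le_left le_sup_right
        rw [inf_relIndex_right, e1] at e2
        rw [inf_relIndex_left, mul_comm, ← e2] at e3
        exact (Nat.eq_of_mul_eq_mul_right (Nat.pos_of_dvd_of_pos (relIndex_dvd_card M T) Nat.card_pos)
          (by rw [mul_comm, ← e3, mul_comm])).symm
      rw [h4, ← relIndex_mul_relIndex T (M ⊔ T) H le_sup_right (sup_le hMH hTH)]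
      exact dvd_mul_right _ _
    exact h3
  -- `F ⊔ (T ∩ M) = M`
  have h3 : F ⊔ (T ⊓ M) = M := by
    refine le_antisymm (sup_le le_sup_left inf_le_right) ?_
    rw [← relIndex_eq_one]
    obtain ⟨n, hn⟩ := h1
    have e1 : (F ⊔ (T ⊓ M)).relIndex M ∣ 2 ^ n := hn ▸ relIndex_dvd_of_le_left _ le_sup_left
    have e2 : (F ⊔ (T ⊓ M)).relIndex M ∣ (T ⊓ M).relIndex M := relIndex_dvd_of_le_left _ le_sup_right
    obtain ⟨a, -, ha⟩ := (Nat.dvd_prime_pow Nat.prime_two).1 e1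
    rcases Nat.eq_zero_or_pos a with rfl | ha0
    · simpa using ha
    · exact absurd ((dvd_pow_self 2 ha0.ne').trans (ha ▸ e2)) h2
  have h4 : T ⊓ M ≤ F := h.core p (R := T ⊓ M) inf_le_left (by rw [← hF, h3]; exact hMn)
  have h5 : M ≤ F := by
    rw [← h3]
    exact sup_le le_rfl h4
  exact (le_sup_right.trans h5).trans inf_le_right

theorem toTQL [Finite ι] (h2 : ∀ l : ι, l = i ∨ l = j) (hTI : TI (Z i))
    (hnl : NonLoc (normalizer (Z i : Set G)) (normalizer (Z j : Set G)))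
    (com : ∀ n ∈ PG.NN ![Z i, Z j] (Z i), ∀ t ∈ PG.NN ![Z i, Z j] (Z j), n * t * n⁻¹ * t⁻¹ ∈ Z i ⊔ Z j)
    (nc : ¬ PG.NN ![Z i, Z j] (Z i) ≤ centralizer (PG.NN ![Z i, Z j] (Z j) : Set G)) :
    TQL ![Z i, Z j] ![W i, W j] B := by
  have PP' := h.toPP p hTI hnl
  have hsZ : cj s (Z i) = Z j := h.cj_s_Z p
  have ti : ∀ a b : Subgroup G, PG.IsPt ![Z i, Z j] a → PG.IsPt ![Z i, Z j] b → ∀ x ∈ a, x ∈ b → x ≠ 1 → a = b := by
    rintro _ _ ⟨k, rfl⟩ ⟨l, rfl⟩ x hx hx' hx1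
    have h1 : cj (l⁻¹ * k) (Z i) = Z i := by
      apply hTI
      intro hbot
      have h3 : l⁻¹ * x * l ∈ cj (l⁻¹ * k) (Z i) ⊓ Z i := by
        refine mem_inf.2 ⟨?_, mem_cj.1 hx'⟩
        rw [mem_cj]
        have e : (l⁻¹ * k)⁻¹ * (l⁻¹ * x * l) * (l⁻¹ * k) = k⁻¹ * x * k := by group
        rw [e]
        exact mem_cj.1 hx
      rw [hbot, mem_bot] at h3
      apply hx1
      have e : x = l * (l⁻¹ * x * l) * l⁻¹ := by group
      rw [e, h3]; group
    have h3 := congrArg (cj l) h1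
    rw [cj_cj, mul_inv_cancel_left] at h3
    exact h3
  have hNZ : Z i ⊔ Z j ≤ ZJ := sup_le (h.fr.Z_le i) (h.fr.Z_le j)
  have hpi : PG.IsPt ![Z i, Z j] (Z i) := ⟨1, by rw [map_one, one_smul]; rfl⟩
  have hpj : PG.IsPt ![Z i, Z j] (Z j) := ⟨s, hsZ.symm⟩
  have Q0 : TQ0 ![Z i, Z j] ![W i, W j] := by
    refine
      { toPP := PP'
        ti := ti
        fus := ?_
        self := ?_
        com := com
        nc := nc
        pts := ?_
        cardU := ?_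
        UQ' := h.W_le_o2 i }
    · rintro a ⟨g, rfl⟩ x hx hx' hx1
      change x ∈ Z i ⊔ Z j at hx'
      obtain ⟨l, hl⟩ := h.fus (hNZ hx') (mem_cj.1 hx)
      rcases h2 l with rfl | rfl
      · left
        exact ti _ _ ⟨g, rfl⟩ hpi x hx hl hx1
      · right
        exact ti _ _ ⟨g, rfl⟩ hpj x hx hl hx1
    · exact PP'.N_le_Q.trans (h.o2_cent i)
    · intro x hx hx1
      obtain ⟨l, hl, hlc, y, hy, e⟩ := h.tr i x hx hx1
      refine ⟨cj l (Z i), ⟨l, rfl⟩, ?_, ?_⟩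
      · change cj l (Z i) ≤ W i
        rw [← h.fix hl hlc i]
        exact cj_mono l (h.fr.blk i).ZV
      · rw [← e]
        exact ⟨y, hy, rfl⟩
    · change Nat.card (W i) = Nat.card (Z i) ^ 2
      rw [(h.fr.blk i).card, h.fr.cardZ i, pow_two]
  refine
    { toTQ := Q0.toTQ
      core := fun J hJ hn hsq => h.core_sq p hJ hn hsq
      B2 := h.bau_two
      B0 := (h.bau_le_T i).trans inf_le_right
      B1 := (h.bau_le_T j).trans inf_le_right
      BU := fun x hx b hb => (h.fr.blk i).com b hb x hx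
      Bfix := ?_
      ab := ?_ }
  · intro n hn hfix
    change n ∈ PG.NN ![Z i, Z j] (Z i) at hn
    change n ∈ Z i ⊔ Z j
    have hnB : n ∈ B := h.o2_le i (PP'.N_le_Q hn)
    have hn2 : n ^ 2 = 1 := NoFF.Lines.Geo.sq_of_comm (PP'.NN_comm hpi)
      (ι := {u : Subgroup G // PG.Adj ![Z i, Z j] (Z i) u}) (B := fun u => (u : Subgroup G)) (fun u => u.2.le_NN)
      (sSup_le fun u hu => le_iSup (fun u : {u : Subgroup G // PG.Adj ![Z i, Z j] (Z i) u} => (u : Subgroup G))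
        ⟨u, hu⟩) (fun u => PP'.ZsqConj (PP'.adj_pt u.2)) n hn
    have hz : n ∈ ZJ := by
      rw [← h.fr.zcB, mem_zc]
      refine ⟨hnB, hn2, fun b hb => ?_⟩
      exact mul_inv_eq_iff_eq_mul.1 (hfix b hb)
    obtain ⟨w, hw, c, hc, hcJ, rfl⟩ := h.fr.split_ZJ i hz
    refine mul_mem (mem_sup_left hw) (mem_sup_right ?_)
    obtain ⟨w', hw', c', hc', -, e⟩ := h.fr.split_ZJ j hcJ
    -- `c' ∈ C i ⊓ C j = 1`
    have h3 : c' ∈ C i := by
      have : c' = w'⁻¹ * c := by rw [e]; group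
      rw [this]
      exact mul_mem (inv_mem (h.fr.WjC i j p.ne ((h.fr.blk j).ZV hw') : _)) hc
    have h4 : c' = 1 := h.fr.C0 _ (h.fr.CV i h3) fun l => by
      rcases h2 l with rfl | rfl
      · exact h3
      · exact hc'
    rw [e, h4, mul_one]
    exact hw'
  · rintro _ _ ⟨k, hk, rfl⟩ ⟨k', hk', rfl⟩
    have e1 : k ∈ normalizer (Z i : Set G) := mem_normalizer_iff_cj.2 hk.symm
    have e2 : k' ∈ normalizer (Z i : Set G) := mem_normalizer_iff_cj.2 hk'.symm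
    refine le_trans (cj_mono k (h.fr.WV i)) ((h.comm i e1 e2).trans (centralizer_le ?_))
    exact cj_mono k' (h.fr.WV i)

/-- **`1 ≠ [N_1, N_2] ≤ Z_1Z_2` is impossible (two blocks, all `q`, radical or not).** -/
theorem comm_false [Finite ι] (h2 : ∀ l : ι, l = i ∨ l = j) (hTI : TI (Z i))
    (hnl : NonLoc (normalizer (Z i : Set G)) (normalizer (Z j : Set G)))
    (com : ∀ n ∈ PG.NN ![Z i, Z j] (Z i), ∀ t ∈ PG.NN ![Z i, Z j] (Z j), n * t * n⁻¹ * t⁻¹ ∈ Z i ⊔ Z j)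
    (nc : ¬ PG.NN ![Z i, Z j] (Z i) ≤ centralizer (PG.NN ![Z i, Z j] (Z j) : Set G)) : False :=
  (h.toTQL p h2 hTI hnl com nc).false

/-- `[N_1, N_2] ≤ Z_1Z_2` implies `[N_1, N_2] = 1`. -/
theorem comm_of_le [Finite ι] (h2 : ∀ l : ι, l = i ∨ l = j) (hTI : TI (Z i))
    (hnl : NonLoc (normalizer (Z i : Set G)) (normalizer (Z j : Set G)))
    (com : ∀ n ∈ PG.NN ![Z i, Z j] (Z i), ∀ t ∈ PG.NN ![Z i, Z j] (Z j), n * t * n⁻¹ * t⁻¹ ∈ Z i ⊔ Z j) :
    PG.NN ![Z i, Z j] (Z i) ≤ centralizer (PG.NN ![Z i, Z j] (Z j) : Set G) := by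
  by_contra nc
  exact h.comm_false p h2 hTI hnl com nc

/-- `[N_1, N_2] ≠ 1` implies `N_1 ∩ N_2 ≰ Z_1Z_2`. -/
theorem not_inter_le [Finite ι] (h2 : ∀ l : ι, l = i ∨ l = j) (hTI : TI (Z i))
    (hnl : NonLoc (normalizer (Z i : Set G)) (normalizer (Z j : Set G)))
    (nc : ¬ PG.NN ![Z i, Z j] (Z i) ≤ centralizer (PG.NN ![Z i, Z j] (Z j) : Set G)) :
    ¬ PG.NN ![Z i, Z j] (Z i) ⊓ PG.NN ![Z i, Z j] (Z j) ≤ Z i ⊔ Z j := by
  intro hle
  have PP' := h.toPP p hTI hnl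
  have hA : PG.Adj ![Z i, Z j] (Z i) (Z j) := ⟨1, by rw [map_one, one_smul]; rfl, by rw [map_one, one_smul]; rfl⟩
  have hA' := PP'.adj_symm hA
  refine nc (h.comm_of_le p h2 hTI hnl fun n hn t ht => hle (mem_inf.2 ⟨?_, ?_⟩))
  · have h1 : t ∈ normalizer (PG.NN ![Z i, Z j] (Z i) : Set G) :=
      PG.PP.HH_le_NN (Z i) (PP'.QQ_le_HH hA (PP'.NN_le_QQ hA'.pt ht))
    have h3 : t * n⁻¹ * t⁻¹ ∈ PG.NN ![Z i, Z j] (Z i) := (mem_normalizer_iff.1 h1 _).1 (inv_mem hn)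
    have e : n * t * n⁻¹ * t⁻¹ = n * (t * n⁻¹ * t⁻¹) := by group
    rw [e]
    exact mul_mem hn h3
  · have h1 : n ∈ normalizer (PG.NN ![Z i, Z j] (Z j) : Set G) :=
      PG.PP.HH_le_NN (Z j) (PP'.QQ_le_HH hA' (PP'.NN_le_QQ hA.pt hn))
    exact mul_mem ((mem_normalizer_iff.1 h1 _).1 ht) (inv_mem ht)

end A

end Bg

end Cfsg.Agent.Omega.NO3S.EThree.Frame

end

section


/-!
# NO-3S, case (E), `k = 2`, all `q`: the frame `FQ` from the frame `Bg` (every level)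

`FQ.of_bg : Bg S P B ZJ L W Z C q → TI (Z 0) → NonLoc (N(Z 0)) (N(Z 1)) → FQ Z W B q` (`ι = Fin 2`).
-/

set_option autoImplicit false
set_option linter.unusedSectionVars false

namespace Cfsg.Agent.Omega.NO3S.EThree

open Subgroup Cfsg Cfsg.Agent.ZN.ChoiceBase
open Cfsg.Agent.ZN (zc zl o2)
open Cfsg.Agent.ZN.ChoiceSit (Syl)
open Cfsg.Agent.Omega.OM Cfsg.Agent.Omega.OM.Uni
open Cfsg.Agent.Omega.NO3S (HypJ HypN Hyp)
open Cfsg.Agent.Omega.NO3S.EThree.Frame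
open scoped Pointwise

universe u

variable {G : Type u} [Group G]

namespace BgQ

theorem other {i j : Fin 2} (hij : i ≠ j) : j = 1 - i := by
  have h2 : ∀ a b : Fin 2, a ≠ b → b = 1 - a := by decide
  exact h2 i j hij

variable [Finite G] {S : Sylow 2 G} {P B ZJ : Subgroup G} {L W Z C : Fin 2 → Subgroup G} {q : ℕ}
  (h : Bg S P B ZJ L W Z C q)
include h

theorem C_le_W {i j : Fin 2} (hij : i ≠ j) : C i ≤ W j := by
  refine (h.C_le i).trans (iSup_le fun l => ?_)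
  have : (l : Fin 2) = j := by
    have h1 := l.2
    have h2 : ∀ a b c : Fin 2, a ≠ b → c ≠ a → c = b := by decide
    exact h2 i j l hij h1
  rw [this]

theorem C_eq_W {i j : Fin 2} (hij : i ≠ j) : C i = W j := le_antisymm (C_le_W h hij) (h.fr.WjC i j hij)

theorem W_inf_ZJ (i : Fin 2) {x : G} (hx : x ∈ W i) (hz : x ∈ ZJ) : x ∈ Z i :=
  (h.fr.blk i).toMd.mem_Z_iff.2 ⟨hx, fun b hb => ((h.fr.mem_ZJ x).1 hz).2 b hb⟩

theorem ZJ_eq : ZJ = Z 0 ⊔ Z 1 := by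
  apply le_antisymm
  · intro z hz
    obtain ⟨w, hw, c, hc, hcz, rfl⟩ := h.fr.split_ZJ 0 hz
    exact mul_mem (mem_sup_left hw) (mem_sup_right (W_inf_ZJ h 1 (C_le_W h (by decide) hc) hcz))
  · exact sup_le (h.fr.Z_le 0) (h.fr.Z_le 1)

theorem V_eq : zl (S : Subgroup G) P = W 0 ⊔ W 1 := by
  apply le_antisymm
  · intro v hv
    obtain ⟨w, hw, c, hc, rfl⟩ := h.fr.WC 0 v hv
    exact mul_mem (mem_sup_left hw) (mem_sup_right (C_le_W h (by decide) hc))
  · exact sup_le (h.fr.WV 0) (h.fr.WV 1)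

theorem cent_iff {x : G} : (∀ v ∈ zl (S : Subgroup G) P, x * v = v * x) ↔ ∀ i, x ∈ centralizer (W i : Set G) := by
  constructor
  · intro hx i
    exact mem_centralizer_iff.2 fun w hw => (hx w (h.fr.WV i hw)).symm
  · intro hx v hv
    obtain ⟨w, hw, c, hc, rfl⟩ := h.fr.WC 0 v hv
    have h1 := mem_centralizer_iff.1 (hx 0) w hw
    have h2 := mem_centralizer_iff.1 (hx 1) c (C_le_W h (by decide) hc)
    have c1 : Commute x w := h1.symm
    have c2 : Commute x c := h2.symm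
    exact (c1.mul_right c2).eq

theorem mem_Q_iff {x : G} : x ∈ o2 P ↔ x ∈ B ∧ ∀ i, x ∈ centralizer (W i : Set G) := by
  constructor
  · intro hx
    exact ⟨h.fr.QB hx, (cent_iff h).1 ((h.fr.mem_Q x (h.fr.QB hx)).1 hx)⟩
  · rintro ⟨hx, h1⟩
    exact (h.fr.mem_Q x hx).2 ((cent_iff h).2 h1)

theorem Q_eq {i j : Fin 2} (hij : i ≠ j) :
    B ⊓ centralizer (W i : Set G) ⊓ centralizer (W j : Set G) = o2 P := by
  ext x
  rw [mem_Q_iff h]
  constructor
  · rintro ⟨⟨h1, h2⟩, h3⟩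
    refine ⟨h1, fun l => ?_⟩
    have h4 : ∀ a b c : Fin 2, a ≠ b → c = a ∨ c = b := by decide
    rcases h4 i j l hij with rfl | rfl
    · exact h2
    · exact h3
  · rintro ⟨h1, h2⟩
    exact ⟨⟨h1, h2 i⟩, h2 j⟩

theorem cj_W_L {i : Fin 2} {l : G} (hl : l ∈ L i) : cj l (W i) = W i := by
  refine Subgroup.eq_of_le_of_card_ge ?_ (by rw [card_cj])
  rintro _ ⟨w, hw, rfl⟩
  exact (h.fr.blk i).nV l hl w hw

theorem mvl {i j : Fin 2} (hij : i ≠ j) : ∃ l : G, MulAut.conj l • W i = W i ∧ MulAut.conj l • Z i ⊓ Z i = ⊥ ∧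
    l ∈ centralizer (Z j : Set G) ∧
    MulAut.conj l • (B ⊓ centralizer (W i : Set G)) = B ⊓ centralizer (W i : Set G) ∧
    MulAut.conj l • (B ⊓ centralizer (W i : Set G) ⊓ centralizer (W j : Set G)) =
      B ⊓ centralizer (W i : Set G) ⊓ centralizer (W j : Set G) := by
  obtain ⟨l, hl, hne, -⟩ := (h.fr.blk i).exists_mv
  refine ⟨l, cj_W_L h hl, (h.fr.blk i).nat_tri (h.fr.cardZ i) hl hne, ?_, ?_, ?_⟩
  · exact mem_centralizer_iff.2 fun z hz =>
      (h.fr.LC i l hl z (h.fr.Z_le j hz) (h.fr.WjC i j hij ((h.fr.blk j).ZV hz))).symm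
  · change cj l _ = _
    refine Subgroup.eq_of_le_of_card_ge ?_ (by rw [card_cj])
    have h1 : cj l (centralizer (W i : Set G)) = centralizer (W i : Set G) := by
      rw [cj_centralizer, cj_W_L h hl]
    rintro _ ⟨x, ⟨hx, hxc⟩, rfl⟩
    refine mem_inf.2 ⟨?_, ?_⟩
    · exact (h.fr.blk i).cor l hl x hx fun v hv => (mem_centralizer_iff.1 hxc v hv).symm
    · rw [← h1]
      exact ⟨x, hxc, rfl⟩
  · change cj l _ = _
    rw [Q_eq h hij]
    refine Subgroup.eq_of_le_of_card_ge ?_ (by rw [card_cj])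
    rintro _ ⟨x, hx, rfl⟩
    exact h.fr.LQ i l hl x hx

theorem tor {i j : Fin 2} (hij : i ≠ j) {x : G} (hx : x ∈ W i) (hxZ : x ∉ Z i) {y : G} (hy : y ∈ W i)
    (hyZ : y ∉ Z i) : ∃ t : G, t ∈ centralizer (W j : Set G) ∧
    MulAut.conj t • Z i = Z i ∧ MulAut.conj t • W i = W i ∧ y⁻¹ * (t * x * t⁻¹) ∈ Z i := by
  rcases Nat.lt_or_ge 2 q with hq | hq
  · obtain ⟨t, htP, htC, htZ, -, ht, -⟩ := (h.scal hq i).ex x hx hxZ y hy hyZ
    refine ⟨t, ?_, mem_normalizer_iff_cj.1 htZ, h.fix htP htC i, ht⟩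
    rwa [C_eq_W h hij] at htC
  · refine ⟨1, one_mem _, by simp, by simp, ?_⟩
    have hq2 : q = 2 := le_antisymm hq (h.fr.blk i).one
    rw [one_mul, inv_one, mul_one]
    have hZ2 : Nat.card (Z i) = 2 := by rw [h.fr.cardZ i, hq2]
    have hW : Nat.card (W i) = 4 := by rw [(h.fr.blk i).card, hZ2, hq2]
    have h3 : (Z i).relIndex (W i) = 2 := by
      have h5 : Nat.card (Z i) * (Z i).relIndex (W i) = Nat.card (W i) := by
        have h6 := Subgroup.card_mul_index ((Z i).subgroupOf (W i))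
        rwa [Nat.card_congr (Subgroup.subgroupOfEquivOfLe (h.fr.blk i).ZV).toEquiv] at h6
      rw [hZ2, hW] at h5
      omega
    have h6 := Subgroup.mul_mem_iff_of_index_two (H := (Z i).subgroupOf (W i)) h3
      (a := (⟨y, hy⟩ : W i)⁻¹) (b := ⟨x, hx⟩)
    have h7 : ((⟨y, hy⟩ : W i)⁻¹ * ⟨x, hx⟩) ∈ (Z i).subgroupOf (W i) := by
      rw [h6]
      constructor
      · intro h8
        exact absurd ((mem_subgroupOf.1 (inv_mem_iff.1 h8))) hyZ
      · intro h8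
        exact absurd (mem_subgroupOf.1 h8) hxZ
    exact mem_subgroupOf.1 h7

theorem ti (hTI : TI (Z 0)) {a b : Subgroup G} (ha : PG.IsPt Z a) (hb : PG.IsPt Z b) {x : G} (hxa : x ∈ a)
    (hxb : x ∈ b) (hx : x ≠ 1) : a = b := by
  obtain ⟨g, rfl⟩ := ha
  obtain ⟨k, rfl⟩ := hb
  change cj g (Z 0) = cj k (Z 0)
  have h1 : cj (k⁻¹ * g) (Z 0) = Z 0 := by
    apply hTI
    intro hbot
    have h2 : k⁻¹ * x * k ∈ cj (k⁻¹ * g) (Z 0) ⊓ Z 0 := by
      refine mem_inf.2 ⟨?_, mem_cj.1 hxb⟩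
      rw [mem_cj]
      have e : (k⁻¹ * g)⁻¹ * (k⁻¹ * x * k) * (k⁻¹ * g) = g⁻¹ * x * g := by group
      rw [e]
      exact mem_cj.1 hxa
    rw [hbot, mem_bot] at h2
    apply hx
    have e : x = k * (k⁻¹ * x * k) * k⁻¹ := by group
    rw [e, h2]; group
  have h3 := congrArg (cj k) h1
  rwa [cj_cj, mul_inv_cancel_left] at h3

theorem isPt (j : Fin 2) : PG.IsPt Z (Z j) := by
  have h2 : ∀ a : Fin 2, a = 0 ∨ a = 1 := by decide
  rcases h2 j with rfl | rfl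
  · exact ⟨1, by simp⟩
  · obtain ⟨j, s, p⟩ := h.exists_partner 0
    have hj : j = 1 := by
      have h1 := p.ne
      have h2 : ∀ a : Fin 2, 0 ≠ a → a = 1 := by decide
      exact h2 j h1
    subst hj
    exact ⟨s, (h.cj_s_Z p).symm⟩

end BgQ

open BgQ in
/-- **The frame `FQ` from `Bg`** (every level). -/
theorem FQ.of_bg [Finite G] {S : Sylow 2 G} {P B ZJ : Subgroup G} {L W Z C : Fin 2 → Subgroup G} {q : ℕ}
    (h : Bg S P B ZJ L W Z C q) (hTI : TI (Z 0))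
    (hnl : MinPar.NonLoc (normalizer (Z 0 : Set G)) (normalizer (Z 1 : Set G))) : FQ Z W B q := by
  obtain ⟨j, s, p⟩ := h.exists_partner 0
  have hj : j = 1 := by
    have h1 := p.ne
    have h2 : ∀ a : Fin 2, 0 ≠ a → a = 1 := by decide
    exact h2 j h1
  subst hj
  have hPP := h.toPP p hTI hnl
  have e1 : ∀ F : Fin 2 → Subgroup G, ![F 0, F 1] = F := by
    intro F
    funext i
    have h2 : ∀ a : Fin 2, a = 0 ∨ a = 1 := by decide
    rcases h2 i with rfl | rfl <;> rfl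
  rw [e1 Z, e1 W] at hPP
  exact
    { toPP := hPP
      cardZ := h.fr.cardZ
      cardU := fun i => by rw [(h.fr.blk i).card, h.fr.cardZ i, pow_two]
      ZU' := fun i => (h.fr.blk i).ZV
      sqU := fun i x hx => h.fr.Vsq (h.fr.WV i hx)
      inf := h.W_disj (by decide)
      ti := fun a b ha hb x hxa hxb hx => BgQ.ti h hTI ha hb hxa hxb hx
      fus := by
        intro a ha x hxa hxJ hx
        obtain ⟨g, rfl⟩ := ha
        rw [← ZJ_eq h] at hxJ
        obtain ⟨l, hl⟩ := h.fus (i := 0) hxJ (mem_cj.1 hxa)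
        have h3 := BgQ.ti h hTI ⟨g, rfl⟩ (isPt h l) hxa hl hx
        have h2 : ∀ a : Fin 2, a = 0 ∨ a = 1 := by decide
        rcases h2 l with rfl | rfl
        · exact Or.inl h3
        · exact Or.inr h3
      cen := fun i => h.o2_cent i
      UQ' := fun i => h.W_le_o2 i
      half := fun i j hij => by
        have h3 := h.lemK (i := i) (j := j) hij.symm
        exact ⟨h3.trans inf_le_left, h3.trans inf_le_right⟩
      ab := by
        rintro a l l' ⟨k, rfl, rfl⟩ ⟨k', hk', rfl⟩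
        have h3 : k⁻¹ * k' ∈ normalizer (Z 0 : Set G) := by
          rw [mem_normalizer_iff_cj]
          have h4 : cj k (Z 0) = cj k' (Z 0) := hk'
          rw [← cj_cj, ← h4, cj_inv_cj]
        have h4 := h.comm 0 (a := 1) (b := k⁻¹ * k') (one_mem _) h3
        rw [cj_one] at h4
        have h5 : W 0 ≤ centralizer (cj (k⁻¹ * k') (W 0) : Set G) :=
          (h.fr.WV 0).trans (h4.trans (centralizer_le (cj_mono _ (h.fr.WV 0))))
        have h6 := cj_mono k h5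
        rw [cj_centralizer, cj_cj, mul_inv_cancel_left] at h6
        exact h6
      syl := by rw [← ZJ_eq h]; exact h.syl_B
      swB := ⟨s, mem_normalizer_iff_cj.1 (h.S_norm_B p.mem), h.cj_s_Z p, h.cj_s_Z' p, p.ij, p.ji⟩
      com := fun i b hb x hx => (h.fr.blk i).com b hb x hx
      free := fun i b hb x hx hxZ e => mem_centralizer_iff.2 fun u hu =>
        ((h.fr.blk i).free b hb x hx hxZ e u hu).symm
      root := fun i j hij x hx hxZ z hz => by
        obtain ⟨b, hb, hbc, e⟩ := h.root i x hx hxZ z hz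
        exact ⟨b, hb, by rwa [C_eq_W h hij] at hbc, e⟩
      zB := fun x hx hx2 hc => by
        rw [← ZJ_eq h, ← h.fr.zcB]
        exact mem_zc.2 ⟨hx, hx2, hc⟩
      zQ := fun x hx hxU hx2 hc => by
        rw [← V_eq h]
        refine h.fr.zcQ x ((mem_Q_iff h).2 ⟨hx, hxU⟩) hx2 fun y hy => ?_
        obtain ⟨h3, h4⟩ := (mem_Q_iff h).1 hy
        exact (hc y h3 h4).symm
      mvl := fun i j hij => BgQ.mvl h hij
      tor := fun i j hij x hx hxZ y hy hyZ => BgQ.tor h hij hx hxZ hy hyZ }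

end Cfsg.Agent.Omega.NO3S.EThree

end

section


/-!
# THEOREM N (#23328), the field `zS` of `NV` (helper381's interface #23934), over the frame `Bg`, every level, every `k`

`S_i = C_B(V_i)`:

* `hZO` : an involution of `Z(S_i)` lies in `V_i Z_J`;
* `zS`  : if moreover `[x, L_j] ≤ Z_i` (`j ≠ i`, `L_j := P ∩ C(C j)`), then `x ∈ V_i (Z_J ∩ C j)`;
* `zS_two` : `k = 2`, in the literal form of `NV.zS` with `L' = C_G(V_i)`: `x ∈ V_i`; `sylU` : `N_S(Z i)`.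
-/

set_option autoImplicit false
set_option linter.unusedSectionVars false

namespace Cfsg.Agent.Omega.TCQ.R.ZS

open Subgroup Cfsg Cfsg.Agent.ZN.ChoiceBase
open Cfsg.Agent.ZN (zc zl o2)
open Cfsg.Agent.ZN.ChoiceSit (Syl)
open Cfsg.Agent.Omega.OM Cfsg.Agent.Omega.OM.Uni
open Cfsg.Agent.Omega.NO3S.EThree.Frame
open scoped Pointwise

universe u

variable {G : Type u} [Group G] [Finite G] {S : Sylow 2 G} {P : Subgroup G} {ι : Type} {B ZJ : Subgroup G}
  {L W Z C : ι → Subgroup G} {q : ℕ} (h : Bg S P B ZJ L W Z C q)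
include h

/-- **(hZO)** -/
theorem hZO' (i : ι) {x : G} (hx : x ∈ B) (_hxi : x ∈ centralizer (W i : Set G)) (hx2 : x ^ 2 = 1)
    (hc : ∀ t ∈ B, t ∈ centralizer (W i : Set G) → t * x = x * t) :
    ∃ w ∈ W i, ∃ c ∈ C i, c ∈ ZJ ∧ x = w * c := by
  have hVS : ∀ v ∈ zl (S : Subgroup G) P, v ∈ centralizer (W i : Set G) := fun v hv =>
    mem_centralizer_iff.2 fun w hw => h.fr.Vc (h.fr.WV i hw) hv
  have hxQ : x ∈ o2 P := (h.fr.mem_Q x hx).2 fun v hv => (hc v (h.fr.VB hv) (hVS v hv)).symm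
  have hxV : x ∈ zl (S : Subgroup G) P := by
    refine h.fr.zcQ x hxQ hx2 fun y hy => (hc y (h.fr.QB hy) ?_).symm
    exact mem_centralizer_iff.2 fun w hw => (h.fr.cQ hy (h.fr.WV i hw)).symm
  obtain ⟨w, hw, c, hci, e⟩ := h.fr.WC i x hxV
  refine ⟨w, hw, c, hci, (h.fr.mem_ZJ c).2 ⟨h.fr.CV i hci, fun b hb => ?_⟩, e⟩
  -- an element of `S_i` centralises `c`
  have key : ∀ t ∈ B, t ∈ centralizer (W i : Set G) → t * c = c * t := by
    intro t ht htc
    have h1 : Commute t x := hc t ht htc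
    have h2 : Commute t w := (mem_centralizer_iff.1 htc w hw).symm
    have h3 : c = w⁻¹ * x := by rw [e]; group
    rw [h3]
    exact (h2.inv_right.mul_right h1).eq
  -- decompose `b`
  by_cases hWZ : ∃ v ∈ W i, v ∉ Z i
  · obtain ⟨v, hv, hvZ⟩ := hWZ
    obtain ⟨b', hb', hb'C, e'⟩ := h.root i v hv hvZ _ ((h.fr.blk i).com b hb v hv)
    have h4 : (b'⁻¹ * b) * v = v * (b'⁻¹ * b) := by
      have h5 : b' * v * b'⁻¹ = b * v * b⁻¹ := mul_right_cancel e'
      calc (b'⁻¹ * b) * v = b'⁻¹ * (b * v * b⁻¹) * b := by group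
        _ = b'⁻¹ * (b' * v * b'⁻¹) * b := by rw [h5]
        _ = v * (b'⁻¹ * b) := by group
    have h6 : b'⁻¹ * b ∈ centralizer (W i : Set G) := mem_centralizer_iff.2 fun u hu =>
      ((h.fr.blk i).free _ (mul_mem (inv_mem hb') hb) v hv hvZ h4 u hu).symm
    have h7 : Commute (b'⁻¹ * b) c := key _ (mul_mem (inv_mem hb') hb) h6
    have h8 : Commute b' c := (mem_centralizer_iff.1 hb'C c hci).symm
    have h9 : Commute (b' * (b'⁻¹ * b)) c := h8.mul_left h7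
    rw [mul_inv_cancel_left] at h9
    exact h9.eq
  · push Not at hWZ
    refine key b hb (mem_centralizer_iff.2 fun u hu => ?_)
    exact ((h.fr.blk i).cZ b hb u (hWZ u hu)).symm

theorem hZO (i : ι) {x : G} (hx : x ∈ B) (hxi : x ∈ centralizer (W i : Set G)) (hx2 : x ^ 2 = 1)
    (hc : ∀ t ∈ B, t ∈ centralizer (W i : Set G) → t * x = x * t) : x ∈ W i ⊔ ZJ := by
  obtain ⟨w, hw, c, -, hcZ, rfl⟩ := hZO' h i hx hxi hx2 hc
  exact mul_mem (mem_sup_left hw) (mem_sup_right hcZ)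

omit h in
/-- three cosets -/
theorem exists_third {W Z : Subgroup G} {v : G} (hc : 2 * Nat.card Z < Nat.card W) :
    ∃ v' ∈ W, v' ∉ Z ∧ v'⁻¹ * v ∉ Z := by
  classical
  by_contra hcon
  push Not at hcon
  have h1 : Function.Injective (fun w : W => if hw : (w : G) ∈ Z then ((⟨w, hw⟩ : Z), true)
      else ((⟨(w : G)⁻¹ * v, hcon w w.2 hw⟩ : Z), false)) := by
    intro a b hab
    dsimp only at hab
    split_ifs at hab with h2 h3 h3
    · have h4 : (⟨(a : G), h2⟩ : Z) = ⟨(b : G), h3⟩ := congrArg Prod.fst hab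
      exact Subtype.ext (Subtype.mk.inj h4)
    · exact absurd (congrArg Prod.snd hab) (by simp)
    · exact absurd (congrArg Prod.snd hab) (by simp)
    · have h4 : (a : G)⁻¹ * v = (b : G)⁻¹ * v := congrArg Subtype.val (congrArg Prod.fst hab)
      exact Subtype.ext (inv_injective (mul_right_cancel h4))
  have h2 := Nat.card_le_card_of_injective _ h1
  rw [Nat.card_prod, Nat.card_eq_fintype_card (α := Bool), Fintype.card_bool] at h2
  omega

/-- `P ∩ C(C j)` has no fixed point on `Z j`. -/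
theorem no_fix (j : ι) {z : G} (hz : z ∈ Z j)
    (hf : ∀ g ∈ P, g ∈ centralizer (C j : Set G) → g * z * g⁻¹ = z) : z = 1 := by
  by_contra hz1
  have hq : Nat.card (Z j) = q := h.fr.cardZ j
  have hW : Nat.card (W j) = q * q := by rw [(h.fr.blk j).card, hq]
  have h2 : 2 ≤ q := by
    rw [← hq]
    exact Subgroup.one_lt_card_iff_ne_bot _ |>.2 (h.Z_ne j)
  rcases Nat.lt_or_ge 2 q with h3 | h3
  · obtain ⟨v, hv, hvZ⟩ : ∃ v ∈ W j, v ∉ Z j := by
      by_contra hcon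
      push Not at hcon
      have h4 := Subgroup.card_le_of_le (show W j ≤ Z j from hcon)
      rw [hq, hW] at h4
      nlinarith
    obtain ⟨v', hv', hv'Z, hvv⟩ := exists_third (W := W j) (Z := Z j) (v := v) (by rw [hq, hW]; nlinarith)
    obtain ⟨t, htP, htC, -, -, -, ht⟩ := (h.scal h3 j).ex v hv hvZ v' hv' hv'Z
    exact hz1 (ht hvv z ((h.fr.blk j).ZV hz) (hf t htP htC))
  · have hq2 : q = 2 := le_antisymm h3 h2
    obtain ⟨x, hx, hxZ⟩ : ∃ v ∈ W j, v ∉ Z j := by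
      by_contra hcon
      push Not at hcon
      have h4 := Subgroup.card_le_of_le (show W j ≤ Z j from hcon)
      rw [hq, hW] at h4
      nlinarith
    obtain ⟨l, hl, hlc, z', hz', e⟩ := h.tr j x hx (fun e => hxZ (e ▸ one_mem _))
    have h5 : z' = z := by
      by_contra hne
      have hz'1 : z' ≠ 1 := by
        rintro rfl
        rw [mul_one, mul_inv_cancel] at e
        exact hxZ (e ▸ one_mem _)
      have h6 : Nat.card (Z j) = 2 := by rw [hq, hq2]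
      classical
      have : Fintype (Z j) := Fintype.ofFinite _
      rw [Nat.card_eq_fintype_card] at h6
      have h7 : (Finset.univ : Finset (Z j)).card = 2 := h6
      have h8 : ({1, ⟨z, hz⟩, ⟨z', hz'⟩} : Finset (Z j)).card = 3 := by
        rw [Finset.card_eq_three]
        exact ⟨1, ⟨z, hz⟩, ⟨z', hz'⟩, fun e => hz1 (congrArg Subtype.val e).symm,
          fun e => hz'1 (congrArg Subtype.val e).symm, fun e => hne (congrArg Subtype.val e).symm, rfl⟩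
      have h9 := Finset.card_le_univ ({1, ⟨z, hz⟩, ⟨z', hz'⟩} : Finset (Z j))
      rw [h8] at h9
      omega
    subst h5
    rw [hf l hl hlc] at e
    exact hxZ (e ▸ hz')

/-- **(zS)** -/
theorem zS' {i j : ι} (hij : i ≠ j) {x : G} (hx : x ∈ B) (hxi : x ∈ centralizer (W i : Set G)) (hx2 : x ^ 2 = 1)
    (hc : ∀ t ∈ B, t ∈ centralizer (W i : Set G) → t * x = x * t)
    (hL : ∀ g ∈ P, g ∈ centralizer (C j : Set G) → g * x * g⁻¹ * x⁻¹ ∈ Z i) :
    ∃ w ∈ W i, ∃ c ∈ C j, c ∈ ZJ ∧ x = w * c := by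
  obtain ⟨w, hw, c, hci, hcZ, e⟩ := hZO' h i hx hxi hx2 hc
  obtain ⟨z, hz, d, hd, hdZ, e'⟩ := h.fr.split_ZJ j hcZ
  have hwC : w ∈ C j := h.fr.WjC j i hij.symm hw
  have hz1 : z = 1 := by
    refine no_fix h j hz fun g hg hgc => ?_
    have h1 : Commute g w := (mem_centralizer_iff.1 hgc w hwC).symm
    have h2 : Commute g d := (mem_centralizer_iff.1 hgc d hd).symm
    have hzW : g * z * g⁻¹ ∈ W j := by
      have h3 := h.fix hg hgc j
      rw [← h3]
      exact ⟨z, (h.fr.blk j).ZV hz, rfl⟩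
    have hgzV := h.fr.WV j hzW
    have h4 : g * x * g⁻¹ * x⁻¹ = g * z * g⁻¹ * z⁻¹ := by
      have e3 : g * x * g⁻¹ = w * (g * z * g⁻¹) * d := by
        have e1 : g * w = w * g := h1.eq
        have e2 : d * g⁻¹ = g⁻¹ * d := h2.symm.inv_right.eq
        calc g * x * g⁻¹ = g * w * z * (d * g⁻¹) := by rw [e, e']; group
          _ = w * g * z * (g⁻¹ * d) := by rw [e1, e2]
          _ = w * (g * z * g⁻¹) * d := by group
      have e4 : w * (g * z * g⁻¹) = (g * z * g⁻¹) * w := h.fr.Vc (h.fr.WV i hw) hgzV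
      have e5 : w * z⁻¹ = z⁻¹ * w := h.fr.Vc (h.fr.WV i hw) (inv_mem (h.fr.ZV j hz))
      rw [e3, e4, e, e']
      calc g * z * g⁻¹ * w * d * (w * (z * d))⁻¹ = g * z * g⁻¹ * (w * z⁻¹) * w⁻¹ := by group
        _ = g * z * g⁻¹ * z⁻¹ := by rw [e5]; group
    have h5 := hL g hg hgc
    rw [h4] at h5
    have h6 : g * z * g⁻¹ * z⁻¹ ∈ W j ⊓ C j := mem_inf.2
      ⟨mul_mem hzW (inv_mem ((h.fr.blk j).ZV hz)), h.fr.WjC j i hij.symm ((h.fr.blk i).ZV h5)⟩
    rw [h.fr.dir j, mem_bot] at h6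
    exact mul_inv_eq_one.1 h6
  refine ⟨w, hw, d, hd, hdZ, ?_⟩
  rw [e, e', hz1, one_mul]

theorem zS {i j : ι} (hij : i ≠ j) {x : G} (hx : x ∈ B) (hxi : x ∈ centralizer (W i : Set G)) (hx2 : x ^ 2 = 1)
    (hc : ∀ t ∈ B, t ∈ centralizer (W i : Set G) → t * x = x * t)
    (hL : ∀ g ∈ P, g ∈ centralizer (C j : Set G) → g * x * g⁻¹ * x⁻¹ ∈ Z i) : x ∈ W i ⊔ (ZJ ⊓ C j) := by
  obtain ⟨w, hw, c, hc1, hc2, rfl⟩ := zS' h hij hx hxi hx2 hc hL
  exact mul_mem (mem_sup_left hw) (mem_sup_right (mem_inf.2 ⟨hc2, hc1⟩))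

omit h in
/-- **(zS)**, `k = 2`, in the form of the field `NV.zS` (`S = C_B(V_i)`, `L' = C_G(V_i)`, `Zc = Z_i`). -/
theorem zS_two {L W Z C : Fin 2 → Subgroup G} (h : Bg S P B ZJ L W Z C q) (i : Fin 2) :
    ∀ x ∈ B ⊓ centralizer (W i : Set G), x ^ 2 = 1 → (∀ t ∈ B ⊓ centralizer (W i : Set G), t * x = x * t) →
      (∀ g ∈ centralizer (W i : Set G), g * x * g⁻¹ * x⁻¹ ∈ Z i) → x ∈ W i := by
  obtain ⟨j, hij⟩ : ∃ j : Fin 2, i ≠ j := by revert i; decide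
  intro x hx hx2 hc hL
  have hC : C j = W i := Cfsg.Agent.Omega.NO3S.EThree.BgQ.C_eq_W h hij.symm
  obtain ⟨w, hw, c, hcj, -, rfl⟩ := zS' h hij (mem_inf.1 hx).1 (mem_inf.1 hx).2 hx2
    (fun t ht htc => hc t (mem_inf.2 ⟨ht, htc⟩)) fun g _ hg => hL g (by rwa [← hC])
  exact mul_mem hw (hC ▸ hcj)

/-- 483's `SylU` : `N_S(Z i)` is Sylow in `N_G(Z i)`, contains `B` and normalises `V_i` (every level). -/
theorem sylU [Finite ι] (i : ι) : ∃ T : Subgroup G, Syl T (normalizer (Z i : Set G)) ∧ B ≤ T ∧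
    T ≤ normalizer (W i : Set G) :=
  ⟨(S : Subgroup G) ⊓ normalizer (Z i : Set G), h.syl i, h.bau_le_T i, by
    rw [h.inf_normalizer i]; exact inf_le_right⟩

end Cfsg.Agent.Omega.TCQ.R.ZS

end

end
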