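import Cfsg.Agent.Mrg.Omega.OM.SWQ.CaseTwoD
import Cfsg.Agent.Mrg.Omega.OM.SWQ.CaseFour
import Cfsg.Agent.Mrg.Omega.OM.FourF.OneF
import Cfsg.Agent.Mrg.Omega.NO3S.EThree.Row7
import Cfsg.Agent.Mrg.Omega.OM.SwapL.Off
import Cfsg.Agent.Mrg.Omega.OM.Lev.Low.LowMain
import Cfsg.Agent.Mrg.Omega.OM.Lev.Main
import Cfsg.Agent.Mrg.Omega.NO3S.EThree.TiNegY
import Cfsg.Agent.Mrg.Omega.OM.WeakCl
import Cfsg.Agent.Mrg.Omega.OM.PG.ExactQ
import Cfsg.Agent.MinSimple.MinParabolic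

-- merged: Cfsg.Agent.Mrg.Omega.OM.SWQ.TiFour
section

section


/-!
# TI at the levels `n ≥ 0`, `|F| = 4`, outside (4F)

* `DtL.card_semi` : `s ∈ S` semilinear on `W i`, trivial on `Z j` (`j ≠ i`): `|Z_J| = 2 |C_{Z_J}(s)|`;
* `DtL.tiAll4`, `DtL.tiAllF` : all the `Z i` are TI in `Z_J`, or (4F), any `q > 2`;
* `Mul.tiAll_levF`, `Mul.tiL_levF`, `Mul.ti_levF` : the same for `Mul` (the last: the socket of row (7)
  at the levels).
-/

set_option autoImplicit false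
set_option linter.unusedSectionVars false

namespace Cfsg.Agent.Omega.OM.SWQ

open Subgroup Cfsg Cfsg.Agent.ZN.ChoiceBase Cfsg.Agent.ZN.ChoiceSit
open Cfsg.Agent.ZN (jj zj bau zc zl o2)
open Cfsg.Agent.Omega.FrameFF (cv)
open Cfsg.Agent.Omega.NO3S.OneLine (NatC)
open Cfsg.Agent.Omega.NO3S.Level (lev)
open Cfsg.Agent.Omega.NO3S.EThree.Frame (Bg TI)
open Cfsg.Agent.Omega.NO3S.EThree.Row7 (FourF)
open Cfsg.Agent.Omega.OM.Lev.Nat
open Cfsg.Agent.Omega.OM.SwapL (Ln BL ZL lb Pair Phi)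
open Cfsg.Agent.Omega.OM.FourF (MD Thr OneF Lin Sem conjW)
open Cfsg.Agent.Omega.OM.SWQ.CaseFour (exists_u sl oneF)
open Cfsg.Agent.Omega.OM.SWQ.CaseTwo (ZL_le)
open Cfsg.Agent.Omega.Node.MultiOf (FBl Mul StgP)
open Cfsg.Agent.MinSimple.VModule (oddGen)

universe u

variable {G : Type u} [Group G] [Finite G] {S : Sylow 2 G} {P : Subgroup G} {n : ℕ} {F : Type} [Field F] [Finite F]
  [CharP F 2] {k : ℕ} {M : NatC F (S : Subgroup G) P (zl (S : Subgroup G) P) (cv (S : Subgroup G) P) k}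
  {L Z A : Fin k → Subgroup G} (D : DtL S P n M L Z A)

include D

namespace DtL

variable {z₀ f₀ : Fin k → F}

/-- `s` semilinear on `W i`, trivial on the other `Z j`. -/
theorem card_semi (m : MD M.nat (BL (S : Subgroup G) n) (ZL (S : Subgroup G) n) (Wn M) Z z₀ f₀)
    (hq : Nat.card F = 4) {i : Fin k} {s : G} (hs : s ∈ (S : Subgroup G)) (hsi : cj s (Z i) = Z i)
    (hc : ∀ j, j ≠ i → ∀ z ∈ Z j, s * z = z * s) {l : F}
    (hA : FourF.Act (Wn M i) (MD.co M.nat z₀ f₀ i) s (fun p => (p.1 * p.1 + l * (p.2 * p.2), p.2 * p.2))) :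
    Nat.card (ZL (S : Subgroup G) n) = 2 * Nat.card ↥(ZL (S : Subgroup G) n ⊓ centralizer ({s} : Set G)) := by
  have key : (centralizer ({s} : Set G)).relIndex (ZL (S : Subgroup G) n) = 2 := by
    have hsW : s ∈ normalizer (Wn M i : Set G) := m.nW hs hsi
    -- the criterion on `Z i`
    have cr : ∀ x ∈ Z i, (x ∈ centralizer ({s} : Set G) ↔
        (MD.co M.nat z₀ f₀ i x).1 ^ 2 = (MD.co M.nat z₀ f₀ i x).1) := by
      intro x hx
      obtain ⟨hxW, hx2⟩ := m.co_Z.1 hx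
      rw [mem_centralizer_singleton_iff]
      have h1 := hA x hxW
      simp only [hx2, mul_zero, add_zero] at h1
      constructor
      · intro h2
        have h3 : s * x * s⁻¹ = x := by rw [← h2]; group
        rw [h3] at h1
        have h4 := congrArg Prod.fst h1
        rw [pow_two]
        exact h4.symm
      · intro h2
        have h3 : s * x * s⁻¹ = x := by
          refine m.co_inj (conjW hsW hxW) hxW ?_
          rw [h1, ← pow_two, h2]
          exact Prod.ext rfl hx2.symm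
        calc x * s = s * x * s⁻¹ * s := by rw [h3]
          _ = s * x := by group
    obtain ⟨w, hw⟩ := FourF.exists_w hq
    obtain ⟨a, haW, hae⟩ := m.co_surj i (w, 0)
    have haZ : a ∈ Z i := m.co_Z.2 ⟨haW, by rw [hae]⟩
    have hZJ : ∀ x ∈ Z i, x ∈ ZL (S : Subgroup G) n := fun x hx => D.ln.fr.Z_le i hx
    rw [relIndex_eq_two_iff]
    refine ⟨a, hZJ a haZ, fun b hb => ?_⟩
    have hVc : ∀ x ∈ ZL (S : Subgroup G) n, ∀ y ∈ ZL (S : Subgroup G) n, x * y = y * x := fun x hx y hy =>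
      D.ln.fr.Vc (D.ln.fr.ZJV hx) (D.ln.fr.ZJV hy)
    obtain ⟨x, hx, c, hc', rfl⟩ : ∃ x ∈ Z i, ∃ c ∈ (centralizer ({s} : Set G) ⊓ ZL (S : Subgroup G) n : Subgroup G),
        b = x * c := by
      have h1 : b ∈ Z i ⊔ (centralizer ({s} : Set G) ⊓ ZL (S : Subgroup G) n) := by
        have h2 := ZL_le D hb
        refine (iSup_le fun j => ?_ : (⨆ j, Z j) ≤ Z i ⊔ (centralizer ({s} : Set G) ⊓ ZL (S : Subgroup G) n)) h2
        by_cases hj : j = i
        · rw [hj]; exact le_sup_left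
        · refine le_sup_of_le_right fun z hz => mem_inf.2 ⟨?_, D.ln.fr.Z_le j hz⟩
          exact mem_centralizer_singleton_iff.2 (hc j hj z hz).symm
      exact SQ1.Bau.mem_sup_comm (fun x hx y hy => hVc x (hZJ x hx) y (mem_inf.1 hy).2) h1
    have hcs : c ∈ centralizer ({s} : Set G) := hc'.1
    have e1 : x * c * a = x * a * c := by
      rw [mul_assoc, hVc c hc'.2 a (hZJ a haZ), mul_assoc]
    have h2 : x * c * a ∈ centralizer ({s} : Set G) ↔ x * a ∈ centralizer ({s} : Set G) := by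
      rw [e1]
      exact Subgroup.mul_mem_cancel_right _ hcs
    have h3 : x * c ∈ centralizer ({s} : Set G) ↔ x ∈ centralizer ({s} : Set G) :=
      Subgroup.mul_mem_cancel_right _ hcs
    have hmul : (MD.co M.nat z₀ f₀ i (x * a)).1 = (MD.co M.nat z₀ f₀ i x).1 + w := by
      rw [m.co_mul (m.WV (m.co_Z.1 hx).1) (m.WV haW), hae]
      rfl
    rw [h2, h3, cr x hx, cr (x * a) (mul_mem hx haZ), hmul, FourF.sq_add hq, hw]
    generalize (MD.co M.nat z₀ f₀ i x).1 = t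
    have k1 := FourF.two_eq hq t
    rcases FourF.tr_cases hq t with h4 | h4
    · refine Or.inr ⟨by linear_combination h4 - k1, fun h5 => ?_⟩
      have : (1 : F) = 0 := by linear_combination h5 - h4 + k1
      exact one_ne_zero this
    · refine Or.inl ⟨?_, fun h5 => ?_⟩
      · have k2 := FourF.two_eq hq (1 : F)
        linear_combination h4 - k1 + k2
      · have : (1 : F) = 0 := by linear_combination h5 - h4 + k1
        exact one_ne_zero this
  have h1 := Swap.card_mul_relIndex (inf_le_left : ZL (S : Subgroup G) n ⊓ centralizer ({s} : Set G) ≤ _)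
  rw [inf_comm, inf_relIndex_right, key] at h1
  rw [← h1, inf_comm, mul_comm]

/-- **(T1), `q = 4`**: `C_G(Y) ≤ N_G(Z_J)` or (4F). -/
theorem tiAll4 (hq : Nat.card F = 4) {Y : Subgroup G} (hY : Y ≤ ZL (S : Subgroup G) n)
    (hm : ∀ i, ∃ z ∈ Z i, z ≠ 1 ∧ z ∈ Y) :
    centralizer (Y : Set G) ≤ normalizer (ZL (S : Subgroup G) n : Set G) ∨
      FourF (BL (S : Subgroup G) n) (ZL (S : Subgroup G) n) (Nat.card F) := by
  classical
  by_contra hcon
  push Not at hcon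
  obtain ⟨hX, hnF⟩ := hcon
  have hD : centralizer (ZL (S : Subgroup G) n : Set G) ≤ normalizer (ZL (S : Subgroup G) n : Set G) :=
    centralizer_le_normalizer _
  have hN := (lb S n).norm_B_le
  obtain ⟨T, R, hs, hall⟩ := D.exists_sel_all (by omega) hY hm hD hN hX
  obtain ⟨z₀, f₀, m⟩ := D.exists_md
  have hp := hs.pair
  have hTS := hs.TS
  have hZ : ∀ i, ∀ t ∈ T, cj t (Z i) = Z i := fun i t ht => hall i t ht
  choose u hu hue huY using exists_u D m hp hTS hZ hq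
  have ht : Thr R T (⊤ : Subgroup G) (Wn M) Z u (MD.co M.nat z₀ f₀) :=
    { card := hq
      syl := hp.syl
      TM := le_top
      co := fun i => m.toCo (hu i) (hue i)
      TN := fun i t ht => m.nW (hTS ht) (hZ i t ht)
      act := fun i t ht => m.act4 hq (hTS ht) (hZ i t ht)
      full := fun i l => by
        obtain ⟨b, hb, h1⟩ := m.full i l
        exact ⟨b, hp.BT hb, h1⟩
      sl := sl D m (fun _ => le_top) le_top
      NM := fun _ _ => mem_top _
      Xu := huY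
      fix := fun i hi x hx z hz => by
        have h2 : z ∈ centralizer (R : Set G) :=
          hp.fix ⟨D.ln.fr.Z_le i hz, mem_centralizer_iff.2 fun o ho => hi o ho z hz⟩
        exact mem_centralizer_iff.1 h2 x hx }
  have hor : ∀ i, R ≤ normalizer (Wn M i : Set G) ∨ ∀ x ∈ oddGen R, ∀ z ∈ Z i, x * z = z * x := by
    intro i
    obtain ⟨𝓐, h1⟩ := oneF D m hp hTS hZ hq hD hN (hu i) (hue i) (huY i)
    have hfix : o2 R ≤ centralizer (Z i : Set G) → R ≤ centralizer (Z i : Set G) := by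
      intro hi x hx
      refine mem_centralizer_iff.2 fun z hz => ?_
      have h3 : z ∈ centralizer (R : Set G) :=
        hp.fix ⟨D.ln.fr.Z_le i hz, mem_centralizer_iff.2 fun o ho => (mem_centralizer_iff.1 (hi ho) z hz).symm⟩
      exact (mem_centralizer_iff.1 h3 x hx).symm
    rcases h1.main hfix with h2 | h2
    · right
      intro x hx z hz
      exact (mem_centralizer_iff.1 (h2 hx) z hz).symm
    · exact Or.inl h2
  have hfull : ∀ i (l : F), ∃ t ∈ T, FourF.Act (Wn M i) (MD.co M.nat z₀ f₀ i) t (fun p => (p.1 + l * p.2, p.2)) ∧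
      ∀ j, j ≠ i → ∀ w ∈ Wn M j, t * w = w * t := by
    intro i l
    obtain ⟨b, hb, hc⟩ := m.cn.full fun j => if j = i then l else 0
    have hbT := hp.BT hb
    refine ⟨b, hbT, fun w hw => ?_, fun j hj w hw => ?_⟩
    · obtain ⟨h1, h2⟩ := hc w (m.WV hw) i
      rw [if_pos rfl] at h1
      exact Prod.ext h1 h2
    · have h3 : b * w * b⁻¹ = w := by
        refine m.co_inj (conjW (m.nW (hTS hbT) (hZ j b hbT)) hw) hw ?_
        obtain ⟨h1, h2⟩ := hc w (m.WV hw) j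
        rw [if_neg hj, zero_mul, add_zero] at h1
        exact Prod.ext h1 h2
      exact mul_inv_eq_iff_eq_mul.1 h3
  have hnor := ht.nor_of_not hor hfull fun i s hsT hsc l hA => hnF ?_
  · apply hp.nM
    intro r hr
    have e : ZL (S : Subgroup G) n = ⨆ i, Z i := le_antisymm (ZL_le D) (iSup_le D.ln.fr.Z_le)
    rw [mem_normalizer_iff_cj, e, Swap.cj_iSup]
    exact iSup_congr fun i => mem_normalizer_iff_cj.1 (hnor i hr)
  · obtain ⟨a, ha⟩ := (S.isPGroup' ⟨s, hTS hsT⟩)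
    refine ⟨hq, s, (lb S n).two_le hp.syl.2.1 hp.BT hsT, ⟨a, ?_⟩, D.card_semi m hq (hTS hsT) (hZ i s hsT) hsc hA⟩
    exact congrArg Subtype.val ha

/-- **(T1), `q > 2`**: `C_G(Y) ≤ N_G(Z_J)` or (4F). -/
theorem tiAllF {Y : Subgroup G} (hY : Y ≤ ZL (S : Subgroup G) n)
    (hm : ∀ i, ∃ z ∈ Z i, z ≠ 1 ∧ z ∈ Y) :
    centralizer (Y : Set G) ≤ normalizer (ZL (S : Subgroup G) n : Set G) ∨
      FourF (BL (S : Subgroup G) n) (ZL (S : Subgroup G) n) (Nat.card F) := by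
  by_cases hq : Nat.card F = 4
  · exact D.tiAll4 hq hY hm
  · exact Or.inl (D.tiAll' hq hY hm)

end DtL

omit D

section mul

variable {S : Sylow 2 G} {P K B ZJ : Subgroup G} {k : ℕ} {L W Z C : Fin k → Subgroup G} {q : ℕ}

/-- **(T1)** for `Mul`, stage `n ≥ 0`, `q > 2`, or (4F). -/
theorem _root_.Cfsg.Agent.Omega.Node.MultiOf.Mul.tiAll_levF (h : Mul S P K B ZJ L W Z C q) (hk : 2 ≤ k)
    (hJ : jj (S : Subgroup G) ≤ o2 P) {Y : Subgroup G} (hY : Y ≤ ZJ)
    (hm : ∀ i, ∃ z ∈ Z i, z ≠ 1 ∧ z ∈ Y) : centralizer (Y : Set G) ≤ normalizer (ZJ : Set G) ∨ FourF B ZJ q := by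
  obtain ⟨n, F, _, _, _, M, L', Z', A', σ, hF, -, rfl, rfl, D, hσ⟩ := exists_dtl_mul h hk hJ
  rw [← hF]
  refine D.tiAllF hY fun i => ?_
  have h1 := hm (σ.symm i)
  rwa [hσ, Equiv.apply_symm_apply] at h1

/-- **(T2)** for `Mul`, stage `n ≥ 0`, `q > 2`, or (4F). -/
theorem _root_.Cfsg.Agent.Omega.Node.MultiOf.Mul.tiL_levF (h : Mul S P K B ZJ L W Z C q) (hk : 2 ≤ k)
    (hJ : jj (S : Subgroup G) ≤ o2 P) (hq : 2 < q) (hno : ¬ FourF B ZJ q) {i j : Fin k} (hij : i ≠ j) {z : G}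
    (hz : z ∈ Z i) (hz1 : z ≠ 1) :
    centralizer ({z} : Set G) ⊓ (⨅ l : {l : Fin k // l ≠ i ∧ l ≠ j}, centralizer (Z l : Set G)) ≤
      normalizer (Z i : Set G) := by
  obtain ⟨n, F, _, _, _, M, L', Z', A', σ, hF, -, rfl, rfl, D, hσ⟩ := exists_dtl_mul h hk hJ
  rw [hσ i] at hz ⊢
  have h1 := D.tiL_of (by rw [hF]; exact hq)
    (fun Y hY hm => (D.tiAllF hY hm).resolve_right (by rw [hF]; exact hno))
    (fun e => hij (σ.injective e)) hz hz1 (j := σ j)
  refine le_trans (inf_le_inf_left _ ?_) h1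
  refine le_iInf fun l => ?_
  obtain ⟨m, hm⟩ := σ.surjective l.1
  have h2 : m ≠ i ∧ m ≠ j := ⟨fun e => l.2.1 (by rw [← hm, e]), fun e => l.2.2 (by rw [← hm, e])⟩
  refine (iInf_le (fun l : {l : Fin k // l ≠ i ∧ l ≠ j} => centralizer (Z l : Set G)) ⟨m, h2⟩).trans ?_
  show centralizer (Z m : Set G) ≤ _
  rw [hσ m, hm]

/-- **`TI (Z i)` or (4F)**, `k = 2`, stage `n ≥ 0`, `q > 2`. -/
theorem _root_.Cfsg.Agent.Omega.Node.MultiOf.Mul.ti_levF {L W Z C : Fin 2 → Subgroup G}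
    (h : Mul S P K B ZJ L W Z C q) (hJ : jj (S : Subgroup G) ≤ o2 P) (hq : 2 < q) :
    (∀ i : Fin 2, TI (Z i)) ∨ FourF B ZJ q := by
  by_cases hno : FourF B ZJ q
  · exact Or.inr hno
  left
  intro i
  refine ti_of_cent h.bg fun z hz hz1 => ?_
  obtain ⟨j, hj⟩ := h.bg.two i
  refine le_trans (le_inf le_rfl (le_iInf fun l => ?_)) (h.tiL_levF le_rfl hJ hq hno (j := j) (Ne.symm hj) hz hz1)
  have h1 : ∀ a b c : Fin 2, a ≠ b → a ≠ c → b ≠ c → False := by decide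
  exact (h1 _ _ _ l.2.1 l.2.2 (Ne.symm hj)).elim

end mul

end Cfsg.Agent.Omega.OM.SWQ

end

section


/-!
# THEOREM SWQ (#21705): (Om) at the levels is impossible for `q ≥ 4`

* `le_of_char2` : every subgroup of characteristic 2 over `B` is contained in every
  `X ≥ C_G(Z_J), L_i, N_G(B)`; for `q = 4` modulo the conclusion of (4F);
* `FourLev` : (4F) at the levels; `nloc_q`; `omLev_big` : `OmLev K (4 < q)`; `omLev_q : FourLev → OmLev K (4 ≤ q)`.
-/

set_option autoImplicit false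
set_option linter.unusedSectionVars false

namespace Cfsg.Agent.Omega.OM.SWQ

open Subgroup Cfsg Cfsg.Agent.ZN.ChoiceBase Cfsg.Agent.ZN.ChoiceSit
open Cfsg.Agent.ZN (jj zj bau zc zl o2)
open Cfsg.Agent.Omega.FFThm (NatK NatKM)
open Cfsg.Agent.Omega.FrameFF (cv)
open Cfsg.Agent.Omega.Frame (Cls)
open Cfsg.Agent.Omega.NO3S (HypN HypL)
open Cfsg.Agent.Omega.NO3S.OneLine (NatC)
open Cfsg.Agent.Omega.NO3S.Level (lev)
open Cfsg.Agent.Omega.OM.Lev.Nat
open Cfsg.Agent.Omega.OM.LevD (K0 Fam)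
open Cfsg.Agent.Omega.OM.SwapL (Ln BL ZL lb BM BG Pair Phi)
open Cfsg.Agent.Omega.Node.MultiOf (FBl KZ NLoc OmLev)

universe u

section

variable {G : Type u} [Group G] [Finite G] {S : Sylow 2 G} {P : Subgroup G} {n : ℕ}
  {K : Type} [Field K] [Finite K] [CharP K 2] {k : ℕ}
  {M : NatC K (S : Subgroup G) P (zl (S : Subgroup G) P) (cv (S : Subgroup G) P) k}
  {L Z A : Fin k → Subgroup G} (D : DtL S P n M L Z A)

include D

/-- **THEOREM SWQ.** -/
theorem le_of_char2 {X H : Subgroup G} (hBM : BM S n X) (hLM : ∀ i, L i ≤ X)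
    (hD : centralizer (ZL (S : Subgroup G) n : Set G) ≤ X) (hN : normalizer (BL (S : Subgroup G) n : Set G) ≤ X)
    (hK : 4 ≤ Nat.card K)
    (h4 : Nat.card K = 4 → ∀ T F : Subgroup G, Sel D X T F → (∀ i, i ∈ Phi Z T) → False)
    (hB : BL (S : Subgroup G) n ≤ H) (hc : H ⊓ centralizer (o2 H : Set G) ≤ o2 H) : H ≤ X := by
  by_contra hM
  obtain ⟨T, F, s⟩ := exists_sel D hBM hD hN hB hc hM
  have hall := phi_univ D s hLM hD hN hK
  by_cases hq : Nat.card K = 4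
  · exact h4 hq T F s hall
  · exact caseTwo D s hD hN hall hq

/-- **(Om) is impossible at stage `n`, `q ≥ 4`.** -/
theorem noOm (hn1 : ¬ lev (S : Subgroup G) (n + 1) ≤ o2 P)
    (hF : Fam (BL (S : Subgroup G) n) (ZL (S : Subgroup G) n) (FBl (BL (S : Subgroup G) n)))
    (hL : ∀ i, L i ≤ KZ (BL (S : Subgroup G) n) (ZL (S : Subgroup G) n)) (hK : 4 ≤ Nat.card K)
    (h4 : Nat.card K = 4 → ∀ X T Y : Subgroup G, Sel D X T Y → P ≤ X →
      centralizer (ZL (S : Subgroup G) n : Set G) ≤ X → normalizer (BL (S : Subgroup G) n : Set G) ≤ X →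
        (∀ i, i ∈ Phi Z T) → False) : NLoc (KZ (BL (S : Subgroup G) n) (ZL (S : Subgroup G) n)) := by
  have h := D.ln
  have hBG : BG S n (FBl (BL (S : Subgroup G) n)) := Lev.Low.bg_four h (by omega) fun _ _ h1 => ⟨h1.fb, h1.blk⟩
  by_contra hcon
  unfold NLoc at hcon
  push Not at hcon
  obtain ⟨R, hR, hRn, hR1⟩ := hcon
  obtain ⟨ho, hoB, hle⟩ := hF.dich (lb S n) hR hR1 hRn
  set O : Subgroup G := o2 (K0 (ZL (S : Subgroup G) n) (FBl (BL (S : Subgroup G) n))) with hO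
  set X : Subgroup G := normalizer (O : Set G) with hX
  have hKX : K0 (ZL (S : Subgroup G) n) (FBl (BL (S : Subgroup G) n)) ≤ X := le_sup_left.trans hle
  have hN : normalizer (BL (S : Subgroup G) n : Set G) ≤ X := le_sup_right.trans hle
  have hSX : (S : Subgroup G) ≤ X := ((lb S n).two_le S.isPGroup' (lb S n).BS).trans hN
  have hBM : BM S n X := hBG.bm hKX hN
  have hLX : ∀ i, L i ≤ X := fun i => (hL i).trans hKX
  have hDX : centralizer (ZL (S : Subgroup G) n : Set G) ≤ X := LevD.cent_le_K0.trans hKX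
  have hS1 : (S : Subgroup G) ≠ ⊥ := h.hyp.ctx.sylow_ne_bot S
  have h1 := MinPar.isLoc_centralizer_zc S hS1
  have hP : P ≤ X := by
    have h3 := hBG S P h.hyp.toHyp.syl (lb S n).BS h.hyp.star.toIsMinPar
      (h.hyp.star.isLoc.char2 S h.hyp.ctx.char2) hn1
      (fun hc => h.hyp.star.not_zc (hc.trans (centralizer_le_normalizer _)))
    exact h3.trans (sup_le hKX hSX)
  have h2 : FrameNOFF.CZ (S : Subgroup G) ≤ X :=
    le_of_char2 D hBM hLX hDX hN hK (fun hq T Y s h3 => h4 hq X T Y s hP hDX hN h3) ((lb S n).BS.trans h1.le)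
      (h1.char2 S h.hyp.ctx.char2)
  exact ho (h.hyp.nonLoc _ (isPGroup_o2 _) hP h2)

end

/-- **(4F) at the levels.** -/
def FourLev : Prop :=
  ∀ (G : Type u) [Group G] [Finite G] (S : Sylow 2 G) (P : Subgroup G) (n k : ℕ) (K : Type) [Field K] [Finite K]
    [CharP K 2] (M : NatC K (S : Subgroup G) P (zl (S : Subgroup G) P) (cv (S : Subgroup G) P) k)
    (L Z A : Fin k → Subgroup G) (D : DtL S P n M L Z A), Nat.card K = 4 → ∀ X T Y : Subgroup G, Sel D X T Y →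
      P ≤ X → centralizer (ZL (S : Subgroup G) n : Set G) ≤ X →
        normalizer (BL (S : Subgroup G) n : Set G) ≤ X → (∀ i, i ∈ Phi Z T) → False

theorem nloc_q {G : Type u} [Group G] [Finite G] {S : Sylow 2 G} {P : Subgroup G} {k : ℕ} (h : HypL S P) {n : ℕ}
    (hall : ∀ R, MinPar.IsParS (S : Subgroup G) R → lev (S : Subgroup G) n ≤ o2 R)
    (hn1 : ¬ lev (S : Subgroup G) (n + 1) ≤ o2 P) (hk : 2 ≤ k)
    {F : Type} [Field F] [Finite F] [CharP F 2] (hF : 4 ≤ Nat.card F)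
    (hf : Nat.card F = 4 → FourLev.{u})
    (N : NatKM F (S : Subgroup G) P (zl (S : Subgroup G) P) (cv (S : Subgroup G) P) k) :
    NLoc (KZ (BL (S : Subgroup G) n) (ZL (S : Subgroup G) n)) := by
  obtain ⟨M, L, Z, A, -, D⟩ := exists_dtl h.toHypN (hall P h.star) hn1 hk N
  have hm : Node.MultiOf.Mul S P (lev (S : Subgroup G) (n + 1)) (BL (S : Subgroup G) n) (ZL (S : Subgroup G) n)
      L _ Z _ (Nat.card F) :=
    ⟨h, Node.MultiOf.StgP.lev n hall (hall P h.star) hn1, D.bg, F, inferInstance, inferInstance, inferInstance, rfl,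
      ⟨N⟩⟩
  exact noOm D hn1 hm.fam hm.L_le hF fun hq X T Y s h1 h2 h3 h4 =>
    hf hq G S P n k F M L Z A D hq X T Y s h1 h2 h3 h4

/-- **(Om), stage `n`, `q > 4`.** -/
theorem omLev_big {K : Cls.{u}} : OmLev K fun _ q => 4 < q := by
  intro G _ _ hK S P k h n hall hn1 hk F _ _ _ hF N B ZJ hZJ hB ho
  subst hZJ hB
  exact absurd (nloc_q h hall hn1 hk hF.le (fun e => absurd e (by omega)) N _ (isPGroup_o2 _)
    (le_normalizer_o2 _)) ho

/-- **(Om), stage `n`, `q ≥ 4`**, modulo (4F) at the levels. -/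
theorem omLev_q {K : Cls.{u}} (hf : FourLev.{u}) : OmLev K fun _ q => 4 ≤ q := by
  intro G _ _ hK S P k h n hall hn1 hk F _ _ _ hF N B ZJ hZJ hB ho
  subst hZJ hB
  exact absurd (nloc_q h hall hn1 hk hF (fun _ => hf) N _ (isPGroup_o2 _) (le_normalizer_o2 _)) ho

end Cfsg.Agent.Omega.OM.SWQ

end

section


/-!
# Theorem SWQ: (Om) at the stages `n ≥ 0`, `q ≥ 4`

* `fourLev : FourLev`: (4F) at the levels;
* `omLev : OmLev K (fun _ q => 4 ≤ q)`.
-/

set_option autoImplicit false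

namespace Cfsg.Agent.Omega.OM.SWQ

open Subgroup Cfsg
open Cfsg.Agent.Omega.Frame (Cls)
open Cfsg.Agent.Omega.Node.MultiOf (OmLev)

universe u

/-- **(4F) at the levels.** -/
theorem fourLev : FourLev.{u} := by
  intro G _ _ S P n k K _ _ _ M L Z A D hq X T Y hs hP hD hN hPhi
  exact D.case_four hs (fun i l hl => hP (D.LX i hl).1) hD hN hPhi hq

/-- **(Om), stage `n`, `q ≥ 4`.** -/
theorem omLev {K : Cls.{u}} : OmLev K fun _ q => 4 ≤ q :=
  omLev_q fourLev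

end Cfsg.Agent.Omega.OM.SWQ

end

end

-- merged: Cfsg.Agent.Mrg.Omega.NO3S.EThree.DoneQ
section

section


/-!
# NO-3S, case (E), `k = 2`, all `q`, every stage: LEMMA 0 and STEP F over the frame `FQ` (helper997 #19092)

`D : FQ Z U B q`, `hwc : WC B`, `hU : UniQ Z U B` (the minimal parabolics of `C(Z i)` over one Sylow group `T ≥ B` which
move `Z j` normalise `U j`).

* `gen` : `N(Z i)` is generated by `N(Z i) ∩ N(Z j)` and `N(Z i) ∩ N(U j)`;
* `lem0` : `K ≤ C(Z i)` normal in `N(Z i)`, a 2-element of `K` moves `N_i` : `N(Z i) = K (N(Z 0) ∩ N(Z 1))`;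
* `l0 : PcQ.L0 Z`;
* `done` : such a `K` does not normalise `U i`.
-/

set_option autoImplicit false
set_option linter.unusedSectionVars false

namespace Cfsg.Agent.Omega.NO3S.EThree

open Subgroup Cfsg Cfsg.Agent.ZN.ChoiceBase
open Cfsg.Agent.ZN (zc zl o2)
open Cfsg.Agent.ZN.ChoiceSit (Syl syl_not_dvd exists_syl syl_conj)
open Cfsg.Agent.Omega.OM
open Cfsg.Agent.Omega.OM.WeakCl (WC)
open Cfsg.Agent.Omega.OM.PG
open Cfsg.Agent.Omega.MinPar (NonLoc)
open Cfsg.Agent.Omega.NoFF.Basic (conj_conj mem_conj conj_le_iff)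
open Cfsg.Agent.Omega.NOThreeL.Pair (conj_eq_of_mem)
open Cfsg.Agent.MinSimple.MinParabolic (IsMinPar le_of_forall)
open scoped Pointwise

universe u

variable {G : Type u} [Group G]

/-- `UNI` over `FQ` -/
def UniQ (Z U : Fin 2 → Subgroup G) (B : Subgroup G) : Prop :=
  ∀ i j : Fin 2, i ≠ j → ∃ T : Subgroup G, B ≤ T ∧ Syl T (centralizer (Z i : Set G)) ∧
    ∀ R : Subgroup G, IsMinPar T R → R ≤ centralizer (Z i : Set G) → ¬ R ≤ normalizer (Z j : Set G) →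
      R ≤ normalizer (U j : Set G)

theorem mem_of_conj_eq {A : Subgroup G} {g : G} (h : MulAut.conj g • A = A) : g ∈ normalizer (A : Set G) :=
  mem_normalizer_iff_cj.2 h

theorem inv_mul_mem {A : Subgroup G} {g k : G} (h : MulAut.conj g • A = MulAut.conj k • A) :
    g⁻¹ * k ∈ normalizer (A : Set G) := by
  apply mem_of_conj_eq
  rw [← conj_conj, ← h, conj_conj, inv_mul_cancel, map_one, one_smul]

/-- A 2-group normalising a 2-group `Y ≠ 1` fixes an element `≠ 1` of `Y`. -/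
theorem exists_fixQ [Finite G] {T Y : Subgroup G} (hT : IsPGroup 2 T) (hY : IsPGroup 2 Y) (hne : Y ≠ ⊥)
    (hn : T ≤ normalizer (Y : Set G)) : ∃ y ∈ Y, y ≠ 1 ∧ y ∈ centralizer (T : Set G) := by
  have : Fact (Nat.Prime 2) := ⟨Nat.prime_two⟩
  let a : MulAction T Y :=
    { smul := fun t y => ⟨t * y * (t : G)⁻¹, (mem_normalizer_iff.1 (hn t.2) y).1 y.2⟩
      one_smul := fun y => Subtype.ext (by change ((1 : T) : G) * y * ((1 : T) : G)⁻¹ = y; simp)
      mul_smul := fun s t y => Subtype.ext (by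
        change ((s * t : T) : G) * y * ((s * t : T) : G)⁻¹ = s * (t * y * (t : G)⁻¹) * (s : G)⁻¹
        rw [Subgroup.coe_mul]; group) }
  have hd : 2 ∣ Nat.card Y := by
    obtain ⟨n, hn⟩ := IsPGroup.iff_card.1 hY
    rcases Nat.eq_zero_or_pos n with h0 | h0
    · exact absurd (Subgroup.card_eq_one.1 (by rw [hn, h0, pow_zero])) hne
    · rw [hn]; exact dvd_pow_self 2 h0.ne'
  have h1 : (1 : Y) ∈ MulAction.fixedPoints T Y := by
    rw [MulAction.mem_fixedPoints]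
    intro t
    exact Subtype.ext (by change (t : G) * ((1 : Y) : G) * (t : G)⁻¹ = ((1 : Y) : G); simp)
  obtain ⟨b, hb, hb1⟩ := hT.exists_fixed_point_of_prime_dvd_card_of_fixed_point Y hd h1
  refine ⟨b, b.2, fun h0 => hb1 (Subtype.ext h0.symm), mem_centralizer_iff.2 fun t ht => ?_⟩
  have h2 : t * (b : G) * t⁻¹ = b := congrArg Subtype.val ((MulAction.mem_fixedPoints.1 hb) ⟨t, ht⟩)
  calc t * (b : G) = t * b * t⁻¹ * t := by group
    _ = b * t := by rw [h2]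

namespace FQ

variable [Finite G] {Z U : Fin 2 → Subgroup G} {B : Subgroup G} {q : ℕ} (D : FQ Z U B q) {i j : Fin 2}
include D

theorem Z_ne (hij : i ≠ j) : Z i ≠ Z j := by
  intro e
  have key : Z 0 = Z 1 := by
    rcases fin_two_pair hij with ⟨rfl, rfl⟩ | ⟨rfl, rfl⟩
    · exact e
    · exact e.symm
  apply D.ne
  have h1 : Z 0 ≤ U 0 ⊓ U 1 := le_inf (D.ZU' 0) (key.le.trans (D.ZU' 1))
  rw [D.inf] at h1
  exact le_bot_iff.1 h1

/-- `N(B) ∩ N(Z i) ≤ N(Z j)` -/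
theorem norm_B (hij : i ≠ j) {g : G} (hgB : g ∈ normalizer (B : Set G)) (hgi : g ∈ HH (Z i)) : g ∈ HH (Z j) := by
  have h0 : Z j ≠ ⊥ := by
    intro e
    obtain ⟨k, hk⟩ := D.pt j
    apply D.ne
    have h5 := congrArg (fun A => MulAut.conj k⁻¹ • A) (hk.symm.trans e)
    simp only [inv_conj_conj] at h5
    rw [h5]
    exact map_bot _
  obtain ⟨⟨z, hz⟩, hz1⟩ := (Subgroup.ne_bot_iff_exists_ne_one).1 h0
  have hz1' : z ≠ 1 := fun h => hz1 (Subtype.ext h)
  have hzB : z ∈ B := D.U_le_B j (D.ZU' j hz)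
  have h1 : g * z * g⁻¹ ∈ Z 0 ⊔ Z 1 := by
    refine D.zB _ ((mem_normalizer_iff.1 hgB z).1 hzB) ?_ fun b hb => ?_
    · rw [conj_pow, D.sqU j z (D.ZU' j hz), mul_one, mul_inv_cancel]
    · have hb' : g⁻¹ * b * g ∈ B := by
        have := (mem_normalizer_iff.1 (inv_mem hgB) b).1 hb
        rwa [inv_inv] at this
      have h2 := D.cBZ j hb' hz
      calc b * (g * z * g⁻¹) = g * ((g⁻¹ * b * g) * z) * g⁻¹ := by group
        _ = g * (z * (g⁻¹ * b * g)) * g⁻¹ := by rw [h2]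
        _ = g * z * g⁻¹ * b := by group
  have h2 : g * z * g⁻¹ ∈ MulAut.conj g • Z j := ⟨z, hz, rfl⟩
  have h3 := D.fus _ ((D.pt j).conj g) _ h2 h1 fun e => hz1' (conj_eq_one_iff.1 e)
  have h4 : MulAut.conj g • Z j = Z i ∨ MulAut.conj g • Z j = Z j := by
    rcases fin_two_pair hij with ⟨rfl, rfl⟩ | ⟨rfl, rfl⟩
    · exact h3
    · exact h3.symm
  rcases h4 with h4 | h4
  · exfalso
    apply D.Z_ne hij
    have h5 : MulAut.conj g • Z i = Z i := conj_eq_of_mem hgi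
    have h6 := congrArg (fun A => MulAut.conj g⁻¹ • A) (h4.trans h5.symm)
    simp only [inv_conj_conj] at h6
    exact h6.symm
  · exact mem_of_conj_eq h4

/-- `N(T) ∩ N(Z i) ≤ N(Z j)` for a 2-group `T ≥ B` -/
theorem norm_T (hwc : WC B) (hij : i ≠ j) {T : Subgroup G} (hT : IsPGroup 2 T) (hBT : B ≤ T) {g : G}
    (hgT : g ∈ normalizer (T : Set G)) (hgi : g ∈ HH (Z i)) : g ∈ HH (Z j) := by
  refine D.norm_B hij ?_ hgi
  rw [mem_normalizer_iff_cj]
  refine hwc T hT hBT g ?_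
  rintro _ ⟨b, hb, rfl⟩
  exact (mem_normalizer_iff.1 hgT b).1 (hBT hb)

theorem T_le (hwc : WC B) (hij : i ≠ j) {T : Subgroup G} (hT : IsPGroup 2 T) (hBT : B ≤ T)
    (hTi : T ≤ HH (Z i)) : T ≤ HH (Z j) := fun _ ht =>
  D.norm_T hwc hij hT hBT (Subgroup.le_normalizer ht) (hTi ht)

theorem B_le_cent (i : Fin 2) : B ≤ centralizer (Z i : Set G) := D.B_le.trans (D.D_le_cent i)

/-- **generation** -/
theorem gen (hwc : WC B) (hU : UniQ Z U B) (hij : i ≠ j) {Y : Subgroup G} (h1 : HH (Z i) ⊓ HH (Z j) ≤ Y)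
    (h2 : HH (Z i) ⊓ normalizer (U j : Set G) ≤ Y) : HH (Z i) ≤ Y := by
  obtain ⟨T, hBT, hT, hUT⟩ := hU i j hij
  have hCi : centralizer (Z i : Set G) ≤ HH (Z i) := centralizer_le_normalizer _
  have hC : centralizer (Z i : Set G) ≤ Y := by
    refine le_of_forall (S := T) hT.1 ?_ ?_
    · rintro g ⟨hg, hgT⟩
      exact h1 ⟨hCi hg, D.norm_T hwc hij hT.2.1 hBT hgT (hCi hg)⟩
    · intro R hR hRC
      by_cases hRj : R ≤ normalizer (Z j : Set G)
      · exact fun r hr => h1 ⟨hCi (hRC hr), hRj hr⟩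
      · exact fun r hr => h2 ⟨hCi (hRC hr), hUT R hR hRC hRj hr⟩
  intro c hc
  -- Frattini
  have hcC : cj c (centralizer (Z i : Set G)) = centralizer (Z i : Set G) := by
    rw [cj_centralizer]
    have h3 : cj c (Z i) = Z i := mem_normalizer_iff_cj.1 hc
    rw [h3]
  have hT' : Syl (cj c T) (centralizer (Z i : Set G)) := by
    refine ⟨?_, hT.2.1.map _, ?_⟩
    · have := cj_mono c hT.1
      rwa [hcC] at this
    · intro Q hQ hQ2 hTQ
      have h3 : T ≤ cj c⁻¹ Q := by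
        have := cj_mono c⁻¹ hTQ
        rwa [cj_inv_cj] at this
      have h4 : cj c⁻¹ Q ≤ centralizer (Z i : Set G) := by
        have h5 := cj_mono c⁻¹ hQ
        have h6 : cj c⁻¹ (centralizer (Z i : Set G)) = centralizer (Z i : Set G) := by
          conv_lhs => rw [← hcC]
          rw [cj_inv_cj]
        rwa [h6] at h5
      have h5 := hT.2.2 _ h4 (hQ2.map _) h3
      rw [← h5, cj_cj, mul_inv_cancel, cj_one]
  obtain ⟨x, hx, e⟩ := syl_conj hT' hT
  have h3 : x * c ∈ normalizer (T : Set G) := by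
    rw [mem_normalizer_iff_cj, ← cj_cj, e]
  have h4 : x * c ∈ HH (Z i) := mul_mem (hCi hx) hc
  have h5 := mul_mem (inv_mem (hC hx)) (h1 ⟨h4, D.norm_T hwc hij hT.2.1 hBT h3 h4⟩)
  rwa [inv_mul_cancel_left] at h5

/-- a 2-element which normalises all points of `U j` centralises `U j` -/
theorem cent_of_points {x : G} (hx : IsPGroup 2 (zpowers x))
    (h : ∀ e ∈ normalizer (U j : Set G), x ∈ normalizer ((MulAut.conj e • Z j : Subgroup G) : Set G)) :
    x ∈ centralizer (U j : Set G) := by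
  obtain ⟨k, hjk⟩ := fin_two_ex j
  obtain ⟨l, hlU, hlZ, -⟩ := D.mvl j k hjk
  -- `x` centralises every point
  have key : ∀ e ∈ normalizer (U j : Set G), ∀ w ∈ MulAut.conj e • Z j, x * w = w * x := by
    intro e he w hw
    have hyU : ∀ e ∈ normalizer (U j : Set G), MulAut.conj e • Z j ≤ U j := by
      intro e he
      have h2 := conj_le_iff (g := e) |>.2 (D.ZU' j)
      rwa [conj_eq_of_mem he] at h2
    have hel : e * l ∈ normalizer (U j : Set G) := mul_mem he (mem_of_conj_eq hlU)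
    have hP : IsPGroup 2 (MulAut.conj (e * l) • Z j : Subgroup G) :=
      ((D.B2.to_le (D.U_le_B j)).to_le (hyU _ hel))
    have hne : (MulAut.conj (e * l) • Z j : Subgroup G) ≠ ⊥ := by
      intro h0
      apply D.Z_bot j
      have h5 := congrArg (fun A => MulAut.conj (e * l)⁻¹ • A) h0
      simp only [inv_conj_conj] at h5
      rw [h5]
      exact map_bot _
    obtain ⟨a, ha, ha1, hax⟩ := exists_fixQ hx hP hne (by rw [zpowers_le]; exact h _ hel)
    have hax' : x * a = a * x := mem_centralizer_iff.1 hax x (mem_zpowers x)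
    have hwU : w ∈ U j := hyU e he hw
    have haU : a ∈ U j := hyU _ hel ha
    obtain ⟨e', he', z, hz, e1⟩ := D.cov hjk (mul_mem hwU haU)
    have h1 : w * a ∈ MulAut.conj e' • Z j := ⟨z, hz, e1.symm⟩
    have h2 : x * (w * a) * x⁻¹ ∈ MulAut.conj e' • Z j := (mem_normalizer_iff.1 (h e' he') _).1 h1
    have h3 : x * w * x⁻¹ * w⁻¹ ∈ MulAut.conj e' • Z j := by
      have h4 := mul_mem h2 (inv_mem h1)
      have e2 : x * (w * a) * x⁻¹ * (w * a)⁻¹ = x * w * x⁻¹ * w⁻¹ := by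
        calc x * (w * a) * x⁻¹ * (w * a)⁻¹ = x * w * x⁻¹ * (x * a) * x⁻¹ * a⁻¹ * w⁻¹ := by group
          _ = x * w * x⁻¹ * (a * x) * x⁻¹ * a⁻¹ * w⁻¹ := by rw [hax']
          _ = x * w * x⁻¹ * w⁻¹ := by group
      rwa [e2] at h4
    have h4 : x * w * x⁻¹ * w⁻¹ ∈ MulAut.conj e • Z j :=
      mul_mem ((mem_normalizer_iff.1 (h e he) _).1 hw) (inv_mem hw)
    by_cases h5 : x * w * x⁻¹ * w⁻¹ = 1
    · calc x * w = (x * w * x⁻¹ * w⁻¹) * (w * x) := by group
        _ = w * x := by rw [h5, one_mul]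
    · exfalso
      have h6 := D.ti _ _ ((D.pt j).conj e) ((D.pt j).conj e') _ h4 h3 h5
      rw [← h6] at h1
      have h7 : a ∈ MulAut.conj e • Z j := by
        have := mul_mem (inv_mem hw) h1
        rwa [inv_mul_cancel_left] at this
      have h8 : (MulAut.conj (e * l) • Z j) ⊓ (MulAut.conj e • Z j) = (⊥ : Subgroup G) := by
        rw [← conj_conj, ← Subgroup.smul_inf, hlZ]
        exact map_bot _
      have h9 : a ∈ (MulAut.conj (e * l) • Z j) ⊓ (MulAut.conj e • Z j) := ⟨ha, h7⟩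
      rw [h8, mem_bot] at h9
      exact ha1 h9
  refine mem_centralizer_iff.2 fun v hv => ?_
  obtain ⟨e, he, z, hz, rfl⟩ := D.cov hjk hv
  exact (key e he _ ⟨z, hz, rfl⟩).symm

/-- transitivity on the points of `U i`, fixing `Z j` -/
theorem tr2 (hij : i ≠ j) {e : G} (he : e ∈ normalizer (U i : Set G)) :
    ∃ g : G, MulAut.conj g • Z i = MulAut.conj e • Z i ∧ MulAut.conj g • Z j = Z j ∧ MulAut.conj g • U i = U i := by
  obtain ⟨s, s0, s1, s2, s3⟩ := D.swap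
  rcases fin_two_pair hij with ⟨rfl, rfl⟩ | ⟨rfl, rfl⟩
  · have h1 : MulAut.conj e • Z 0 ≤ U 0 := by
      have h2 := conj_le_iff (g := e) |>.2 (D.ZU' 0)
      rwa [conj_eq_of_mem he] at h2
    obtain ⟨l, h2, h3, h4, -⟩ := D.tr e h1
    exact ⟨l, h2, h3, h4⟩
  · have es : MulAut.conj s⁻¹ • U 1 = U 0 := by rw [← s2, inv_conj_conj]
    have ez : MulAut.conj s⁻¹ • Z 1 = Z 0 := by rw [← s0, inv_conj_conj]
    have ez0 : MulAut.conj s⁻¹ • Z 0 = Z 1 := by rw [← s1, inv_conj_conj]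
    have h1 : MulAut.conj (s⁻¹ * e * s) • Z 0 ≤ U 0 := by
      have hk : MulAut.conj (s⁻¹ * e * s) • U 0 = U 0 := by
        rw [← conj_conj, ← conj_conj, s2, conj_eq_of_mem he, es]
      have h2 := conj_le_iff (g := s⁻¹ * e * s) |>.2 (D.ZU' 0)
      rwa [hk] at h2
    obtain ⟨l, h2, h3, h4, -⟩ := D.tr _ h1
    refine ⟨s * l * s⁻¹, ?_, ?_, ?_⟩
    · rw [← conj_conj, ez, ← conj_conj, h2, conj_conj]
      have e1 : s * (s⁻¹ * e * s) = e * s := by group
      rw [e1, ← conj_conj, s0]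
    · rw [← conj_conj, ez0, ← conj_conj, h3, s1]
    · rw [← conj_conj, es, ← conj_conj, h4, s2]

/-- a group `R ≥ B` normalising `U i`, not `Z i`, is transitive on the points of `U i` -/
theorem trans_of (hij : i ≠ j) {R : Subgroup G} (hBR : B ≤ R) (hRU : R ≤ normalizer (U i : Set G))
    (hRm : ¬ R ≤ normalizer (Z i : Set G)) {k : G} (hk : k ∈ normalizer (U i : Set G)) :
    ∃ r ∈ R, MulAut.conj r • Z i = MulAut.conj k • Z i := by
  by_cases hk0 : MulAut.conj k • Z i = Z i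
  · exact ⟨1, one_mem _, by rw [hk0, map_one, one_smul]⟩
  obtain ⟨r₀, hr₀, hr₀n⟩ := SetLike.not_le_iff_exists.1 hRm
  have hdis : ∀ g : G, ¬ MulAut.conj g • Z i = Z i → MulAut.conj g • Z i ⊓ Z i = ⊥ := by
    intro g hg
    rw [eq_bot_iff]
    rintro x ⟨hx, hx'⟩
    by_contra hx1
    exact hg (D.ti _ _ ((D.pt i).conj g) (D.pt i) x hx hx' hx1)
  obtain ⟨⟨z, hz⟩, hz1⟩ := (Subgroup.ne_bot_iff_exists_ne_one).1 (D.Z_bot i)
  have hz1' : z ≠ 1 := fun h => hz1 (Subtype.ext h)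
  -- `v = z^{r₀}`
  have hvU : r₀ * z * r₀⁻¹ ∈ U i := (mem_normalizer_iff.1 (hRU hr₀) z).1 (D.ZU' i hz)
  have hvZ : r₀ * z * r₀⁻¹ ∉ Z i := fun h => hr₀n (D.ti_mem hz hz1' h)
  set v := r₀ * z * r₀⁻¹ with hv
  -- `v = z' y'`
  have hsup := D.sup_eq (conj_eq_of_mem hk) (hdis k hk0)
  have hvs : v ∈ Z i ⊔ MulAut.conj k • Z i := by rw [hsup]; exact hvU
  have hyU : MulAut.conj k • Z i ≤ U i := by
    have h2 := conj_le_iff (g := k) |>.2 (D.ZU' i)
    rwa [conj_eq_of_mem hk] at h2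
  obtain ⟨z', hz', y', hy', e⟩ := OM.KTwo.exists_mul_of_mem_sup (F := Z i) (N := MulAut.conj k • Z i)
    (fun y hy => centralizer_le_normalizer _ (mem_centralizer_iff.2 fun x hx => D.Uc i (D.ZU' i hx) (hyU hy))) hvs
  obtain ⟨b, hb, -, hbv⟩ := D.root i j hij v hvU hvZ z'⁻¹ (inv_mem hz')
  have h1 : b * v * b⁻¹ = y' := by
    calc b * v * b⁻¹ = (b * v * b⁻¹ * v⁻¹) * v := by group
      _ = z'⁻¹ * (z' * y') := by rw [hbv, e]
      _ = y' := by group
  refine ⟨b * r₀, mul_mem (hBR hb) hr₀, ?_⟩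
  refine D.ti _ _ ((D.pt i).conj _) ((D.pt i).conj _) y' ⟨z, hz, ?_⟩ hy' ?_
  · change b * r₀ * z * (b * r₀)⁻¹ = y'
    rw [← h1, hv]; group
  · rintro rfl
    apply hvZ
    rw [e, mul_one]
    exact hz'

/-- the points of `N_i` -/
theorem adj_iff (hij : i ≠ j) {u : Subgroup G} : Adj Z (Z i) u ↔ ∃ y ∈ HH (Z i), u = MulAut.conj y • Z j := by
  obtain ⟨s, s0, s1, -, -⟩ := D.swap
  constructor
  · rintro ⟨k, h1, rfl⟩
    rcases fin_two_pair hij with ⟨rfl, rfl⟩ | ⟨rfl, rfl⟩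
    · exact ⟨k, mem_of_conj_eq h1.symm, rfl⟩
    · refine ⟨k * s, mem_of_conj_eq ?_, ?_⟩
      · rw [← conj_conj, s1, ← h1]
      · rw [← conj_conj, s0]
  · rintro ⟨y, hy, rfl⟩
    have h1 := (D.adj hij).conj y
    rwa [conj_eq_of_mem hy] at h1

/-- **LEMMA 0** -/
theorem lem0 (hwc : WC B) (hU : UniQ Z U B) (hij : i ≠ j) {K : Subgroup G} (hKC : K ≤ centralizer (Z i : Set G))
    (hKn : HH (Z i) ≤ normalizer (K : Set G))
    (hmv : ∃ x ∈ K, IsPGroup 2 (zpowers x) ∧ x ∉ centralizer (NN Z (Z i) : Set G)) :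
    HH (Z i) ≤ K ⊔ (HH (Z i) ⊓ HH (Z j)) := by
  obtain ⟨T, hBT, hT, hUT⟩ := hU i j hij
  have hCi : centralizer (Z i : Set G) ≤ HH (Z i) := centralizer_le_normalizer _
  have hTi : T ≤ HH (Z i) := hT.1.trans hCi
  have hTj : T ≤ HH (Z j) := D.T_le hwc hij hT.2.1 hBT hTi
  -- `K` moves `Z j`
  have hKj : ¬ K ≤ HH (Z j) := by
    intro hKj
    obtain ⟨x, hxK, hx2, hxN⟩ := hmv
    apply hxN
    -- all points of `N_i` are normalised by `K`
    have hpt : ∀ u, Adj Z (Z i) u → K ≤ normalizer (u : Set G) := by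
      intro u hu
      obtain ⟨y, hy, rfl⟩ := (D.adj_iff hij).1 hu
      intro k hk
      have h1 : y⁻¹ * k * y ∈ K := by
        have := (mem_normalizer_iff.1 (hKn (inv_mem hy)) k).1 hk
        rwa [inv_inv] at this
      apply mem_of_conj_eq
      have h2 : MulAut.conj (y⁻¹ * k * y) • Z j = Z j := conj_eq_of_mem (hKj h1)
      calc MulAut.conj k • MulAut.conj y • Z j = MulAut.conj y • MulAut.conj (y⁻¹ * k * y) • Z j := by
            rw [conj_conj, conj_conj]; congr 2; group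
        _ = MulAut.conj y • Z j := by rw [h2]
    have hle : NN Z (Z i) ≤ centralizer ((zpowers x : Subgroup G) : Set G) := by
      refine sSup_le fun u hu => ?_
      obtain ⟨y, hy, rfl⟩ := (D.adj_iff hij).1 hu
      have h1 : y⁻¹ * x * y ∈ K := by
        have := (mem_normalizer_iff.1 (hKn (inv_mem hy)) x).1 hxK
        rwa [inv_inv] at this
      have h2 : IsPGroup 2 (zpowers (y⁻¹ * x * y)) := by
        have h3 : zpowers (y⁻¹ * x * y) = (zpowers x).map (MulAut.conj y⁻¹).toMonoidHom := by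
          rw [MonoidHom.map_zpowers]
          congr 1
          change y⁻¹ * x * y = y⁻¹ * x * y⁻¹⁻¹
          rw [inv_inv]
        rw [h3]
        exact hx2.map _
      have h3 : y⁻¹ * x * y ∈ centralizer (U j : Set G) := by
        refine D.cent_of_points h2 fun e he => ?_
        obtain ⟨g, hg1, hg2, -⟩ : ∃ g : G, MulAut.conj g • Z j = MulAut.conj e • Z j ∧ MulAut.conj g • Z i = Z i ∧
            MulAut.conj g • U j = U j := D.tr2 hij.symm he
        rw [← hg1]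
        exact hpt _ ((D.adj_iff hij).2 ⟨g, mem_of_conj_eq hg2, rfl⟩) h1
      rintro _ ⟨z, hz, rfl⟩
      refine mem_centralizer_iff.2 ?_
      rintro _ ⟨m, rfl⟩
      have h4 : z * (y⁻¹ * x * y) = y⁻¹ * x * y * z := mem_centralizer_iff.1 h3 z (D.ZU' j hz)
      have h5 : Commute x (y * z * y⁻¹) := by
        change x * (y * z * y⁻¹) = y * z * y⁻¹ * x
        calc x * (y * z * y⁻¹) = y * (y⁻¹ * x * y * z) * y⁻¹ := by group
          _ = y * (z * (y⁻¹ * x * y)) * y⁻¹ := by rw [h4]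
          _ = y * z * y⁻¹ * x := by group
      exact (h5.zpow_left m).eq
    exact mem_centralizer_iff.2 fun n hn => (mem_centralizer_iff.1 (hle hn) x (mem_zpowers x)).symm
  have hTn : T ≤ normalizer (K : Set G) := hTi.trans hKn
  -- a minimal parabolic `R ≤ K T` moving `Z j`
  obtain ⟨R, hR, hRX, hRm⟩ : ∃ R : Subgroup G, IsMinPar T R ∧ R ≤ K ⊔ T ∧ ¬ R ≤ normalizer (Z j : Set G) := by
    by_contra hcon
    push Not at hcon
    apply hKj
    refine le_trans le_sup_left (le_of_forall (S := T) (X := K ⊔ T) le_sup_right ?_ fun R hR hRX => hcon R hR hRX)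
    rintro g ⟨hg, hgT⟩
    exact D.norm_T hwc hij hT.2.1 hBT hgT ((sup_le (hKC.trans hCi) hTi) hg)
  have hRC : R ≤ centralizer (Z i : Set G) := hRX.trans (sup_le hKC hT.1)
  have hRN := hUT R hR hRC hRm
  refine D.gen hwc hU hij le_sup_right ?_
  rintro y ⟨hyi, hyU⟩
  obtain ⟨r, hr, h2⟩ := D.trans_of hij.symm (hBT.trans hR.le) hRN hRm hyU
  have h3 : r⁻¹ * y ∈ HH (Z j) := inv_mul_mem h2
  have h4 : r⁻¹ * y ∈ HH (Z i) := mul_mem (inv_mem (hCi (hRC hr))) hyi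
  have h5 : r ∈ K ⊔ (HH (Z i) ⊓ HH (Z j)) := (sup_le_sup_left (le_inf hTi hTj) K) (hRX hr)
  have h6 := mul_mem h5 (mem_sup_right (S := K) (show r⁻¹ * y ∈ HH (Z i) ⊓ HH (Z j) from ⟨h4, h3⟩))
  rwa [mul_inv_cancel_left] at h6

/-- **STEP F** : if `N(Z i) = (N(Z 0) ∩ N(Z 1)) (N(Z i) ∩ N(U i))`, then `N(Z i)` normalises `N_j`. -/
theorem stepF (hwc : WC B) (hU : UniQ Z U B) (hij : i ≠ j)
    (h : ∀ c ∈ HH (Z i), ∃ d ∈ HH (Z i) ⊓ HH (Z j), ∃ n ∈ normalizer (U i : Set G), c = d * n) : False := by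
  -- `N(Z i) m ⊆ N(Z j) N(Z i)` for `m ∈ N(U i) ∩ N(Z j)`
  have hM : ∀ m ∈ HH (Z j) ⊓ normalizer (U i : Set G), ∀ c ∈ HH (Z i), ∃ x ∈ HH (Z j), ∃ c' ∈ HH (Z i),
      c * m = x * c' := by
    rintro m ⟨hm, hmU⟩ c hc
    obtain ⟨d, hd, n, hn, rfl⟩ := h c hc
    obtain ⟨g, hg1, hg2, -⟩ := D.tr2 hij (mul_mem hn hmU)
    refine ⟨d * g, mul_mem hd.2 (mem_of_conj_eq hg2), g⁻¹ * (n * m), inv_mul_mem hg1, by group⟩
  have hD : ∀ m ∈ HH (Z j) ⊓ HH (Z i), ∀ c ∈ HH (Z i), ∃ x ∈ HH (Z j), ∃ c' ∈ HH (Z i), c * m = x * c' :=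
    fun m hm c hc => ⟨1, one_mem _, c * m, mul_mem hc hm.2, by group⟩
  let Y : Subgroup G :=
    { carrier := {y | (∀ c ∈ HH (Z i), ∃ x ∈ HH (Z j), ∃ c' ∈ HH (Z i), c * y = x * c') ∧
        (∀ c ∈ HH (Z i), ∃ x ∈ HH (Z j), ∃ c' ∈ HH (Z i), c * y⁻¹ = x * c')}
      one_mem' := ⟨fun c hc => ⟨1, one_mem _, c, hc, by group⟩, fun c hc => ⟨1, one_mem _, c, hc, by group⟩⟩
      mul_mem' := by
        rintro x y ⟨hx, hx'⟩ ⟨hy, hy'⟩
        constructor
        · intro c hc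
          obtain ⟨x₁, hx₁, c₁, hc₁, e₁⟩ := hx c hc
          obtain ⟨x₂, hx₂, c₂, hc₂, e₂⟩ := hy c₁ hc₁
          refine ⟨x₁ * x₂, mul_mem hx₁ hx₂, c₂, hc₂, ?_⟩
          calc c * (x * y) = c * x * y := by group
            _ = x₁ * (c₁ * y) := by rw [e₁]; group
            _ = x₁ * x₂ * c₂ := by rw [e₂]; group
        · intro c hc
          obtain ⟨x₁, hx₁, c₁, hc₁, e₁⟩ := hy' c hc
          obtain ⟨x₂, hx₂, c₂, hc₂, e₂⟩ := hx' c₁ hc₁
          refine ⟨x₁ * x₂, mul_mem hx₁ hx₂, c₂, hc₂, ?_⟩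
          calc c * (x * y)⁻¹ = c * y⁻¹ * x⁻¹ := by group
            _ = x₁ * (c₁ * x⁻¹) := by rw [e₁]; group
            _ = x₁ * x₂ * c₂ := by rw [e₂]; group
      inv_mem' := by
        rintro x ⟨hx, hx'⟩
        exact ⟨hx', by rw [inv_inv]; exact hx⟩ }
  have hY : HH (Z j) ≤ Y := by
    refine D.gen hwc hU hij.symm ?_ ?_
    · intro m hm
      exact ⟨hD m hm, hD m⁻¹ (inv_mem hm)⟩
    · intro m hm
      exact ⟨hM m hm, hM m⁻¹ (inv_mem hm)⟩
  have key : ∀ c ∈ HH (Z i), MulAut.conj c • NN Z (Z j) ≤ NN Z (Z j) := by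
    intro c hc
    have h0 : NN Z (Z j) ≤ MulAut.conj c⁻¹ • NN Z (Z j) := by
      refine sSup_le fun u hu => ?_
      obtain ⟨y, hy, rfl⟩ := (D.adj_iff hij.symm).1 hu
      obtain ⟨x, hx, c', hc', e⟩ := (hY hy).1 c hc
      have h1 : MulAut.conj c • (MulAut.conj y • Z i) ≤ NN Z (Z j) := by
        rw [conj_conj, e, ← conj_conj, conj_eq_of_mem hc']
        exact ((D.adj_iff hij.symm).2 ⟨x, hx, rfl⟩).le_NN
      have h2 := conj_le_iff (g := c⁻¹) |>.2 h1
      rwa [inv_conj_conj] at h2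
    have h2 := conj_le_iff (g := c) |>.2 h0
    rwa [conj_inv_conj] at h2
  have hi : HH (Z i) ≤ normalizer (NN Z (Z j) : Set G) := by
    intro c hc
    refine mem_of_conj_eq (le_antisymm (key c hc) ?_)
    have h2 := conj_le_iff (g := c) |>.2 (key c⁻¹ (inv_mem hc))
    rwa [conj_inv_conj] at h2
  have hj : HH (Z j) ≤ normalizer (NN Z (Z j) : Set G) := D.HH_norm_N j
  have h2 : IsPGroup 2 (NN Z (Z j)) := D.B2.to_le ((D.N_le_O j).trans D.O_le_B)
  have h3 : NN Z (Z j) = ⊥ := by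
    rcases fin_two_pair hij with ⟨rfl, rfl⟩ | ⟨rfl, rfl⟩
    · exact D.nonLoc _ h2 hi hj
    · exact D.nonLoc _ h2 hj hi
  have h4 : Z i ≤ NN Z (Z j) := (D.adj hij.symm).le_NN
  rw [h3] at h4
  exact D.Z_bot i (le_bot_iff.1 h4)

/-- **`done`** (NV.done, hdone of helper649). -/
theorem done (hwc : WC B) (hU : UniQ Z U B) {K : Subgroup G} (hKC : K ≤ centralizer (Z i : Set G))
    (hKn : HH (Z i) ≤ normalizer (K : Set G))
    (hmv : ∃ x ∈ K, IsPGroup 2 (zpowers x) ∧ x ∉ centralizer (NN Z (Z i) : Set G)) :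
    ¬ K ≤ normalizer (U i : Set G) := by
  intro hKU
  obtain ⟨j, hij⟩ := fin_two_ex i
  refine D.stepF hwc hU hij fun c hc => ?_
  have h1 := D.lem0 hwc hU hij hKC hKn hmv hc
  obtain ⟨x, hx, d, hd, rfl⟩ := OM.KTwo.exists_mul_of_mem_sup (F := K) (N := HH (Z i) ⊓ HH (Z j))
    (inf_le_left.trans hKn) h1
  refine ⟨d, hd, d⁻¹ * x * d, hKU ?_, by group⟩
  have := (mem_normalizer_iff.1 (hKn (inv_mem hd.1)) x).1 hx
  rwa [inv_inv] at this

/-- **LEMMA 0** in the form `PcQ.L0`. -/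
theorem l0 (hwc : WC B) (hU : UniQ Z U B) : PcQ.L0 Z := by
  intro K hKC hKn hmv u u' hu hu'
  obtain ⟨y, hy, rfl⟩ := (D.adj_iff (by decide : (0 : Fin 2) ≠ 1)).1 hu
  obtain ⟨y', hy', rfl⟩ := (D.adj_iff (by decide : (0 : Fin 2) ≠ 1)).1 hu'
  have h1 := D.lem0 hwc hU (by decide : (0 : Fin 2) ≠ 1) hKC hKn hmv
  obtain ⟨x₁, hx₁, d₁, hd₁, e₁⟩ := OM.KTwo.exists_mul_of_mem_sup (F := K) (N := HH (Z 0) ⊓ HH (Z 1))
    (inf_le_left.trans hKn) (h1 hy)
  obtain ⟨x₂, hx₂, d₂, hd₂, e₂⟩ := OM.KTwo.exists_mul_of_mem_sup (F := K) (N := HH (Z 0) ⊓ HH (Z 1))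
    (inf_le_left.trans hKn) (h1 hy')
  refine ⟨x₂ * x₁⁻¹, mul_mem hx₂ (inv_mem hx₁), ?_⟩
  have a1 : MulAut.conj y • Z 1 = MulAut.conj x₁ • Z 1 := by
    rw [e₁, ← conj_conj, conj_eq_of_mem hd₁.2]
  have a2 : MulAut.conj y' • Z 1 = MulAut.conj x₂ • Z 1 := by
    rw [e₂, ← conj_conj, conj_eq_of_mem hd₂.2]
  rw [a1, a2, conj_conj]
  congr 2
  group

end FQ

end Cfsg.Agent.Omega.NO3S.EThree

end

section


/-!
# Row (7): `TiIn` (all stages, `q ≥ 4`)
-/

set_option autoImplicit false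

namespace Cfsg.Agent.Omega.NO3S.EThree.TiInQ

open Cfsg.Agent.Omega.OM
open Cfsg.Agent.Omega.Frame (Cls)
open Cfsg.Agent.Omega.NO3S.EThree.Row7 (TiIn)
open Cfsg.Agent.Omega.NO3S.EThree.TiNeg (TiLev tiIn_of)

universe u

/-- TI or (4F) at the stages `n ≥ 0`. -/
theorem tiLev (K : Cls.{u}) : TiLev K :=
  fun _ _ _ _ _ _ _ _ _ _ _ _ _ _ hq hj h _ => h.ti_levF hj (by omega)

/-- **`TiIn`.** -/
theorem tiIn (hFF : FFThm.Stmt.{u}) (K : Cls.{u}) : TiIn K := tiIn_of hFF (tiLev K)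

end Cfsg.Agent.Omega.NO3S.EThree.TiInQ

end

end
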