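import Cfsg.Agent.Mrg.Omega.NO3S.EThree.RegX
import Cfsg.Agent.Mrg.Omega.NO3S.EThree.Row7
import Cfsg.Agent.Mrg.Omega.NO3S.EThree.CoreOf
import Cfsg.Agent.Mrg.Omega.OM.PG.ExactQ
import Cfsg.Agent.Mrg.Omega.BTwo.Basic
import Cfsg.Agent.Omega.OmThm.GrpSP
import Cfsg.Agent.Mrg.Omega.NO3S.EThree.ExactB
import Cfsg.Agent.Omega.NO3S.EThree.TBig

-- merged: Cfsg.Agent.Mrg.Omega.NO3S.EThree.V7
section

/-!
# THEOREM R for `q ≥ 4` (`k = 2`), every stage: the assembly (helper627 #23558 (10), helper925 #23084)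

* `FQ.false_rad` : `Z_i ≤ N_i`: contradiction from (1a) = `TA'`, (1b) = `OneB`, `(NO)`, `CoreP`;
* `RIn K` : (1a) and (1b), radical case; `NrIn K` : no radical, `[X_1, N_2] = 1` and THEOREM C;
* **`vIn_of : MLK → RIn K → NrIn K → VIn K`**.
-/

set_option autoImplicit false
set_option linter.unusedSectionVars false

namespace Cfsg.Agent.Omega.NO3S.EThree

open Subgroup Cfsg Cfsg.Agent.ZN Cfsg.Agent.Omega.MinPar
open Cfsg.Agent.Omega.NoFF.Basic (conj_conj mem_conj conj_le_iff conj_le_centralizer comm_symm comm_mono)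
open Cfsg.Agent.Omega.OM.PG
open Cfsg.Agent.Omega.OM.PG.Peel (Nob Exa XW)
open Cfsg.Agent.Omega.NO3S.EThree.ExactA (NoP)
open Cfsg.Agent.Omega.OM.PG.TwoI (TA')
open scoped Pointwise

universe u

variable {G : Type u} [Group G]

/-- `[N_a, N_u] = 1` for all adjacent pairs from one. -/
theorem com_all {Z : Fin 2 → Subgroup G} (h : Com Z (Z 0) (Z 1)) : ∀ a u : Subgroup G, Adj Z a u → Com Z a u := by
  rintro _ _ ⟨k, rfl, rfl⟩
  unfold Com
  rw [NN_conj, NN_conj]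
  exact conj_le_centralizer h

/-- **The radical case.** -/
theorem FQ.false_rad [Finite G] {Z U : Fin 2 → Subgroup G} {B : Subgroup G} {q : ℕ} (D : FQ Z U B q) (hNO : NoDQ Z)
    (hQ : NoQQ Z) (hP : NoP Z) (hcore : PcK.CoreP Z)
    (hcom : NN Z (Z 0) ⊓ NN Z (Z 1) ≤ Z 0 ⊔ Z 1 → Com Z (Z 0) (Z 1))
    (hrad : ∀ i, Z i ≤ NN Z (Z i)) (h1a : TA' Z (XW Z U)) (h1b : OneB Z U) : False := by
  have hi := D.inter_of hNO hQ hrad h1b
  refine TwoI.false_of_pc D.toPP (D.XW_eab 0) (D.XW_le_Q 0) D.nobX D.tip hP h1a (D.tb_of hNO h1b) D.fixP D.surQ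
    (D.hdis hi) fun a u hau => ?_
  exact PcK.pcK' D.toPP (Peel.xf D.toPP (D.XW_eab 0) (D.XW_le_Q 0)) (com_all (hcom hi)) D.tip D.surQ D.pts D.card0
    hcore (hrad 0) hau

end Cfsg.Agent.Omega.NO3S.EThree

namespace Cfsg.Agent.Omega.NO3S.EThree.Row7

open Subgroup Cfsg Cfsg.Agent.ZN.ChoiceBase
open Cfsg.Agent.Omega.OM
open Cfsg.Agent.Omega.NO3S.EThree
open Cfsg.Agent.Omega.OM.PG (Com)
open Cfsg.Agent.Omega.OM.PG.Peel (XW)
open Cfsg.Agent.Omega.OM.PG.TwoI (TA')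
open Cfsg.Agent.Omega.NO3S.EThree.Frame
open Cfsg.Agent.Omega.MinPar (NonLoc)
open Cfsg.Agent.Omega.Frame (Cls)
open Cfsg.Agent.Omega.Node.MultiOf
open scoped Pointwise

universe u

variable {G : Type u} [Group G]

section sockets

variable (K : Cls.{u})

/-- (1a), (1b) of THEOREM R, radical case. -/
def RIn : Prop :=
  ∀ (G : Type u) [Group G] [Finite G], K G → ∀ (S : Sylow 2 G) (P K' B ZJ : Subgroup G)
    (L W Z C : Fin 2 → Subgroup G) (q : ℕ), MQ S P K' B ZJ L W Z C q → (∀ i, ¬ W i ≤ Nn Z i) →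
      (∀ i, Z i ≤ Nn Z i) → TA' Z (XW Z W) ∧ OneB Z W

/-- (NR1), THEOREM C; no radical. -/
def NrIn : Prop :=
  ∀ (G : Type u) [Group G] [Finite G], K G → ∀ (S : Sylow 2 G) (P K' B ZJ : Subgroup G)
    (L W Z C : Fin 2 → Subgroup G) (q : ℕ), MQ S P K' B ZJ L W Z C q → ¬ Z 0 ≤ Nn Z 0 →
      PG.PeelQ.ThmC2 Z (XW Z W) ∧ XW Z W (Z 0) ≤ centralizer (Nn Z 1 : Set G)

end sockets

/-- the swap: `Z 0 ≤ N_0` gives `Z i ≤ N_i` -/
theorem MQ.rad [Finite G] {S : Sylow 2 G} {P K' B ZJ : Subgroup G} {L W Z C : Fin 2 → Subgroup G} {q : ℕ}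
    (h : MQ S P K' B ZJ L W Z C q) (h0 : Z 0 ≤ Nn Z 0) (i : Fin 2) : Z i ≤ Nn Z i := by
  rcases fin2 i with rfl | rfl
  · exact h0
  obtain ⟨s, p⟩ := h.exists_pa
  have e0 : cj s (Z 0) = Z 1 := h.bg.cj_s_Z p
  have e1 : cj s (Nn Z 0) = Nn Z 1 := by
    have h1 : PG.NN Z (cj s (Z 0)) = cj s (PG.NN Z (Z 0)) := PG.NN_conj s (Z 0)
    rw [e0] at h1
    exact h1.symm
  rw [← e0, ← e1]
  exact cj_mono s h0

/-- **(A)**: `VIn` from `RIn`, `NrIn`. -/
theorem vIn_of {K : Cls.{u}} (hML : ML.Final.MLK.{u, u}) (hR : RIn K) (hN : NrIn K) : VIn K := by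
  intro G _ _ hG S P K' B ZJ L W Z C q h hW
  have D : FQ Z W B q := FQ.of_bg h.bg (h.ti 0) h.nonloc
  by_cases h0 : Z 0 ≤ Nn Z 0
  · have hrad := h.rad h0
    obtain ⟨h1a, h1b⟩ := hR G hG S P K' B ZJ L W Z C q h hW hrad
    exact D.false_rad (NoDQ.of_bg h.bg hML (h.ti 0) h.nonloc) (NoQQ.of_bg h.bg hML (h.ti 0) h.nonloc)
      (NoP.of_bg h.bg hML (h.ti 0) h.nonloc) (CoreP.of_bg h.bg) h.com_of_inter hrad h1a h1b
  · obtain ⟨hC, hX⟩ := hN G hG S P K' B ZJ L W Z C q h h0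
    exact D.nrTwo (NoP.of_bg h.bg hML (h.ti 0) h.nonloc) hC h0 hX

end Cfsg.Agent.Omega.NO3S.EThree.Row7

end

-- merged: Cfsg.Agent.Mrg.Omega.NO3S.EThree.ThmCNr
section

section


/-!
# (E), `k = 2`, `q ≥ 4`, THEOREM C without radical (helper997 #19092)

`D : FQ Z U B q`, `2 < q`, `Z 0 ≰ N_1`.

* `DoneQ Z U` : LEMMA 0 + STEP F: no `K ⊴ N(Z 0)` in `C(Z 0)`, moving `N_1` by a 2-element, normalises `U 0`;
* `SylU0 Z U` : a Sylow 2-subgroup of `N(Z 0)` normalises `U 0`;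
* `FQ.irr_nr` : `N_1` is irreducible for `N(Z 0)`;
* **`FQ.thmC2_nr`** : THEOREM C.  The canonical complement `u ↦ u y(u)` of `N_1` in `U_0N_1` centralised by `K`
  (Gaschuetz) has `y(u) ∈ Z 1`, and `y` is constant on `U 0 - Z 0` (the torus of `L_0` centralises `U 1`), additive;
* `FQ.oneB_of_thmC2`, `FQ.ta'_of_thmC2` : `OneB`, `TA'` from THEOREM C.
-/

set_option autoImplicit false
set_option linter.unusedSectionVars false

namespace Cfsg.Agent.Omega.NO3S.EThree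

open Subgroup Cfsg Cfsg.Agent.ZN Cfsg.Agent.Omega.MinPar
open Cfsg.Agent.Omega.NoFF.Basic (conj_conj mem_conj conj_le_iff conj_le_centralizer comm_symm comm_mono)
open Cfsg.Agent.Omega.NOThreeL.Pair (conj_eq_of_mem)
open Cfsg.Agent.Omega.OM.PG
open Cfsg.Agent.Omega.OM.PG.Int (Ex rix_ne)
open Cfsg.Agent.Omega.OM.PG.Peel (XF XW XW_conj ln_le_XW)
open Cfsg.Agent.Omega.OM.PG.PeelQ (ThmC2 TIp NobX)
open Cfsg.Agent.Omega.NO3S.EThree.ExactA (eab_iff eab_mono eab_sup NoP)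
open Cfsg.Agent.ZN.ChoiceBase (AA mem_AA_iff cj cj_mono cj_inf card_cj)
open Cfsg.Agent.ZN.ChoiceSit (Syl exists_syl syl_conj syl_not_dvd)
open scoped Pointwise

universe u

variable {G : Type u} [Group G]

/-- LEMMA 0 + STEP F -/
def DoneQ (Z U : Fin 2 → Subgroup G) : Prop :=
  ∀ K : Subgroup G, K ≤ centralizer (Z 0 : Set G) → HH (Z 0) ≤ normalizer (K : Set G) →
    (∃ x ∈ K, IsPGroup 2 (zpowers x) ∧ x ∉ centralizer (NN Z (Z 0) : Set G)) → ¬ K ≤ normalizer (U 0 : Set G)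

/-- a Sylow 2-subgroup of `N(Z 0)` normalises `U 0` -/
def SylU0 (Z U : Fin 2 → Subgroup G) : Prop :=
  ∃ T : Subgroup G, Syl T (normalizer (Z 0 : Set G)) ∧ T ≤ normalizer (U 0 : Set G)

/-- `A ∈ AA Q`, `X ≤ Q` elementary abelian : `|X : C_X(A)| ≤ |A : C_A(X)|` -/
theorem relIndex_le_of_AA [Finite G] {Q X A : Subgroup G} (hX : IsElementaryAbelian 2 X) (hXQ : X ≤ Q)
    (hA : A ∈ AA Q) : (centralizer (A : Set G)).relIndex X ≤ (centralizer (X : Set G)).relIndex A := by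
  have hAe := hA.1
  have hX' := (eab_iff.1 hX).1
  have hA' := (eab_iff.1 hAe).1
  set K := A ⊓ centralizer (X : Set G) with hK
  set D := X ⊓ centralizer (A : Set G) with hD
  have hKe : IsElementaryAbelian 2 K := eab_mono hAe inf_le_left
  have hE : IsElementaryAbelian 2 (K ⊔ X : Subgroup G) := eab_sup hKe hX inf_le_right
  have hEA : Nat.card (K ⊔ X : Subgroup G) ≤ Nat.card A := hA.2.2 _ hE (sup_le (inf_le_left.trans hA.2.1) hXQ)
  have h1 : Nat.card (K ⊔ X : Subgroup G) * Nat.card (K ⊓ X : Subgroup G) = Nat.card K * Nat.card X :=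
    NO3S.ML.card_sup_mul_of_comm fun a ha b hb => (mem_centralizer_iff.1 ((inf_le_right : K ≤ _) ha) b hb).symm
  have h2 : Nat.card (K ⊓ X : Subgroup G) ≤ Nat.card D :=
    Subgroup.card_le_of_le (le_inf inf_le_right ((inf_le_left.trans inf_le_left).trans hA'))
  have h3 : Nat.card K * (centralizer (X : Set G)).relIndex A = Nat.card A := by
    rw [hK, ← Subgroup.inf_relIndex_left]
    exact NO3S.ML.card_mul_relIndex inf_le_left
  have h4 : Nat.card D * (centralizer (A : Set G)).relIndex X = Nat.card X := by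
    rw [hD, ← Subgroup.inf_relIndex_left]
    exact NO3S.ML.card_mul_relIndex inf_le_left
  have pK : 0 < Nat.card K := Nat.card_pos
  have pD : 0 < Nat.card D := Nat.card_pos
  have h5 : Nat.card K * Nat.card D * (centralizer (A : Set G)).relIndex X ≤
      Nat.card K * Nat.card D * (centralizer (X : Set G)).relIndex A := by
    calc _ = Nat.card K * Nat.card X := by rw [← h4]; ring
      _ = Nat.card (K ⊔ X : Subgroup G) * Nat.card (K ⊓ X : Subgroup G) := h1.symm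
      _ ≤ Nat.card A * Nat.card D := Nat.mul_le_mul hEA h2
      _ = _ := by rw [← h3]; ring
  exact Nat.le_of_mul_le_mul_left h5 (Nat.mul_pos pK pD)

/-- `K ⊴ H`, `T` Sylow in `H` : `T ∩ K` is Sylow in `K` -/
theorem syl_inf_of_norm [Finite G] {T H K : Subgroup G} (hT : Syl T H) (hKH : K ≤ H)
    (hn : H ≤ normalizer (K : Set G)) : Syl (T ⊓ K) K := by
  refine ⟨inf_le_right, hT.2.1.to_le inf_le_left, fun Q hQ hQ2 hle => ?_⟩
  obtain ⟨R, hR, hQR⟩ := exists_syl hQ2 (hQ.trans hKH)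
  obtain ⟨h, hh, e⟩ := syl_conj hT hR
  have h1 : Q ≤ cj h (T ⊓ K) := by
    rw [cj_inf, e]
    refine le_inf hQR ?_
    have h2 : cj h K = K := ChoiceBase.mem_normalizer_iff_cj.1 (hn hh)
    rw [h2]
    exact hQ
  have h2 := Subgroup.card_le_of_le h1
  rw [card_cj] at h2
  exact (Subgroup.eq_of_le_of_card_ge hle h2).symm

namespace FQ

variable [Finite G] {Z U : Fin 2 → Subgroup G} {B : Subgroup G} {q : ℕ} (D : FQ Z U B q)
include D

/-- an element of `U i - Z i` is moved to another one by `C(U j) ∩ N(Z i) ∩ N(U i)` -/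
theorem exists_mv_to' {i j : Fin 2} (hij : i ≠ j) {x y : G} (hx : x ∈ U i) (hxZ : x ∉ Z i) (hy : y ∈ U i)
    (hyZ : y ∉ Z i) : ∃ g ∈ centralizer (U j : Set G), MulAut.conj g • Z i = Z i ∧ MulAut.conj g • U i = U i ∧
      g * x * g⁻¹ = y := by
  obtain ⟨h, hc, h1, h2, h3⟩ := D.tor i j hij x hx hxZ y hy hyZ
  obtain ⟨b, hb, hbc, h4⟩ := D.root i j hij y hy hyZ _ h3
  have hyz : y * (y⁻¹ * (h * x * h⁻¹)) = (y⁻¹ * (h * x * h⁻¹)) * y := mem_centralizer_iff.1 ((eab_iff.1 (D.eU i)).1 (D.ZU' i h3)) y hy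
  have e1 : b * y * b⁻¹ = h * x * h⁻¹ := by
    calc b * y * b⁻¹ = (b * y * b⁻¹ * y⁻¹) * y := by group
      _ = (y⁻¹ * (h * x * h⁻¹)) * y := by rw [h4]
      _ = y * (y⁻¹ * (h * x * h⁻¹)) := hyz.symm
      _ = _ := by group
  have hbZ : MulAut.conj b⁻¹ • Z i = Z i := conj_eq_of_mem (inv_mem (D.B_le_HH i hb))
  have hbU : MulAut.conj b⁻¹ • U i = U i := conj_eq_of_mem (inv_mem (D.B_le_NU i hb))
  refine ⟨b⁻¹ * h, mul_mem (inv_mem hbc) hc, ?_, ?_, ?_⟩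
  · rw [← conj_conj, h1, hbZ]
  · rw [← conj_conj, h2, hbU]
  · calc b⁻¹ * h * x * (b⁻¹ * h)⁻¹ = b⁻¹ * (h * x * h⁻¹) * b := by group
      _ = b⁻¹ * (b * y * b⁻¹) * b := by rw [e1]
      _ = y := by group

/-- `C(Z i)` is transitive on `(Z j)#` -/
theorem trans_Z' {i j : Fin 2} (hij : i ≠ j) {a a' : G} (ha : a ∈ Z j) (ha1 : a ≠ 1) (ha' : a' ∈ Z j) (ha1' : a' ≠ 1) :
    ∃ g ∈ centralizer (Z i : Set G), g * a * g⁻¹ = a' := by
  obtain ⟨l, hl1, hl2, hlc, -, -⟩ := D.mvl j i hij.symm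
  have hlU' : MulAut.conj l⁻¹ • U j = U j := by
    have h3 := congrArg (fun X => MulAut.conj l⁻¹ • X) hl1
    simpa only [inv_conj_conj] using h3.symm
  have key : ∀ c ∈ Z j, c ≠ 1 → l⁻¹ * c * l ∈ U j ∧ l⁻¹ * c * l ∉ Z j := by
    intro c hc hc1
    refine ⟨?_, fun h => hc1 ?_⟩
    · rw [← hlU']
      refine ⟨c, D.ZU' j hc, ?_⟩
      change l⁻¹ * c * l⁻¹⁻¹ = _
      rw [inv_inv]
    · have h3 : c ∈ MulAut.conj l • Z j ⊓ Z j := by
        refine ⟨⟨_, h, ?_⟩, hc⟩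
        change l * (l⁻¹ * c * l) * l⁻¹ = c
        group
      rwa [hl2, mem_bot] at h3
  obtain ⟨g, hgc, -, -, hg⟩ := D.exists_mv_to' hij.symm (key a ha ha1).1 (key a ha ha1).2 (key a' ha' ha1').1
    (key a' ha' ha1').2
  refine ⟨l * g * l⁻¹, mul_mem (mul_mem hlc (centralizer_le (D.ZU' i) hgc)) (inv_mem hlc), ?_⟩
  calc l * g * l⁻¹ * a * (l * g * l⁻¹)⁻¹ = l * (g * (l⁻¹ * a * l) * g⁻¹) * l⁻¹ := by group
    _ = l * (l⁻¹ * a' * l) * l⁻¹ := by rw [hg]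
    _ = a' := by group

/-- `C_{N_1}(B) ≤ Z 1` without radical -/
theorem fix_nr (hnr : ¬ Z 0 ≤ NN Z (Z 0)) {y : G} (hy : y ∈ NN Z (Z 0)) (h : ∀ b ∈ B, b * y = y * b) : y ∈ Z 1 := by
  have h1 := D.zB y (D.O_le_B (D.N_le_O 0 hy)) ((eab_iff.1 (D.N_eab 0)).2 y hy) h
  obtain ⟨a, ha, b, hb, e⟩ := D.sup_mem (i := 0) (j := 1) (by decide) h1
  have ha1 : a = 1 := by
    refine D.N_inf_Z hnr 0 ?_ ha
    have h3 : a = y * b⁻¹ := by rw [e]; group
    rw [h3]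
    exact mul_mem hy (inv_mem ((D.adj (i := 0) (j := 1) (by decide)).le_NN hb))
  rw [e, ha1, one_mul]
  exact hb

/-- **Without radical, `N_1` is irreducible for `N(Z 0)`.** -/
theorem irr_nr (hnr : ¬ Z 0 ≤ NN Z (Z 0)) {J : Subgroup G} (hJ : J ≤ NN Z (Z 0))
    (hn : HH (Z 0) ≤ normalizer (J : Set G)) : J = ⊥ ∨ NN Z (Z 0) ≤ J := by
  by_cases hJ1 : J = ⊥
  · exact Or.inl hJ1
  right
  have hB : J ≤ B := hJ.trans ((D.N_le_O 0).trans D.O_le_B)
  obtain ⟨x, hx, hx1, hxB⟩ := Cfsg.Agent.Omega.NoFF.LinesPlug.exists_fixed D.B2 hB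
    ((D.B_le_HH 0).trans hn) hJ1
  have hxZ : x ∈ Z 1 := D.fix_nr hnr (hJ hx) hxB
  have hZJ : Z 1 ≤ J := by
    intro z hz
    by_cases hz1 : z = 1
    · rw [hz1]; exact one_mem _
    obtain ⟨g, hg, rfl⟩ := D.trans_Z' (i := 0) (j := 1) (by decide) hxZ hx1 hz hz1
    exact (mem_normalizer_iff.1 (hn (centralizer_le_normalizer _ hg)) x).1 hx
  refine sSup_le ?_
  rintro _ ⟨k, hk, rfl⟩
  have h2 : MulAut.conj k • J = J := conj_eq_of_mem (hn (ChoiceBase.mem_normalizer_iff_cj.2 hk.symm))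
  rw [← h2]
  exact conj_le_iff.2 hZJ

/-- `U_0 ∩ N_1 = 1` without radical -/
theorem U_inf_N_nr (hnr : ¬ Z 0 ≤ NN Z (Z 0)) {x : G} (hx : x ∈ U 0) (hxN : x ∈ NN Z (Z 0)) : x = 1 := by
  by_contra hne
  have hJ : U 0 ⊓ NN Z (Z 0) ≠ ⊥ := fun e => hne (by
    have h1 : x ∈ U 0 ⊓ NN Z (Z 0) := ⟨hx, hxN⟩
    rwa [e, mem_bot] at h1)
  obtain ⟨y, hy, hy1, hyB⟩ := Cfsg.Agent.Omega.NoFF.LinesPlug.exists_fixed D.B2
    (inf_le_left.trans (D.U_le_B 0)) (NO3L.LemP.le_normalizer_inf (D.B_le_NU 0)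
      (fun b hb => D.HH_norm_N 0 (D.B_le_HH 0 hb))) hJ
  exact hy1 (D.N_inf_Z hnr 0 hy.2 (D.mem_Z_of_fix hy.1 hyB))

/-- the elements of `C(Z 0)` trivial on `X_0 / N_1` -/
def KC (_ : FQ Z U B q) : Subgroup G where
  carrier := {g | g ∈ centralizer (Z 0 : Set G) ∧ ∀ x ∈ XW Z U (Z 0), x * g * x⁻¹ * g⁻¹ ∈ NN Z (Z 0)}
  one_mem' := ⟨one_mem _, fun x _ => by simp⟩
  mul_mem' := by
    rintro g h ⟨hg, h1⟩ ⟨hh, h2⟩
    refine ⟨mul_mem hg hh, fun x hx => ?_⟩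
    have hgn : g ∈ normalizer (NN Z (Z 0) : Set G) := PP.HH_le_NN (Z 0) (centralizer_le_normalizer _ hg)
    have h3 := (mem_normalizer_iff.1 hgn _).1 (h2 x hx)
    have e : x * (g * h) * x⁻¹ * (g * h)⁻¹ = (x * g * x⁻¹ * g⁻¹) * (g * (x * h * x⁻¹ * h⁻¹) * g⁻¹) := by group
    rw [e]
    exact mul_mem (h1 x hx) h3
  inv_mem' := by
    rintro g ⟨hg, h1⟩
    refine ⟨inv_mem hg, fun x hx => ?_⟩
    have hgn : g⁻¹ ∈ normalizer (NN Z (Z 0) : Set G) := PP.HH_le_NN (Z 0) (centralizer_le_normalizer _ (inv_mem hg))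
    have h3 := (mem_normalizer_iff.1 hgn _).1 (inv_mem (h1 x hx))
    have e : x * g⁻¹ * x⁻¹ * g⁻¹⁻¹ = g⁻¹ * (x * g * x⁻¹ * g⁻¹)⁻¹ * g⁻¹⁻¹ := by group
    rw [e]
    exact h3

theorem KC_le : D.KC ≤ centralizer (Z 0 : Set G) := fun g hg => hg.1

theorem HH_norm_X (i : Fin 2) : HH (Z i) ≤ normalizer (XW Z U (Z i) : Set G) := by
  intro g hg
  refine ChoiceBase.mem_normalizer_iff_cj.2 ?_
  change MulAut.conj g • XW Z U (Z i) = _
  rw [← XW_conj, conj_eq_of_mem hg]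

theorem HH_norm_KC : HH (Z 0) ≤ normalizer (D.KC : Set G) := by
  have key : ∀ h ∈ HH (Z 0), ∀ g ∈ D.KC, h * g * h⁻¹ ∈ D.KC := by
    rintro h hh g ⟨hg, h1⟩
    refine ⟨(mem_normalizer_iff.1 (NO3L.LemP.normalizer_le_normalizer_cent (Z 0) hh) g).1 hg, fun x hx => ?_⟩
    have hx' : h⁻¹ * x * h ∈ XW Z U (Z 0) := by
      have := (mem_normalizer_iff.1 (D.HH_norm_X 0 (inv_mem hh)) x).1 hx
      rwa [inv_inv] at this
    have h3 := (mem_normalizer_iff.1 (D.HH_norm_N 0 hh) _).1 (h1 _ hx')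
    have e : x * (h * g * h⁻¹) * x⁻¹ * (h * g * h⁻¹)⁻¹ =
        h * (h⁻¹ * x * h * g * (h⁻¹ * x * h)⁻¹ * g⁻¹) * h⁻¹ := by group
    rw [e]
    exact h3
  intro h hh
  rw [mem_normalizer_iff]
  intro g
  refine ⟨key h hh g, fun hg => ?_⟩
  have h1 := key h⁻¹ (inv_mem hh) _ hg
  have e : h⁻¹ * (h * g * h⁻¹) * h⁻¹⁻¹ = g := by group
  rwa [e] at h1

/-- **THEOREM C at `Z 0`**: `KC` centralises `U 0`. -/
theorem KC_cent (hq : 2 < q) (hnr : ¬ Z 0 ≤ NN Z (Z 0)) (hT : SylU0 Z U)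
    (hmv : ¬ D.KC ≤ centralizer (NN Z (Z 0) : Set G)) : D.KC ≤ centralizer (U 0 : Set G) := by
  obtain ⟨T, hTs, hTU⟩ := hT
  set K := D.KC with hK
  set N := NN Z (Z 0) with hN
  have hKH : K ≤ HH (Z 0) := D.KC_le.trans (centralizer_le_normalizer _)
  have hKn : HH (Z 0) ≤ normalizer (K : Set G) := D.HH_norm_KC
  have hXX := (eab_iff.1 (D.XW_eab 0)).1
  have hUX : U 0 ≤ XW Z U (Z 0) := ln_le_XW (D.ln 0)
  have hNX : N ≤ XW Z U (Z 0) := le_sup_left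
  -- `C_N(K) = 1`
  have hCK : ∀ y ∈ N, y ∈ centralizer (K : Set G) → y = 1 := by
    intro y hy hyK
    have h1 : HH (Z 0) ≤ normalizer ((N ⊓ centralizer (K : Set G) : Subgroup G) : Set G) :=
      NO3L.LemP.le_normalizer_inf (D.HH_norm_N 0) (hKn.trans (NO3L.LemP.normalizer_le_normalizer_cent K))
    rcases D.irr_nr hnr inf_le_left h1 with h2 | h2
    · have h3 : y ∈ N ⊓ centralizer (K : Set G) := ⟨hy, hyK⟩
      rwa [h2, mem_bot] at h3
    · exact absurd (comm_symm (h2.trans inf_le_right)) hmv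
  -- the relation `R u y`
  have hR1 : ∀ u ∈ U 0, ∃ y ∈ N, u * y ∈ centralizer (K : Set G) := by
    intro u hu
    have hodd : Odd ((T ⊓ K).relIndex K) := by
      rw [← Nat.not_even_iff_odd, even_iff_two_dvd]
      exact syl_not_dvd (syl_inf_of_norm hTs hKH hKn)
    have hcX : ∀ x ∈ K, u⁻¹ * x * u * x⁻¹ ∈ N := by
      intro x hx
      have h1 := hx.2 u⁻¹ (inv_mem (hUX hu))
      rwa [inv_inv] at h1
    obtain ⟨y, hy, h⟩ := BTwo.Avg.avg (X := K) (P := T ⊓ K) (Y := N) (D := ⊥) inf_le_right hodd bot_le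
      (fun x hx y hy => (mem_normalizer_iff.1 (D.HH_norm_N 0 (hKH hx)) y).1 hy)
      (fun x _ y hy => by rw [mem_bot] at hy ⊢; rw [hy]; group)
      (fun x _ y hy => by rw [mem_bot] at hy ⊢; rw [hy]; group)
      (fun y hy => by rw [mem_bot, ← pow_two]; exact (eab_iff.1 (D.N_eab 0)).2 y hy) (c := u) hcX
      (fun x hx => by
        rw [mem_bot]
        refine D.U_inf_N_nr hnr ?_ (hcX x hx.2)
        have e : u⁻¹ * x * u * x⁻¹ = u⁻¹ * (x * u * x⁻¹) := by group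
        rw [e]
        exact mul_mem (inv_mem hu) ((mem_normalizer_iff.1 (hTU hx.1) u).1 hu))
    refine ⟨y, hy, mem_centralizer_iff.2 fun x hx => ?_⟩
    have h1 := h x hx
    rw [mem_bot] at h1
    calc x * (u * y) = (u * y) * ((u * y)⁻¹ * x * (u * y) * x⁻¹) * x := by group
      _ = u * y * x := by rw [h1, mul_one]
  have huniq : ∀ u y y' : G, y ∈ N → y' ∈ N → u * y ∈ centralizer (K : Set G) → u * y' ∈ centralizer (K : Set G) →
      y = y' := by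
    intro u y y' hy hy' h1 h2
    have h3 : y⁻¹ * y' ∈ centralizer (K : Set G) := by
      have := mul_mem (inv_mem h1) h2
      have e : (u * y)⁻¹ * (u * y') = y⁻¹ * y' := by group
      rwa [e] at this
    exact inv_mul_eq_one.1 (hCK _ (mul_mem (inv_mem hy) hy') h3)
  -- `y(u) ∈ Z 1`
  have hZ1 : ∀ u ∈ U 0, ∀ y ∈ N, u * y ∈ centralizer (K : Set G) → y ∈ Z 1 := by
    intro u hu y hy h
    refine D.fix_nr hnr hy fun b hb => ?_
    have hbH := D.B_le_HH 0 hb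
    have h1 : b * (u * y) * b⁻¹ ∈ centralizer (K : Set G) :=
      (mem_normalizer_iff.1 (NO3L.LemP.normalizer_le_normalizer_cent K (hKn hbH)) _).1 h
    have hz : b * u * b⁻¹ * u⁻¹ ∈ Z 0 := D.com 0 b hb u hu
    have hzK : b * u * b⁻¹ * u⁻¹ ∈ centralizer (K : Set G) := (comm_symm D.KC_le) hz
    have h2 : (b * u * b⁻¹ * u⁻¹)⁻¹ * (b * (u * y) * b⁻¹) ∈ centralizer (K : Set G) := mul_mem (inv_mem hzK) h1
    have e : (b * u * b⁻¹ * u⁻¹)⁻¹ * (b * (u * y) * b⁻¹) = u * (b * y * b⁻¹) := by group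
    rw [e] at h2
    have h3 := huniq u y _ hy (D.B_norm_N 0 hb hy) h h2
    calc b * y = b * y * b⁻¹ * b := by group
      _ = y * b := by rw [← h3]
  -- multiplicative
  have hmul : ∀ u ∈ U 0, ∀ u' ∈ U 0, ∀ y ∈ N, ∀ y' ∈ N, u * y ∈ centralizer (K : Set G) →
      u' * y' ∈ centralizer (K : Set G) → (u * u') * (y * y') ∈ centralizer (K : Set G) := by
    intro u hu u' hu' y hy y' hy' h h'
    have e1 : y * u' = u' * y := (mem_centralizer_iff.1 (hXX (hUX hu')) y (hNX hy))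
    have e : (u * u') * (y * y') = (u * y) * (u' * y') := by
      calc (u * u') * (y * y') = u * (u' * y) * y' := by group
        _ = u * (y * u') * y' := by rw [e1]
        _ = _ := by group
    rw [e]
    exact mul_mem h h'
  -- constant on `U 0 - Z 0`
  have hconst : ∀ u ∈ U 0, u ∉ Z 0 → ∀ u' ∈ U 0, u' ∉ Z 0 → ∀ y ∈ N, u * y ∈ centralizer (K : Set G) →
      u' * y ∈ centralizer (K : Set G) := by
    intro u hu huZ u' hu' huZ' y hy h
    obtain ⟨g, hgc, hgZ, -, rfl⟩ := D.exists_mv_to' (i := 0) (j := 1) (by decide) hu huZ hu' huZ'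
    have hgH : g ∈ HH (Z 0) := ChoiceBase.mem_normalizer_iff_cj.2 hgZ
    have h1 : g * (u * y) * g⁻¹ ∈ centralizer (K : Set G) :=
      (mem_normalizer_iff.1 (NO3L.LemP.normalizer_le_normalizer_cent K (hKn hgH)) _).1 h
    have h2 : y * g = g * y := mem_centralizer_iff.1 hgc y (D.ZU' 1 (hZ1 u hu y hy h))
    have e : g * (u * y) * g⁻¹ = g * u * g⁻¹ * y := by
      calc g * (u * y) * g⁻¹ = g * u * g⁻¹ * (g * y) * g⁻¹ := by group
        _ = g * u * g⁻¹ * (y * g) * g⁻¹ := by rw [h2]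
        _ = _ := by group
    rwa [e] at h1
  -- `y(u) = 1`
  have hone : ∀ u ∈ U 0, u ∉ Z 0 → u ∈ centralizer (K : Set G) := by
    intro u hu huZ
    obtain ⟨y, hy, h⟩ := hR1 u hu
    obtain ⟨u', hu', huZ', huu⟩ : ∃ u' ∈ U 0, u' ∉ Z 0 ∧ u * u' ∉ Z 0 := by
      by_contra hcon
      push Not at hcon
      classical
      let f : U 0 → Z 0 × Bool := fun x => if hx : (x : G) ∈ Z 0 then (⟨x, hx⟩, true) else
        (⟨u * x, hcon x x.2 hx⟩, false)
      have hf : Function.Injective f := by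
        intro x x' e
        by_cases hx : (x : G) ∈ Z 0 <;> by_cases hx' : (x' : G) ∈ Z 0
        · simp only [f, hx, hx', dif_pos, Prod.mk.injEq, Subtype.mk.injEq, and_true] at e
          exact Subtype.ext e
        · simp [f, hx, hx'] at e
        · simp [f, hx, hx'] at e
        · simp only [f, hx, hx', dif_neg, not_false_eq_true, Prod.mk.injEq, Subtype.mk.injEq, and_true] at e
          exact Subtype.ext (mul_left_cancel e)
      have h1 := Nat.card_le_card_of_injective f hf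
      rw [Nat.card_prod, D.cardU, D.cardZ, Nat.card_eq_fintype_card (α := Bool), Fintype.card_bool] at h1
      nlinarith
    have h1 := hconst u hu huZ u' hu' huZ' y hy h
    have h2 := hmul u hu u' hu' y hy y hy h h1
    have h3 : y * y = 1 := by rw [← pow_two]; exact (eab_iff.1 (D.N_eab 0)).2 y hy
    rw [h3] at h2
    have h4 := hconst u hu huZ (u * u') (mul_mem hu hu') huu y hy h
    have h5 : y = 1 := huniq (u * u') y 1 hy (one_mem _) h4 h2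
    rwa [h5, mul_one] at h
  -- so `K` centralises `U 0`
  refine comm_symm fun u hu => ?_
  by_cases huZ : u ∈ Z 0
  · exact (comm_symm D.KC_le) huZ
  · exact hone u hu huZ

/-- **THEOREM C without radical.** -/
theorem thmC2_nr (hq : 2 < q) (hnr : ¬ Z 0 ≤ NN Z (Z 0)) (hT : SylU0 Z U) (hdone : DoneQ Z U) :
    ThmC2 Z (XW Z U) := by
  have key : ∀ A : Subgroup G, IsPGroup 2 A → A ≤ centralizer (Z 0 : Set G) →
      (∀ x ∈ XW Z U (Z 0), ∀ g ∈ A, x * g * x⁻¹ * g⁻¹ ∈ NN Z (Z 0)) → A ≤ centralizer (NN Z (Z 0) : Set G) := by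
    intro A hA hAc hAx
    by_contra hmv
    obtain ⟨g, hg, hgN⟩ := SetLike.not_le_iff_exists.1 hmv
    have hgK : g ∈ D.KC := ⟨hAc hg, fun x hx => hAx x hx g hg⟩
    have hg2 : IsPGroup 2 (zpowers g) := hA.to_le ((zpowers_le).2 hg)
    refine hdone D.KC D.KC_le D.HH_norm_KC ⟨g, hgK, hg2, hgN⟩ ?_
    exact (D.KC_cent hq hnr hT fun h => hgN (h hgK)).trans (centralizer_le_normalizer _)
  rintro _ ⟨k, rfl⟩ A hA hAc hAx
  have h1 : MulAut.conj k⁻¹ • A ≤ centralizer (NN Z (Z 0) : Set G) := by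
    refine key _ (hA.map _) ?_ ?_
    · have h2 := conj_le_centralizer (g := k⁻¹) hAc
      rwa [inv_conj_conj] at h2
    · rintro x hx _ ⟨g, hg, rfl⟩
      have hx' : k * x * k⁻¹ ∈ XW Z U (MulAut.conj k • Z 0) := by
        rw [XW_conj]
        exact ⟨x, hx, rfl⟩
      have h3 := hAx _ hx' g hg
      rw [NN_conj, mem_conj] at h3
      change x * (k⁻¹ * g * k⁻¹⁻¹) * x⁻¹ * (k⁻¹ * g * k⁻¹⁻¹)⁻¹ ∈ NN Z (Z 0)
      have e : x * (k⁻¹ * g * k⁻¹⁻¹) * x⁻¹ * (k⁻¹ * g * k⁻¹⁻¹)⁻¹ =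
          k⁻¹ * (k * x * k⁻¹ * g * (k * x * k⁻¹)⁻¹ * g⁻¹) * k := by group
      rw [e]
      exact h3
  rw [NN_conj]
  have h2 := conj_le_centralizer (g := k) h1
  rwa [conj_inv_conj] at h2

/-- `OneB` from THEOREM C -/
theorem oneB_of_thmC2 (hNO : NoDQ Z) (hG : ThmC2 Z (XW Z U)) : OneB Z U := by
  intro i A hA hc
  obtain ⟨hex, -, -⟩ := D.exact_AA hNO i hA
  have hAO := hA.2.1
  have hXX := (eab_iff.1 (D.XW_eab i)).1
  have hNX : NN Z (Z i) ≤ XW Z U (Z i) := le_sup_left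
  have h1 := relIndex_le_of_AA (D.XW_eab i) ((D.XW_le_Q i).trans (D.Q_le_O i)) hA
  have h2 : (centralizer (XW Z U (Z i) : Set G)).relIndex A ≤ (centralizer (NN Z (Z i) : Set G)).relIndex A := by
    rw [← Subgroup.inf_relIndex_left, ← Subgroup.inf_relIndex_left (H := A) (K := centralizer (NN Z (Z i) : Set G))]
    exact Subgroup.relIndex_le_of_le_left (le_inf inf_le_left hc) Subgroup.index_ne_zero_of_finite
  have h3 := TCQ.R.OneA.sup_of_relIndex hNX ((h1.trans h2).trans hex.le)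
  refine hG (Z i) (D.pt i) A (D.B2.to_le (hAO.trans D.O_le_B)) (hAO.trans (D.O_le_B.trans (D.B_le.trans (D.D_le_cent i))))
    fun x hx g hg => ?_
  obtain ⟨n, hn, c, hc', rfl⟩ := OM.PG.Peel.exists_mul_of_comm (V := NN Z (Z i)) (D := XW Z U (Z i) ⊓ centralizer (A : Set G))
    (hNX.trans (hXX.trans (centralizer_le inf_le_left))) (h3 hx)
  have e1 : c * g = g * c := (mem_centralizer_iff.1 hc'.2 g hg).symm
  have e2 : n * c * g * (n * c)⁻¹ * g⁻¹ = n * (g * n⁻¹ * g⁻¹) := by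
    calc n * c * g * (n * c)⁻¹ * g⁻¹ = n * (c * g) * c⁻¹ * n⁻¹ * g⁻¹ := by group
      _ = n * (g * c) * c⁻¹ * n⁻¹ * g⁻¹ := by rw [e1]
      _ = _ := by group
  rw [e2]
  exact mul_mem hn (D.B_norm_N i (D.O_le_B (hAO hg)) (inv_mem hn))

/-- `TA'` from THEOREM C -/
theorem ta'_of_thmC2 (hNO : NoP Z) (hG : ThmC2 Z (XW Z U)) : TwoI.TA' Z (XW Z U) := fun d a b h _ =>
  ExactQ.ta_of D.toPP D.xf D.nobX D.tip hNO hG d a b h

end FQ

end Cfsg.Agent.Omega.NO3S.EThree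

end

section


/-!
# The point geometry of `N_a` without radical, in group form (helper997 #19952 (1), (3); helper925 PtGeo, TBig)

`ND N Pt X q` : `GD` (points of order `q ≥ 3` in the elementary abelian group `N`, groups `X p` of transvections with
centre `p`), no vector `≠ 1` of `N` is centralised by all `X p`, every point lies on a line (a subgroup of order `q²`
which is a union of pairwise perpendicular points), and the graph 'some element of `X p` moves `x`' is connected.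

* `ND.one`, `ND.sym`, `ND.ix`, `ND.hyp`, `ND.vect`, `ND.sep`, `ND.two` : group forms of the statements of `PtGeo`;
  every element `≠ 1` of `N` lies in a point, perpendicularity is symmetric, `N = r C_N(X p)` if `r` is not perpendicular
  to `p`, different points have different perps.
-/

set_option autoImplicit false
set_option linter.unusedSectionVars false

namespace Cfsg.Agent.Omega.NO3S.EThree.NrGeo

open Subgroup
open Cfsg.Agent.Omega.OmThm.Grp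
open Cfsg.Agent.Omega.NO3S.EThree.PtGeo (pr mp mem_mp Geo GeoL GeoO Cn Col)
open scoped Pointwise IsMulCommutative

universe u

variable {G : Type u} [Group G]

/-- The data, with lines. -/
structure ND (N : Subgroup G) (Pt : Set (Subgroup G)) (X : Subgroup G → Subgroup G) (q : ℕ) : Prop
    extends GD N Pt X q where
  nk : ∀ v ∈ N, (∀ p ∈ Pt, ∀ g ∈ X p, g * v = v * g) → v = 1
  line : ∀ p ∈ Pt, ∃ V : Subgroup G, p ≤ V ∧ V ≤ N ∧ Nat.card V ≤ q * q ∧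
    (∀ v ∈ V, v ≠ 1 → ∃ s ∈ Pt, s ≤ V ∧ v ∈ s) ∧ (∀ s ∈ Pt, s ≤ V → X s ≤ centralizer (V : Set G)) ∧
    ∃ r ∈ Pt, r ≤ V ∧ r ≠ p
  ex : Pt.Nonempty
  conn : ∀ p ∈ Pt, ∀ x ∈ Pt, Relation.ReflTransGen (fun a b => a ∈ Pt ∧ b ∈ Pt ∧ (Mv X a b ∨ Mv X b a)) p x

/-- the product of two commuting subgroups -/
theorem mem_sup_comm {A B : Subgroup G} (h : B ≤ centralizer (A : Set G)) {g : G} (hg : g ∈ A ⊔ B) :
    ∃ a ∈ A, ∃ b ∈ B, a * b = g := by
  let K : Subgroup G :=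
    { carrier := {g | ∃ a ∈ A, ∃ b ∈ B, a * b = g}
      one_mem' := ⟨1, one_mem _, 1, one_mem _, one_mul _⟩
      mul_mem' := by
        rintro _ _ ⟨a, ha, b, hb, rfl⟩ ⟨a', ha', b', hb', rfl⟩
        refine ⟨a * a', mul_mem ha ha', b * b', mul_mem hb hb', ?_⟩
        have e : a' * b = b * a' := mem_centralizer_iff.1 (h hb) a' ha'
        calc a * a' * (b * b') = a * (a' * b) * b' := by group
          _ = a * b * (a' * b') := by rw [e]; group
      inv_mem' := by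
        rintro _ ⟨a, ha, b, hb, rfl⟩
        refine ⟨a⁻¹, inv_mem ha, b⁻¹, inv_mem hb, ?_⟩
        have e : a * b = b * a := mem_centralizer_iff.1 (h hb) a ha
        rw [e, mul_inv_rev] }
  have h1 : A ⊔ B ≤ K := sup_le (fun a ha => ⟨a, ha, 1, one_mem _, mul_one _⟩)
    fun b hb => ⟨1, one_mem _, b, hb, one_mul _⟩
  exact h1 hg

/-- the automorphisms -/
def Tt (N : Subgroup G) [IsMulCommutative N] (Pt : Set (Subgroup G)) (X : Subgroup G → Subgroup G)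
    (A : AddSubgroup (Additive N)) : Set (Additive N ≃+ Additive N) :=
  {t | ∃ p ∈ Pt, A = pt N p ∧ ∃ w ∈ X p, ∀ v, (((t v).toMul : N) : G) = w * ((v.toMul : N) : G) * w⁻¹}

namespace ND

variable {N : Subgroup G} {Pt : Set (Subgroup G)} {X : Subgroup G → Subgroup G} {q : ℕ}

section comm

variable [IsMulCommutative N] (D : ND N Pt X q)
include D

theorem exists_ne {p : Subgroup G} (hp : p ∈ Pt) : ∃ v ∈ p, v ≠ 1 := by
  by_contra hcon
  push Not at hcon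
  have h1 : p = ⊥ := (eq_bot_iff_forall _).2 hcon
  have h2 := D.card p hp
  rw [h1, Subgroup.card_bot] at h2
  have := D.hq
  omega

omit D in
/-- conjugation by `w` as an automorphism of `N` -/
theorem exists_t {w : G} (hw : ∀ v ∈ N, w * v * w⁻¹ ∈ N) (hw' : ∀ v ∈ N, w⁻¹ * v * w ∈ N) :
    ∃ t : Additive N ≃+ Additive N, ∀ v, (((t v).toMul : N) : G) = w * ((v.toMul : N) : G) * w⁻¹ := by
  refine ⟨MulEquiv.toAdditive
    { toFun := fun v => ⟨w * v * w⁻¹, hw v v.2⟩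
      invFun := fun v => ⟨w⁻¹ * v * w, hw' v v.2⟩
      left_inv := fun v => Subtype.ext (by simp [mul_assoc])
      right_inv := fun v => Subtype.ext (by simp [mul_assoc])
      map_mul' := fun a b => Subtype.ext (by simp [mul_assoc]) }, fun v => rfl⟩

theorem conj_N {p : Subgroup G} (hp : p ∈ Pt) {w v : G} (hw : w ∈ X p) (hv : v ∈ N) : w * v * w⁻¹ ∈ N := by
  have h1 := D.le p hp (D.XN p hp w hw v hv)
  have e : w * v * w⁻¹ = w * v * w⁻¹ * v⁻¹ * v := by group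
  rw [e]
  exact mul_mem h1 hv

theorem conj_N' {p : Subgroup G} (hp : p ∈ Pt) {w v : G} (hw : w ∈ X p) (hv : v ∈ N) : w⁻¹ * v * w ∈ N := by
  have := D.conj_N hp (inv_mem hw) hv
  rwa [inv_inv] at this

theorem exists_Tt {p : Subgroup G} (hp : p ∈ Pt) {w : G} (hw : w ∈ X p) :
    ∃ t ∈ Tt N Pt X (pt N p), ∀ v, (((t v).toMul : N) : G) = w * ((v.toMul : N) : G) * w⁻¹ := by
  obtain ⟨t, ht⟩ := exists_t (w := w) (fun v hv => D.conj_N hp hw hv) (fun v hv => D.conj_N' hp hw hv)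
  exact ⟨t, ⟨p, hp, rfl, w, hw, ht⟩, ht⟩

theorem mem_Tt {p : Subgroup G} (hp : p ∈ Pt) {t : Additive N ≃+ Additive N} (ht : t ∈ Tt N Pt X (pt N p)) :
    ∃ w ∈ X p, ∀ v, (((t v).toMul : N) : G) = w * ((v.toMul : N) : G) * w⁻¹ := by
  obtain ⟨p', hp', he, w, hw, h⟩ := ht
  have := pt_inj (D.le p hp) (D.le p' hp') he
  subst this
  exact ⟨w, hw, h⟩

theorem mem_pr {p : Subgroup G} (hp : p ∈ Pt) {m : Additive N} :
    m ∈ pr (Tt N Pt X) (pt N p) ↔ ∀ w ∈ X p, w * ((m.toMul : N) : G) = ((m.toMul : N) : G) * w := by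
  constructor
  · intro h w hw
    obtain ⟨t, ht, e⟩ := D.exists_Tt hp hw
    have h1 := congrArg (fun t : Additive N => ((t.toMul : N) : G)) (h t ht)
    change (((t m).toMul : N) : G) = ((m.toMul : N) : G) at h1
    rw [e, mul_inv_eq_iff_eq_mul] at h1
    exact h1
  · intro h t ht
    obtain ⟨w, hw, e⟩ := D.mem_Tt hp ht
    refine Subtype.ext ?_
    change (((t m).toMul : N) : G) = ((m.toMul : N) : G)
    rw [e, mul_inv_eq_iff_eq_mul]
    exact h w hw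

theorem le_pr {p x : Subgroup G} (hp : p ∈ Pt) (hx : x ∈ Pt) :
    pt N x ≤ pr (Tt N Pt X) (pt N p) ↔ X p ≤ centralizer (x : Set G) := by
  constructor
  · intro h w hw
    refine mem_centralizer_iff.2 fun v hv => ?_
    exact (((D.mem_pr hp).1 (h (x := Additive.ofMul (⟨v, D.le x hx hv⟩ : N)) hv)) w hw).symm
  · intro h m hm
    exact (D.mem_pr hp).2 fun w hw => (mem_centralizer_iff.1 (h hw) _ hm).symm

theorem mp_pt {x : Subgroup G} (hx : x ∈ Pt) {w : G} {t : Additive N ≃+ Additive N}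
    (e : ∀ v, (((t v).toMul : N) : G) = w * ((v.toMul : N) : G) * w⁻¹) :
    mp t (pt N x) = pt N (MulAut.conj w • x) := by
  ext m
  rw [mem_mp, mem_pt]
  constructor
  · rintro ⟨y, hy, rfl⟩
    rw [e]
    exact ⟨_, hy, rfl⟩
  · rintro ⟨y, hy, e1⟩
    replace e1 : w * y * w⁻¹ = ((m.toMul : N) : G) := e1
    refine ⟨Additive.ofMul (⟨y, D.le x hx hy⟩ : N), hy, ?_⟩
    refine Subtype.ext ?_
    change (((t _).toMul : N) : G) = ((m.toMul : N) : G)
    rw [e, ← e1]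
    rfl

/-- `η` fixes a vector of a point: it fixes the point vectorwise -/
theorem eta_one {p x : Subgroup G} (hp : p ∈ Pt) (hx : x ∈ Pt) {η : Additive N →+ Additive N}
    (hη : η ∈ TT Pt X (pt N p)) {b : Additive N} (hb : b ∈ pt N x) (hb0 : b ≠ 0) (h : η b = 0) :
    ∀ v ∈ pt N x, η v = 0 := by
  obtain ⟨y, hy, h1, -, -, -⟩ := D.toGD.move hp hη hx
  have h2 : b ∈ pt N y := by
    have := h1 b hb
    rwa [h, add_zero] at this
  have h3 : pt N x = pt N y := D.toGD.ti' hx hy hb h2 hb0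
  intro v hv
  by_contra hne
  have h4 : v + η v ∈ pt N x := h3 ▸ h1 v hv
  have h5 : η v ∈ pt N x := by
    have := sub_mem h4 hv
    rwa [add_sub_cancel_left] at this
  have h6 : pt N p = pt N x := D.toGD.ti' hp hx (D.toGD.im hp hη v) h5 hne
  exact hne (D.toGD.ker hp hη (h6 ▸ hv))

theorem moves_all {p₀ p : Subgroup G} (hp₀ : p₀ ∈ Pt) (hp : p ∈ Pt) (h : ¬ X p₀ ≤ centralizer (N : Set G)) :
    ¬ X p ≤ centralizer (N : Set G) := by
  intro h1
  apply h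
  have h2 := D.cardT p hp p₀ hp₀
  rw [relIndex_eq_one.2 h1] at h2
  exact relIndex_eq_one.1 h2.symm

theorem exists_moved {p : Subgroup G} (h : ¬ X p ≤ centralizer (N : Set G)) :
    ∃ x ∈ Pt, ¬ X p ≤ centralizer (x : Set G) := by
  by_contra hcon
  push Not at hcon
  apply h
  have h1 : N ≤ centralizer (X p : Set G) := D.span.trans (sSup_le fun x hx => by
    have := hcon x hx
    rwa [le_centralizer_iff] at this)
  rwa [le_centralizer_iff] at h1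

theorem exists_mv : ∃ p ∈ Pt, ¬ X p ≤ centralizer (N : Set G) := by
  by_contra hcon
  push Not at hcon
  obtain ⟨p, hp⟩ := D.ex
  obtain ⟨v, hv, hv1⟩ := D.exists_ne hp
  refine hv1 (D.nk v (D.le p hp hv) fun x hx g hg => ?_)
  exact (mem_centralizer_iff.1 (hcon x hx hg) v (D.le p hp hv)).symm

theorem mv_all {p : Subgroup G} (hp : p ∈ Pt) : ¬ X p ≤ centralizer (N : Set G) := by
  obtain ⟨p₀, hp₀, h⟩ := D.exists_mv
  exact D.moves_all hp₀ hp h

theorem adj_iff {p x : Subgroup G} (hp : p ∈ Pt) (hx : x ∈ Pt) :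
    Big.Adj (TT Pt X) (pt N p) (pt N x) ↔ ¬ X p ≤ centralizer (x : Set G) := by
  constructor
  · rintro ⟨η, hη, v, hv, hne⟩ h
    obtain ⟨w, hw, e⟩ := (D.toGD.mem_TT hp).1 hη
    exact hne ((isC_zero e).2 (mem_centralizer_iff.1 (h hw) _ hv).symm)
  · exact fun h => D.toGD.adj_of hp hx h

theorem bd : Big.Bd (pt N '' Pt) (TT Pt X) where
  ne := by
    rintro _ ⟨p, hp, rfl⟩
    obtain ⟨v, hv, hv1⟩ := D.exists_ne hp
    exact ⟨Additive.ofMul (⟨v, D.le p hp hv⟩ : N), hv, fun e =>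
      hv1 (congrArg (fun t : Additive N => ((t.toMul : N) : G)) e)⟩
  ti := by rintro _ ⟨p, hp, rfl⟩ _ ⟨x, hx, rfl⟩ v h1 h2 h0; exact D.toGD.ti' hp hx h1 h2 h0
  im := by rintro _ ⟨p, hp, rfl⟩ η hη v; exact D.toGD.im hp hη v
  ker := by rintro _ ⟨p, hp, rfl⟩ η hη v hv; exact D.toGD.ker hp hη hv
  one := by rintro _ ⟨p, hp, rfl⟩ _ ⟨x, hx, rfl⟩ η hη b hb hb0 h; exact D.eta_one hp hx hη hb hb0 h
  cl := by rintro _ ⟨p, hp, rfl⟩ _ ⟨x, hx, rfl⟩ φ hφ ψ hψ h0; exact D.toGD.cl hp hx hφ hψ h0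
  sur := by
    rintro _ ⟨p, hp, rfl⟩ _ ⟨x, hx, rfl⟩ ⟨η, hη, v, hv, hne⟩ b hb hb0 a ha
    have h1 : η b ≠ 0 := fun h => hne (D.eta_one hp hx hη hb hb0 h v hv)
    obtain ⟨η', h2, h3, -⟩ := D.toGD.reg' hp hη h1 ha
    exact ⟨η', h2, h3⟩
  cardP := by rintro _ ⟨p, hp, rfl⟩ _ ⟨x, hx, rfl⟩; rw [D.toGD.card' hp, D.toGD.card' hx]
  cardT := by
    rintro _ ⟨p, hp, rfl⟩ _ ⟨x, hx, rfl⟩
    rw [D.toGD.card_TT hp, D.toGD.card_TT hx]
    exact D.cardT p hp x hx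
  span := by
    intro η h
    have h1 : (⊤ : AddSubgroup (Additive N)) ≤ η.ker := by
      rw [← D.toGD.span']
      exact iSup₂_le fun p hp v hv => h p hp v hv
    exact DFunLike.ext _ _ fun v => h1 (AddSubgroup.mem_top v)
  nbr := by
    rintro _ ⟨p, hp, rfl⟩
    obtain ⟨x, hx, h⟩ := D.exists_moved (D.mv_all hp)
    exact ⟨_, ⟨x, hx, rfl⟩, (D.adj_iff hp hx).2 h⟩

theorem pt_le {x V : Subgroup G} (hx : x ≤ N) : pt N x ≤ pt N V ↔ x ≤ V := by
  constructor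
  · intro h v hv
    exact h (x := Additive.ofMul (⟨v, hx hv⟩ : N)) hv
  · exact fun h v hv => h hv

theorem card_line {p r V : Subgroup G} [Finite G] (hp : p ∈ Pt) (hr : r ∈ Pt) (hpV : p ≤ V) (hrV : r ≤ V)
    (hpr : p ≠ r) (hV : Nat.card V ≤ q * q) : V = p ⊔ r := by
  have hle : p ⊔ r ≤ V := sup_le hpV hrV
  have hcc : r ≤ centralizer (p : Set G) := fun y hy =>
    mem_centralizer_iff.2 fun x hx => D.comm x (D.le p hp hx) y (D.le r hr hy)
  refine (Subgroup.eq_of_le_of_card_ge hle (hV.trans ?_)).symm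
  let f : p × r → (p ⊔ r : Subgroup G) := fun z => ⟨(z.1 : G) * (z.2 : G),
    mul_mem (mem_sup_left z.1.2) (mem_sup_right z.2.2)⟩
  have hinj : Function.Injective f := by
    rintro ⟨a, b⟩ ⟨a', b'⟩ h
    have h1 : (a : G) * (b : G) = (a' : G) * (b' : G) := congrArg Subtype.val h
    have h2 : (a' : G)⁻¹ * (a : G) = (b' : G) * (b : G)⁻¹ := by
      calc (a' : G)⁻¹ * (a : G) = (a' : G)⁻¹ * ((a : G) * (b : G)) * (b : G)⁻¹ := by group
        _ = (b' : G) * (b : G)⁻¹ := by rw [h1]; group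
    have h3 : (a' : G)⁻¹ * (a : G) = 1 := by
      by_contra hne
      refine hpr (D.ti p hp r hr _ (mul_mem (inv_mem a'.2) a.2) ?_ hne)
      rw [h2]
      exact mul_mem b'.2 (inv_mem b.2)
    have h4 : (a : G) = (a' : G) := (inv_mul_eq_one.1 h3).symm
    have h5 : (b : G) = (b' : G) := by
      rw [h4] at h1
      exact mul_left_cancel h1
    exact Prod.ext (Subtype.ext h4) (Subtype.ext h5)
  have h1 := Nat.card_le_card_of_injective f hinj
  rwa [Nat.card_prod, D.card p hp, D.card r hr] at h1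

variable [Finite G]

theorem q_le {p : Subgroup G} (hp : p ∈ Pt) : Nat.card (TT Pt X (pt N p)) ≤ q := by
  by_contra hlt
  push Not at hlt
  have hfin0 : Finite (Additive N) := inferInstanceAs (Finite N)
  obtain ⟨V, hpV, hVN, hVc, hcov, hperp, r, hr, hrV, hrp⟩ := D.line p hp
  refine D.bd.false_of_line (V := pt N V) ?_
    { cov := ?_, perp := ?_, gen := ?_, two := ?_, ex := ⟨_, ⟨p, hp, rfl⟩, (D.pt_le (D.le p hp)).2 hpV⟩ }
  · rintro _ ⟨x, hx, rfl⟩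
    rw [D.toGD.card' hx, D.toGD.card_TT hx, D.cardT x hx p hp, ← D.toGD.card_TT hp]
    exact hlt
  · intro v hv hv0
    obtain ⟨s, hs, hsV, hvs⟩ := hcov _ hv fun e => hv0 (Subtype.ext e)
    exact ⟨_, ⟨s, hs, rfl⟩, (D.pt_le (D.le s hs)).2 hsV, hvs⟩
  · rintro _ ⟨s, hs, rfl⟩ hsV _ ⟨x, hx, rfl⟩ hxV
    rw [D.adj_iff hs hx, not_not]
    exact (hperp s hs ((D.pt_le (D.le s hs)).1 hsV)).trans (centralizer_le ((D.pt_le (D.le x hx)).1 hxV))
  · rintro _ ⟨s, hs, rfl⟩ hsV _ ⟨x, hx, rfl⟩ hxV hne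
    have h1 := D.card_line hs hx ((D.pt_le (D.le s hs)).1 hsV) ((D.pt_le (D.le x hx)).1 hxV)
      (fun e => hne (by rw [e])) hVc
    intro v hv
    have h2 : ((v.toMul : N) : G) ∈ s ⊔ x := h1 ▸ hv
    have hcc : x ≤ centralizer (s : Set G) := fun y hy =>
      mem_centralizer_iff.2 fun z hz => D.comm z (D.le s hs hz) y (D.le x hx hy)
    obtain ⟨a, ha, b, hb, e⟩ := mem_sup_comm hcc h2
    rw [AddSubgroup.mem_sup]
    exact ⟨Additive.ofMul (⟨a, D.le s hs ha⟩ : N), ha, Additive.ofMul (⟨b, D.le x hx hb⟩ : N), hb, Subtype.ext e⟩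
  · rintro _ ⟨s, hs, rfl⟩ hsV
    by_cases h : s = p
    · subst h
      exact ⟨_, ⟨r, hr, rfl⟩, (D.pt_le (D.le r hr)).2 hrV, fun e => hrp (pt_inj (D.le r hr) (D.le s hs) e)⟩
    · exact ⟨_, ⟨p, hp, rfl⟩, (D.pt_le (D.le p hp)).2 hpV, fun e => h (pt_inj (D.le p hp) (D.le s hs) e).symm⟩

/-- the evaluation at a moved vector is injective -/
theorem eta_inj {p : Subgroup G} (hp : p ∈ Pt) {η η' : Additive N →+ Additive N} (hη : η ∈ TT Pt X (pt N p))
    (hη' : η' ∈ TT Pt X (pt N p)) {b : Additive N} (hb : η b ≠ 0) (h : η' b = 0) : η' = 0 := by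
  have hfin0 : Finite (Additive N) := inferInstanceAs (Finite N)
  have hfin : Finite (Additive N →+ Additive N) := Big.Bd.finite_hom
  let f : TT Pt X (pt N p) → pt N p := fun τ => ⟨τ.1 b, D.toGD.im hp τ.2 b⟩
  have hs : Function.Surjective f := by
    intro a
    obtain ⟨ψ, hψ, h2, -⟩ := D.toGD.reg' hp hη hb a.2
    exact ⟨⟨ψ, hψ⟩, Subtype.ext h2⟩
  have hbij : Function.Bijective f := hs.bijective_of_nat_card_le (by rw [D.toGD.card' hp]; exact D.q_le hp)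
  have h1 : f ⟨η', hη'⟩ = f 0 := Subtype.ext h
  exact congrArg Subtype.val (hbij.1 h1)

theorem ix_add {p r : Subgroup G} (hp : p ∈ Pt) (hr : r ∈ Pt) (h : ¬ X p ≤ centralizer (r : Set G)) (m : Additive N) :
    ∃ x ∈ pt N r, ∀ η ∈ TT Pt X (pt N p), η (m - x) = 0 := by
  obtain ⟨η₀, hη₀, b, hb, hne⟩ := (D.adj_iff hp hr).2 h
  let f : pt N r → pt N p := fun v => ⟨η₀ v, D.toGD.im hp hη₀ v⟩
  have hf : Function.Injective f := by
    intro v v' e
    have e' : η₀ v = η₀ v' := congrArg Subtype.val e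
    by_contra h1
    refine hne (D.eta_one hp hr hη₀ (sub_mem v.2 v'.2) (sub_ne_zero.2 fun e => h1 (Subtype.ext e)) ?_ b hb)
    rw [map_sub, e', sub_self]
  have : Finite (pt N p) := inferInstanceAs (Finite (pt N p))
  have hbij := hf.bijective_of_nat_card_le (by rw [D.toGD.card' hp, D.toGD.card' hr])
  obtain ⟨⟨x, hx⟩, e⟩ := hbij.2 ⟨η₀ m, D.toGD.im hp hη₀ m⟩
  have e' : η₀ x = η₀ m := congrArg Subtype.val e
  refine ⟨x, hx, fun η hη => ?_⟩
  by_contra h0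
  have h1 := D.eta_inj hp hη hη₀ h0 (by rw [map_sub, e', sub_self])
  exact hne (by rw [h1]; rfl)

theorem mem_pr_iff {p : Subgroup G} (hp : p ∈ Pt) {m : Additive N} :
    m ∈ pr (Tt N Pt X) (pt N p) ↔ ∀ η ∈ TT Pt X (pt N p), η m = 0 := by
  rw [D.mem_pr hp]
  constructor
  · intro h η hη
    obtain ⟨w, hw, e⟩ := (D.toGD.mem_TT hp).1 hη
    exact (isC_zero e).2 (h w hw)
  · intro h w hw
    obtain ⟨η, hη, e⟩ := D.toGD.exists_of hp hw
    exact (isC_zero e).1 (h η hη)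

theorem geo : Geo (pt N '' Pt) (Tt N Pt X) where
  ne := D.bd.ne
  ti := D.bd.ti
  mem := by
    rintro _ ⟨p, hp, rfl⟩ t ht m
    obtain ⟨w, hw, e⟩ := D.mem_Tt hp ht
    rw [sub_eq_add_neg, mem_pt]
    change (((t m).toMul : N) : G) * ((m.toMul : N) : G)⁻¹ ∈ p
    rw [e]
    exact D.XN p hp w hw _ (m.toMul : N).2
  self := by
    rintro _ ⟨p, hp, rfl⟩
    rw [D.le_pr hp hp]
    exact fun w hw => mem_centralizer_iff.2 fun v hv => (D.Xp p hp w hw v hv).symm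
  act := by
    rintro _ ⟨p, hp, rfl⟩ t ht _ ⟨x, hx, rfl⟩
    obtain ⟨w, hw, e⟩ := D.mem_Tt hp ht
    exact ⟨_, D.mv p hp w hw x hx, (D.mp_pt hx e).symm⟩
  cj := by
    rintro _ ⟨p, hp, rfl⟩ t ht _ ⟨x, hx, rfl⟩ m
    obtain ⟨w, hw, e⟩ := D.mem_Tt hp ht
    rw [D.mp_pt hx e, D.mem_pr (D.mv p hp w hw x hx), D.mem_pr hx, D.Xc p hp w hw x hx]
    constructor
    · intro h g hg
      have h1 := h (w * g * w⁻¹) ⟨g, hg, rfl⟩
      rw [e] at h1
      have h2 : w⁻¹ * (w * g * w⁻¹ * (w * ((m.toMul : N) : G) * w⁻¹)) * w =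
          w⁻¹ * (w * ((m.toMul : N) : G) * w⁻¹ * (w * g * w⁻¹)) * w := by rw [h1]
      calc g * ((m.toMul : N) : G) = w⁻¹ * (w * g * w⁻¹ * (w * ((m.toMul : N) : G) * w⁻¹)) * w := by group
        _ = w⁻¹ * (w * ((m.toMul : N) : G) * w⁻¹ * (w * g * w⁻¹)) * w := h2
        _ = _ := by group
    · rintro h _ ⟨g, hg, rfl⟩
      change (w * g * w⁻¹) * (((t m).toMul : N) : G) = (((t m).toMul : N) : G) * (w * g * w⁻¹)
      rw [e]
      calc (w * g * w⁻¹) * (w * ((m.toMul : N) : G) * w⁻¹) = w * (g * ((m.toMul : N) : G)) * w⁻¹ := by group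
        _ = w * (((m.toMul : N) : G) * g) * w⁻¹ := by rw [h g hg]
        _ = _ := by group
  sur := by
    rintro _ ⟨p, hp, rfl⟩ m hm v hv
    rw [D.mem_pr hp] at hm
    push Not at hm
    obtain ⟨w, hw, hne⟩ := hm
    obtain ⟨w', hw', e, -⟩ := D.reg p hp w hw _ (m.toMul : N).2 hne _ hv
    obtain ⟨t, ht, e'⟩ := D.exists_Tt hp hw'
    refine ⟨t, ht, ?_⟩
    rw [add_comm]
    refine Subtype.ext ?_
    change (((t m).toMul : N) : G) = ((v.toMul : N) : G) * ((m.toMul : N) : G)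
    have e2 : w' * ((m.toMul : N) : G) * w'⁻¹ * ((m.toMul : N) : G)⁻¹ = ((v.toMul : N) : G) := e
    rw [e', ← e2]
    group
  sym := by
    rintro _ ⟨p, hp, rfl⟩ _ ⟨x, hx, rfl⟩ h
    rw [D.le_pr hx hp]
    rw [D.le_pr hp hx] at h
    by_contra hcon
    have hfin0 : Finite (Additive N) := inferInstanceAs (Finite N)
    exact (D.adj_iff hp hx).1 (D.bd.symm ⟨x, hx, rfl⟩ ⟨p, hp, rfl⟩ ((D.adj_iff hx hp).2 hcon)) h
  ix := by
    rintro _ ⟨p, hp, rfl⟩ _ ⟨x, hx, rfl⟩ h m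
    rw [D.le_pr hp hx] at h
    obtain ⟨x₀, h1, h2⟩ := D.ix_add hp hx h m
    exact ⟨x₀, h1, (D.mem_pr_iff hp).2 h2⟩

theorem nk_add {m : Additive N} (h : ∀ p ∈ Pt, m ∈ pr (Tt N Pt X) (pt N p)) : m = 0 := by
  have h1 : ((m.toMul : N) : G) = 1 := D.nk _ (m.toMul : N).2 fun p hp g hg => (D.mem_pr hp).1 (h p hp) g hg
  exact Subtype.ext h1

theorem geoL : GeoL (pt N '' Pt) (Tt N Pt X) where
  toGeo := D.geo
  o2 := by
    rintro _ - _ - t - t' - h m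
    have h1 : t' (t m) - m = 0 := D.nk_add fun p hp => h m _ ⟨p, hp, rfl⟩
    exact sub_eq_zero.1 h1
  line := by
    rintro _ ⟨p, hp, rfl⟩
    obtain ⟨V, hpV, hVN, hVc, hcov, hperp, r, hr, hrV, hrp⟩ := D.line p hp
    refine ⟨_, ⟨r, hr, rfl⟩, fun e => hrp (pt_inj (D.le p hp) (D.le r hr) e).symm, ?_, ?_⟩
    · rw [D.le_pr hp hr]
      exact (hperp p hp hpV).trans (centralizer_le hrV)
    · intro v hv hv0
      have h1 : pt N p ⊔ pt N r ≤ pt N V :=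
        sup_le ((D.pt_le (D.le p hp)).2 hpV) ((D.pt_le (D.le r hr)).2 hrV)
      obtain ⟨s, hs, hsV, hvs⟩ := hcov _ (h1 hv) fun e => hv0 (Subtype.ext e)
      refine ⟨_, ⟨s, hs, rfl⟩, hvs, ?_⟩
      -- `V = p ⊔ r`
      have h2 := D.card_line hp hr hpV hrV hrp.symm hVc
      intro m hm
      have h3 : ((m.toMul : N) : G) ∈ p ⊔ r := h2 ▸ hsV hm
      obtain ⟨a, ha, b, hb, e⟩ := mem_sup_comm (fun y hy =>
        mem_centralizer_iff.2 fun z hz => D.comm z (D.le p hp hz) y (D.le r hr hy)) h3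
      rw [AddSubgroup.mem_sup]
      exact ⟨Additive.ofMul (⟨a, D.le p hp ha⟩ : N), ha, Additive.ofMul (⟨b, D.le r hr hb⟩ : N), hb, Subtype.ext e⟩
  nbr := by
    rintro _ ⟨p, hp, rfl⟩
    obtain ⟨x, hx, h⟩ := D.exists_moved (D.mv_all hp)
    exact ⟨_, ⟨x, hx, rfl⟩, fun h1 => h ((D.le_pr hp hx).1 h1)⟩
  top := by
    intro m
    have h1 : (⊤ : AddSubgroup (Additive N)) ≤ sSup (pt N '' Pt) := by
      rw [← D.toGD.span']
      exact iSup₂_le fun p hp => le_sSup hp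
    exact h1 (AddSubgroup.mem_top m)

theorem cn {p x : Subgroup G} (hp : p ∈ Pt) (hx : x ∈ Pt) : Cn (pt N '' Pt) (Tt N Pt X) (pt N p) (pt N x) := by
  have hpp : Cn (pt N '' Pt) (Tt N Pt X) (pt N p) (pt N p) := D.geoL.cn_refl ⟨p, hp, rfl⟩
  have h := D.conn p hp x hx
  clear hx
  induction h with
  | refl => exact hpp
  | tail _ h2 ih =>
    obtain ⟨hb, hc, h3⟩ := h2
    refine D.geo.cn_step ⟨p, hp, rfl⟩ ⟨_, hb, rfl⟩ ⟨_, hc, rfl⟩ ih ?_
    rcases h3 with h3 | h3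
    · exact fun h4 => h3 ((D.le_pr hb hc).1 h4)
    · exact fun h4 => h3 ((D.le_pr hc hb).1 (D.geo.sym _ ⟨_, hb, rfl⟩ _ ⟨_, hc, rfl⟩ h4))

theorem geoO : GeoO (pt N '' Pt) (Tt N Pt X) where
  toGeoL := D.geoL
  cn := by
    rintro _ ⟨p, hp, rfl⟩ _ ⟨x, hx, rfl⟩
    exact D.cn hp hx
  nonempty := D.ex.image _

end comm

/-! ### Group forms -/

variable (D : ND N Pt X q)
include D

theorem isc : IsMulCommutative N := ⟨⟨fun a b => Subtype.ext (D.comm a a.2 b b.2)⟩⟩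

/-- `X p` centralises a vector `≠ 1` of `x` : it centralises `x` -/
theorem one {p x : Subgroup G} (hp : p ∈ Pt) (hx : x ∈ Pt) {v : G} (hv : v ∈ x) (hv1 : v ≠ 1)
    (h : ∀ w ∈ X p, w * v = v * w) : X p ≤ centralizer (x : Set G) := by
  intro w hw
  have h1 : MulAut.conj w • x = x := by
    refine D.ti _ (D.mv p hp w hw x hx) x hx v ⟨v, hv, ?_⟩ hv hv1
    change w * v * w⁻¹ = v
    rw [h w hw, mul_inv_cancel_right]
  refine mem_centralizer_iff.2 fun u hu => ?_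
  by_contra hne
  have h2 : w * u * w⁻¹ ∈ x := h1 ▸ (⟨u, hu, rfl⟩ : w * u * w⁻¹ ∈ MulAut.conj w • x)
  have h3 : w * u * w⁻¹ * u⁻¹ ≠ 1 := by
    intro e
    rw [mul_inv_eq_one, mul_inv_eq_iff_eq_mul] at e
    exact hne e.symm
  have h4 := D.ti p hp x hx _ (D.XN p hp w hw u (D.le x hx hu)) (mul_mem h2 (inv_mem hu)) h3
  subst h4
  exact hne (D.Xp p hp w hw u hu).symm

theorem exists_v {p : Subgroup G} (hp : p ∈ Pt) : ∃ v ∈ p, v ≠ 1 := by
  have := D.isc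
  exact D.exists_ne hp

variable [Finite G]

theorem sym {p x : Subgroup G} (hp : p ∈ Pt) (hx : x ∈ Pt) (h : X p ≤ centralizer (x : Set G)) :
    X x ≤ centralizer (p : Set G) := by
  have := D.isc
  exact (D.le_pr hx hp).1 (D.geo.sym _ ⟨p, hp, rfl⟩ _ ⟨x, hx, rfl⟩ ((D.le_pr hp hx).2 h))

/-- `N = r C_N(X p)` -/
theorem ix {p r : Subgroup G} (hp : p ∈ Pt) (hr : r ∈ Pt) (h : ¬ X p ≤ centralizer (r : Set G)) {m : G} (hm : m ∈ N) :
    ∃ x ∈ r, ∀ w ∈ X p, w * (m * x⁻¹) = (m * x⁻¹) * w := by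
  have := D.isc
  obtain ⟨x, hx, h1⟩ := D.geo.ix _ ⟨p, hp, rfl⟩ _ ⟨r, hr, rfl⟩ (fun h1 => h ((D.le_pr hp hr).1 h1))
    (Additive.ofMul (⟨m, hm⟩ : N))
  refine ⟨((x.toMul : N) : G), hx, ?_⟩
  rw [sub_eq_add_neg] at h1
  exact (D.mem_pr hp).1 h1

/-- hyperbolic lines are unions of points -/
theorem hyp {p r : Subgroup G} (hp : p ∈ Pt) (hr : r ∈ Pt) (h : ¬ X p ≤ centralizer (r : Set G)) {x y : G}
    (hx : x ∈ p) (hy : y ∈ r) (h1 : x * y ≠ 1) : ∃ s ∈ Pt, x * y ∈ s ∧ s ≤ p ⊔ r := by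
  have := D.isc
  obtain ⟨_, ⟨s, hs, rfl⟩, h2, h3⟩ := D.geo.hyp' ⟨p, hp, rfl⟩ ⟨r, hr, rfl⟩ (fun h1 => h ((D.le_pr hp hr).1 h1))
    (x := Additive.ofMul (⟨x, D.le p hp hx⟩ : N)) (y := Additive.ofMul (⟨y, D.le r hr hy⟩ : N)) hx hy
    (fun e => h1 (congrArg (fun t : Additive N => ((t.toMul : N) : G)) e))
  refine ⟨s, hs, h2, fun v hv => ?_⟩
  have h4 := h3 (x := Additive.ofMul (⟨v, D.le s hs hv⟩ : N)) hv
  obtain ⟨a, ha, b, hb, e⟩ := AddSubgroup.mem_sup.1 h4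
  have e' : ((a.toMul : N) : G) * ((b.toMul : N) : G) = v :=
    congrArg (fun t : Additive N => ((t.toMul : N) : G)) e
  rw [← e']
  exact mul_mem (mem_sup_left ha) (mem_sup_right hb)

/-- **every element `≠ 1` lies in a point** -/
theorem vect {v : G} (hv : v ∈ N) (hv1 : v ≠ 1) : ∃ p ∈ Pt, v ∈ p := by
  have := D.isc
  obtain ⟨_, ⟨p, hp, rfl⟩, h⟩ := D.geoO.vect (Additive.ofMul (⟨v, hv⟩ : N))
    (fun e => hv1 (congrArg (fun t : Additive N => ((t.toMul : N) : G)) e))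
  exact ⟨p, hp, h⟩

/-- different points have different perps -/
theorem sep {p x : Subgroup G} (hp : p ∈ Pt) (hx : x ∈ Pt) (hne : p ≠ x) :
    ∃ r ∈ Pt, X p ≤ centralizer (r : Set G) ∧ ¬ X x ≤ centralizer (r : Set G) := by
  have := D.isc
  obtain ⟨_, ⟨r, hr, rfl⟩, h1, h2⟩ := D.geoL.sep ⟨p, hp, rfl⟩ ⟨x, hx, rfl⟩
    (fun e => hne (pt_inj (D.le p hp) (D.le x hx) e)) (D.cn hp hx)
  exact ⟨r, hr, (D.le_pr hp hr).1 h1, fun h => h2 ((D.le_pr hx hr).2 h)⟩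

theorem two {x y y' : Subgroup G} (hx : x ∈ Pt) (hy : y ∈ Pt) (hy' : y' ∈ Pt) (h : x ≠ y) (h' : x ≠ y') :
    ∃ p ∈ Pt, X x ≤ centralizer (p : Set G) ∧ ¬ X y ≤ centralizer (p : Set G) ∧ ¬ X y' ≤ centralizer (p : Set G) := by
  have := D.isc
  obtain ⟨_, ⟨p, hp, rfl⟩, h1, h2, h3⟩ := D.geoO.two ⟨x, hx, rfl⟩ ⟨y, hy, rfl⟩ ⟨y', hy', rfl⟩
    (fun e => h (pt_inj (D.le x hx) (D.le y hy) e)) (fun e => h' (pt_inj (D.le x hx) (D.le y' hy') e))
  exact ⟨p, hp, (D.le_pr hx hp).1 h1, fun h => h2 ((D.le_pr hy hp).2 h), fun h => h3 ((D.le_pr hy' hp).2 h)⟩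

/-- **transitivity on the points `≠ c` of `c^⊥`** : one step -/
theorem step {c y p : Subgroup G} (hc : c ∈ Pt) (hy : y ∈ Pt) (hp : p ∈ Pt) (hcy : X c ≤ centralizer (y : Set G))
    (hcp : X c ≤ centralizer (p : Set G)) (hyp : ¬ X y ≤ centralizer (p : Set G)) :
    ∃ s ∈ Pt, X s ≤ centralizer (c : Set G) ∧ ∃ w ∈ X s, MulAut.conj w • y = p := by
  obtain ⟨u, hu, hu1⟩ := D.exists_v hy
  obtain ⟨v, hv, hv1⟩ := D.exists_v hp
  have hyp' : y ≠ p := by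
    rintro rfl
    exact hyp fun w hw => mem_centralizer_iff.2 fun z hz => (D.Xp y hy w hw z hz).symm
  have hm : u⁻¹ * v ≠ 1 := by
    intro e
    have e1 : u = v := inv_mul_eq_one.1 e
    exact hyp' (D.ti y hy p hp u hu (e1 ▸ hv) hu1)
  obtain ⟨s, hs, h1, h2⟩ := D.hyp hy hp hyp (inv_mem hu) hv hm
  have hcs : X c ≤ centralizer (s : Set G) := by
    have h3 : y ⊔ p ≤ centralizer (X c : Set G) :=
      sup_le (by rwa [le_centralizer_iff] at hcy) (by rwa [le_centralizer_iff] at hcp)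
    rw [le_centralizer_iff]
    exact h2.trans h3
  refine ⟨s, hs, D.sym hc hs hcs, ?_⟩
  -- `u` is moved by `X s`
  have h4 : ∃ w ∈ X s, w * u ≠ u * w := by
    by_contra hcon
    push Not at hcon
    have h5 : X s ≤ centralizer (y : Set G) := D.one hs hy hu hu1 hcon
    have h6 : X y ≤ centralizer (s : Set G) := D.sym hs hy h5
    refine hyp (D.one hy hp hv hv1 fun w hw => ?_)
    have h7 : w * (u⁻¹ * v) = (u⁻¹ * v) * w := (mem_centralizer_iff.1 (h6 hw) _ h1).symm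
    have h8 : w * u⁻¹ = u⁻¹ * w := D.Xp y hy w hw _ (inv_mem hu)
    have h9 : u⁻¹ * (w * v) = u⁻¹ * (v * w) := by
      calc u⁻¹ * (w * v) = w * (u⁻¹ * v) := by rw [← mul_assoc, ← h8, mul_assoc]
        _ = u⁻¹ * (v * w) := by rw [h7, mul_assoc]
    exact mul_left_cancel h9
  obtain ⟨w, hw, hwu⟩ := h4
  obtain ⟨w', hw', e, -⟩ := D.reg s hs w hw u (D.le y hy hu) hwu _ h1
  refine ⟨w', hw', D.ti _ (D.mv s hs w' hw' y hy) p hp v ⟨u, hu, ?_⟩ hv hv1⟩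
  change w' * u * w'⁻¹ = v
  have e1 : w' * u * w'⁻¹ = (u⁻¹ * v) * u := by rw [← e]; group
  rw [e1, D.comm _ (mul_mem (inv_mem (D.le y hy hu)) (D.le p hp hv)) u (D.le y hy hu)]
  group

/-- **transitivity on the points `≠ c` of `c^⊥`** : two steps -/
theorem trans {c y p : Subgroup G} (hc : c ∈ Pt) (hy : y ∈ Pt) (hp : p ∈ Pt) (hcy : X c ≤ centralizer (y : Set G))
    (hcp : X c ≤ centralizer (p : Set G)) (hy' : c ≠ y) (hp' : c ≠ p) :
    ∃ g : G, g ∈ centralizer (c : Set G) ∧ MulAut.conj g • y = p ∧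
      ∃ s ∈ Pt, ∃ s' ∈ Pt, ∃ w ∈ X s, ∃ w' ∈ X s', g = w' * w := by
  obtain ⟨r, hr, h1, h2, h3⟩ := D.two hc hy hp hy' hp'
  obtain ⟨s, hs, h4, w, hw, h5⟩ := D.step hc hy hr hcy h1 h2
  obtain ⟨s', hs', h6, w', hw', h7⟩ := D.step hc hr hp h1 hcp fun h => h3 (D.sym hr hp h)
  refine ⟨w' * w, mul_mem (h6 hw') (h4 hw), ?_, s, hs, s', hs', w, hw, w', hw', rfl⟩
  rw [map_mul, mul_smul, h5, h7]

/-- **LEMMA T'.** `g` centralises `c` and `[N, g] ≤ c`, `g` permutes the points with their groups: `g` centralises the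
points perpendicular to `c`. -/
theorem tv {c x : Subgroup G} (hc : c ∈ Pt) (hx : x ∈ Pt) {g : G} (hgc : ∀ v ∈ c, g * v = v * g)
    (hgN : ∀ v ∈ N, g * v * g⁻¹ * v⁻¹ ∈ c) (hgm : ∀ s ∈ Pt, MulAut.conj g • s ∈ Pt)
    (hgX : ∀ s ∈ Pt, X (MulAut.conj g • s) = MulAut.conj g • X s) (hcx : X c ≤ centralizer (x : Set G)) :
    ∀ v ∈ x, g * v = v * g := by
  by_contra hcon
  push Not at hcon
  obtain ⟨v₁, hv₁, hne₁⟩ := hcon
  have hcx' : c ≠ x := by
    rintro rfl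
    exact hne₁ (hgc v₁ hv₁)
  -- `g` fixes no vector `≠ 1` of `x`
  have hinj : ∀ v ∈ x, g * v = v * g → v = 1 := by
    intro v hv e
    by_contra hv1
    have h1 : MulAut.conj g • x = x := by
      refine D.ti _ (hgm x hx) x hx v ⟨v, hv, ?_⟩ hv hv1
      change g * v * g⁻¹ = v
      rw [e, mul_inv_cancel_right]
    have h2 : g * v₁ * g⁻¹ ∈ x := h1 ▸ (⟨v₁, hv₁, rfl⟩ : g * v₁ * g⁻¹ ∈ MulAut.conj g • x)
    by_cases h3 : g * v₁ * g⁻¹ * v₁⁻¹ = 1
    · rw [mul_inv_eq_one, mul_inv_eq_iff_eq_mul] at h3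
      exact hne₁ h3
    · exact hcx' (D.ti c hc x hx _ (hgN _ (D.le x hx hv₁)) (mul_mem h2 (inv_mem hv₁)) h3)
  -- `y ⊥ x`, `y` not `⊥ c`
  obtain ⟨y, hy, h1, h2⟩ := D.sep hx hc hcx'.symm
  obtain ⟨u, hu, hu1⟩ := D.exists_v hy
  -- `x₀ ∈ x` with `[x₀, g] = [u, g]`
  have hcomm : ∀ a ∈ N, ∀ b ∈ N, g * (a * b) * g⁻¹ * (a * b)⁻¹ = (g * a * g⁻¹ * a⁻¹) * (g * b * g⁻¹ * b⁻¹) := by
    intro a ha b hb
    have h3 : g * b * g⁻¹ * b⁻¹ ∈ N := D.le c hc (hgN b hb)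
    have h4 := D.comm _ h3 _ (inv_mem ha)
    calc g * (a * b) * g⁻¹ * (a * b)⁻¹ = (g * a * g⁻¹) * ((g * b * g⁻¹ * b⁻¹) * a⁻¹) := by group
      _ = _ := by rw [h4]; group
  obtain ⟨x₀, hx₀, e₀⟩ : ∃ x₀ ∈ x, g * x₀ * g⁻¹ * x₀⁻¹ = g * u * g⁻¹ * u⁻¹ := by
    let f : x → c := fun v => ⟨g * v * g⁻¹ * (v : G)⁻¹, hgN v (D.le x hx v.2)⟩
    have hf : Function.Injective f := by
      intro a b e
      have e1 : g * a * g⁻¹ * (a : G)⁻¹ = g * b * g⁻¹ * (b : G)⁻¹ := congrArg Subtype.val e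
      have h3 : g * ((a : G) * (b : G)⁻¹) = ((a : G) * (b : G)⁻¹) * g := by
        have h4 := hcomm a (D.le x hx a.2) (b : G)⁻¹ (inv_mem (D.le x hx b.2))
        have h5 := hcomm b (D.le x hx b.2) (b : G)⁻¹ (inv_mem (D.le x hx b.2))
        rw [← e1, ← h4, mul_inv_cancel, mul_one, mul_inv_cancel, inv_one, mul_one] at h5
        rw [eq_comm, mul_inv_eq_one, mul_inv_eq_iff_eq_mul] at h5
        exact h5
      exact Subtype.ext (mul_inv_eq_one.1 (hinj _ (mul_mem a.2 (inv_mem b.2)) h3))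
    have hbij := hf.bijective_of_nat_card_le (by rw [D.card c hc, D.card x hx])
    obtain ⟨x₀, e⟩ := hbij.2 ⟨g * u * g⁻¹ * u⁻¹, hgN u (D.le y hy hu)⟩
    exact ⟨x₀, x₀.2, congrArg Subtype.val e⟩
  set v := u * x₀⁻¹ with hv
  have hxN := D.le x hx hx₀
  have huN := D.le y hy hu
  have hvN : v ∈ N := mul_mem huN (inv_mem hxN)
  have hgv : g * v = v * g := by
    have h3 := hcomm u huN x₀⁻¹ (inv_mem hxN)
    have h4 := hcomm x₀ hxN x₀⁻¹ (inv_mem hxN)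
    rw [e₀, ← h3, mul_inv_cancel, mul_one, mul_inv_cancel, inv_one, mul_one, eq_comm, mul_inv_eq_one,
      mul_inv_eq_iff_eq_mul] at h4
    exact h4
  -- `v` is not perpendicular to `c`
  have hcv : ¬ ∀ w ∈ X c, w * v = v * w := by
    intro h
    refine h2 (D.one hc hy hu hu1 fun w hw => ?_)
    have h3 : w * x₀ = x₀ * w := (mem_centralizer_iff.1 (hcx hw) x₀ hx₀).symm
    have h4 : u = v * x₀ := by rw [hv]; group
    rw [h4]
    calc w * (v * x₀) = (w * v) * x₀ := by group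
      _ = v * (w * x₀) := by rw [h w hw]; group
      _ = v * x₀ * w := by rw [h3]; group
  have hv1 : v ≠ 1 := by
    intro e
    exact hcv fun w _ => by rw [e]; simp
  obtain ⟨s, hs, hvs⟩ := D.vect hvN hv1
  have hcs : ¬ X c ≤ centralizer (s : Set G) := fun h => hcv fun w hw => (mem_centralizer_iff.1 (h hw) v hvs).symm
  -- `s ⊥ x`
  have hxs : X x ≤ centralizer (s : Set G) := by
    refine D.one hx hs hvs hv1 fun w hw => ?_
    have h3 : w * u = u * w := (mem_centralizer_iff.1 (h1 hw) u hu).symm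
    have h4 : w * x₀⁻¹ = x₀⁻¹ * w := D.Xp x hx w hw _ (inv_mem hx₀)
    rw [hv]
    calc w * (u * x₀⁻¹) = (w * u) * x₀⁻¹ := by group
      _ = u * (w * x₀⁻¹) := by rw [h3]; group
      _ = u * x₀⁻¹ * w := by rw [h4]; group
  have hsx : X s ≤ centralizer (x : Set G) := D.sym hx hs hxs
  -- `g` fixes `s`
  have hgs : MulAut.conj g • s = s := by
    refine D.ti _ (hgm s hs) s hs v ⟨v, hvs, ?_⟩ hvs hv1
    change g * v * g⁻¹ = v
    rw [hgv, mul_inv_cancel_right]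
  -- `s ⊥ [v₁, g]`
  have h3 : g * v₁ * g⁻¹ * v₁⁻¹ ≠ 1 := by
    intro e
    rw [mul_inv_eq_one, mul_inv_eq_iff_eq_mul] at e
    exact hne₁ e
  refine hcs (D.sym hs hc (D.one hs hc (hgN v₁ (D.le x hx hv₁)) h3 fun w hw => ?_))
  have h4 : X s = MulAut.conj g • X s := by
    have := hgX s hs
    rwa [hgs] at this
  have h5 : w * (g * v₁ * g⁻¹) = (g * v₁ * g⁻¹) * w := by
    rw [h4] at hw
    obtain ⟨w₀, hw₀, rfl⟩ := hw
    have h6 : v₁ * w₀ = w₀ * v₁ := mem_centralizer_iff.1 (hsx hw₀) v₁ hv₁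
    change g * w₀ * g⁻¹ * (g * v₁ * g⁻¹) = g * v₁ * g⁻¹ * (g * w₀ * g⁻¹)
    calc g * w₀ * g⁻¹ * (g * v₁ * g⁻¹) = g * (w₀ * v₁) * g⁻¹ := by group
      _ = g * (v₁ * w₀) * g⁻¹ := by rw [h6]
      _ = _ := by group
  have h6 : w * v₁⁻¹ = v₁⁻¹ * w := (mem_centralizer_iff.1 (hsx hw) _ (inv_mem hv₁)).symm
  calc w * (g * v₁ * g⁻¹ * v₁⁻¹) = w * (g * v₁ * g⁻¹) * v₁⁻¹ := by group
    _ = (g * v₁ * g⁻¹) * (w * v₁⁻¹) := by rw [h5]; group
    _ = _ := by rw [h6]; group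

end ND

end Cfsg.Agent.Omega.NO3S.EThree.NrGeo

end

section


/-!
# (E), `k = 2`, no radical, `[W_1, N_2] ≠ 1` is impossible ((NR1); helper997 #19952 (3), in the form of bb #23661)

`NrH Z U` : partner points and lines, t.i. points, `[N_a, N_u] = 1` for `a ~ u`, `N_1` is irreducible for `N_G(Z 0)`,
an `N(Z 0) ∩ N(Z 1)`-invariant subgroup `≠ 1` of `N_1` meets `Z 1` (this makes the non-perp graph connected, LEMMA 0 is
not needed), `RegX`, the points cover `U 0`, `|U 0| = |Z 0|²`.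

* `NrH.nd` : the geometry of `N_a`, if `X_c` moves `N_a` (`a ~ c`);
* `NrH.mem_X` : `c^⊥ ≤ X_c`;
* `NrH.two_common` : two common neighbours `c ≠ r` of `a`, `b` imply `[N_a, N_b] = 1`;
* **`NrH.nr_one`** : `X_u` centralises `N_a` for `a ~ u`.
-/

set_option autoImplicit false
set_option linter.unusedSectionVars false

namespace Cfsg.Agent.Omega.NO3S.EThree.NrOne

open Subgroup Cfsg
open Cfsg.Agent.ZN Cfsg.Agent.Omega.OM.PG Cfsg.Agent.Omega.OM.PG.Peel Cfsg.Agent.Omega.OM.PG.PeelQ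
open Cfsg.Agent.Omega.OM.PG.PcQ (RegX not_adj_self)
open Cfsg.Agent.Omega.NO3S.EThree Cfsg.Agent.Omega.NO3S.EThree.ExactA
open Cfsg.Agent.Omega.NoFF.Basic (comm_symm conj_conj conj_le_iff)
open Cfsg.Agent.Omega.OmThm.Grp (GD Mv)
open Cfsg.Agent.Omega.NO3S.EThree.NrGeo (ND)
open scoped Pointwise

universe u

variable {G : Type u} [Group G]

/-- **The hypotheses of (NR1).** -/
structure NrH (Z U : Fin 2 → Subgroup G) : Prop where
  P : PP Z U
  F : XF Z (XW Z U)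
  ti : TIp Z
  reg : RegX Z (XW Z U)
  q3 : 3 ≤ Nat.card (Z 0)
  h01 : Z 0 ≠ Z 1
  com : ∀ a u : Subgroup G, Adj Z a u → Com Z a u
  irr : ∀ K : Subgroup G, K ≤ NN Z (Z 0) → HH (Z 0) ≤ normalizer (K : Set G) → K = ⊥ ∨ NN Z (Z 0) ≤ K
  fx : ∀ K : Subgroup G, K ≤ NN Z (Z 0) → HH (Z 0) ⊓ HH (Z 1) ≤ normalizer (K : Set G) → K ≠ ⊥ →
    ∃ x ∈ K, x ∈ Z 1 ∧ x ≠ 1
  pts : ∀ x ∈ U 0, x ≠ 1 → ∃ p, IsPt Z p ∧ p ≤ U 0 ∧ x ∈ p
  cardU : Nat.card (U 0) = Nat.card (Z 0) * Nat.card (Z 0)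
  UN : U 1 ≤ NN Z (Z 0)

namespace NrH

variable {Z U : Fin 2 → Subgroup G} (D : NrH Z U)
include D

theorem pt0 : IsPt Z (Z 0) := ⟨1, by rw [map_one, one_smul]⟩

theorem adj01 : Adj Z (Z 0) (Z 1) := ⟨1, by rw [map_one, one_smul], by rw [map_one, one_smul]⟩

theorem card_pt {a : Subgroup G} (ha : IsPt Z a) : Nat.card a = Nat.card (Z 0) := by
  obtain ⟨k, rfl⟩ := ha
  exact ZN.ChoiceBase.card_cj k _

theorem ti' {a b : Subgroup G} (ha : IsPt Z a) (hb : IsPt Z b) {v : G} (h1 : v ∈ a) (h2 : v ∈ b) (hv : v ≠ 1) :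
    a = b := by
  by_contra hne
  exact hv (ti_one D.ti ha hb hne h1 h2)

theorem NQ {a c : Subgroup G} (h : Adj Z a c) : NN Z a ≤ QQ c :=
  D.P.f3 (D.P.adj_symm h) (D.P.NN_le_QQ h.pt) (D.com _ _ h)

theorem NN_cent {a c : Subgroup G} (h : Adj Z a c) {b : Subgroup G} (h' : Adj Z b c) :
    NN Z a ≤ centralizer (b : Set G) := (D.NQ h).trans (D.P.QQ_le_cent_of_adj h')

/-- `N_a` centralises `c`, `a ~ c` -/
theorem NN_cent' {a c : Subgroup G} (h : Adj Z a c) : NN Z a ≤ centralizer (c : Set G) :=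
  (D.P.NN_comm h.pt).trans (centralizer_le h.le_NN)

theorem NN_com {a : Subgroup G} (ha : IsPt Z a) {x y : G} (hx : x ∈ NN Z a) (hy : y ∈ NN Z a) : x * y = y * x :=
  mem_centralizer_iff.1 (D.P.NN_comm ha hy) x hx

theorem cent_of {c : Subgroup G} (hc : IsPt Z c) {x y : G} (hx : x ∈ XW Z U c) (hy : y ∈ XW Z U c) : x * y = y * x :=
  mem_centralizer_iff.1 ((eab_iff.1 (D.F.eab c hc)).1 hy) x hx

/-- the line `U 1` -/
theorem line1 {p : Subgroup G} (hp : IsPt Z p) (h : p ≤ U 1) : Adj Z (Z 0) p ∧ LnOn Z U p (U 1) := by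
  obtain ⟨s, hs0, hs1, hs2, hs3⟩ := D.P.swap
  obtain ⟨k, rfl⟩ := hp
  have h1 : MulAut.conj (s⁻¹ * k) • Z 0 ≤ U 0 := by
    have := conj_le_iff (g := s⁻¹) |>.2 h
    rwa [conj_conj, ← hs2, inv_conj_conj] at this
  obtain ⟨l, hl0, hl1, hl2, hl3⟩ := D.P.tr _ h1
  have e : MulAut.conj k • Z 0 = MulAut.conj (s * l) • Z 0 := by
    rw [← conj_conj, hl0, conj_conj, mul_inv_cancel_left]
  refine ⟨D.P.adj_symm ⟨s * l, e, ?_⟩, s * l, e, ?_⟩
  · rw [← conj_conj, hl1, hs1]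
  · rw [← conj_conj, hl2, hs2]

/-- the line on `c` in `N_a` -/
theorem exists_line {a c : Subgroup G} (h : Adj Z a c) : ∃ V : Subgroup G, LnOn Z U c V ∧ c ≤ V ∧ V ≤ NN Z a ∧
    Nat.card V = Nat.card (Z 0) * Nat.card (Z 0) ∧ (∀ v ∈ V, v ≠ 1 → ∃ s, Adj Z a s ∧ s ≤ V ∧ v ∈ s) ∧
    ∀ s, IsPt Z s → s ≤ V → Adj Z a s ∧ LnOn Z U s V := by
  obtain ⟨s, hs0, hs1, hs2, hs3⟩ := D.P.swap
  have hpts : ∀ v ∈ U 1, v ≠ 1 → ∃ p, IsPt Z p ∧ p ≤ U 1 ∧ v ∈ p := by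
    intro v hv hv1
    rw [← hs2] at hv
    obtain ⟨x, hx, rfl⟩ := hv
    have hx1 : x ≠ 1 := by
      rintro rfl
      exact hv1 (by simp)
    obtain ⟨p, hp, hpU, hxp⟩ := D.pts x hx hx1
    refine ⟨MulAut.conj s • p, hp.conj s, ?_, ⟨x, hxp, rfl⟩⟩
    rw [← hs2]
    exact conj_le_iff.2 hpU
  obtain ⟨k, rfl, rfl⟩ := h
  refine ⟨MulAut.conj k • U 1, ⟨k * s, ?_, ?_⟩, ?_, ?_, ?_, ?_, ?_⟩
  · rw [← conj_conj, hs0]
  · rw [← conj_conj, hs2]
  · refine conj_le_iff.2 ?_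
    rw [← hs0, ← hs2]
    exact conj_le_iff.2 D.P.ZU
  · rw [NN_conj]
    exact conj_le_iff.2 D.UN
  · rw [← hs2, conj_conj]
    exact (ZN.ChoiceBase.card_cj _ _).trans D.cardU
  · rintro _ ⟨x, hx, rfl⟩ hv1
    have hx1 : x ≠ 1 := by
      rintro rfl
      exact hv1 (by simp)
    obtain ⟨p, hp, hpU, hxp⟩ := hpts x hx hx1
    exact ⟨MulAut.conj k • p, (D.line1 hp hpU).1.conj k, conj_le_iff.2 hpU, ⟨x, hxp, rfl⟩⟩
  · intro p hp hpV
    have h1 : MulAut.conj k⁻¹ • p ≤ U 1 := by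
      have := conj_le_iff (g := k⁻¹) |>.2 hpV
      rwa [inv_conj_conj] at this
    obtain ⟨h2, h3⟩ := D.line1 (hp.conj k⁻¹) h1
    have h4 := h2.conj k
    have h5 := h3.conj k
    rw [conj_inv_conj] at h4 h5
    exact ⟨h4, h5⟩

/-- moved: `X_c` moves `N_a` for some `a ~ c` -/
theorem mov_all {a c a' c' : Subgroup G} (h : Adj Z a c) (h' : Adj Z a' c')
    (hm : ¬ XW Z U c ≤ centralizer (NN Z a : Set G)) : ¬ XW Z U c' ≤ centralizer (NN Z a' : Set G) := by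
  obtain ⟨k, rfl, rfl⟩ := h
  obtain ⟨k', rfl, rfl⟩ := h'
  intro h1
  apply hm
  have h2 := Cfsg.Agent.Omega.NoFF.Basic.conj_le_centralizer (g := k * k'⁻¹) h1
  have e1 : ∀ A : Subgroup G, MulAut.conj (k * k'⁻¹) • (MulAut.conj k' • A) = MulAut.conj k • A := fun A => by
    rw [conj_conj, inv_mul_cancel_right]
  rwa [← XW_conj, ← NN_conj, e1, e1] at h2

theorem YY_conj (k : G) {a : Subgroup G} (ha : IsPt Z a) :
    YY Z (XW Z U) (MulAut.conj k • a) = MulAut.conj k • YY Z (XW Z U) a := by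
  have key : ∀ (k : G) {a : Subgroup G}, IsPt Z a → MulAut.conj k • YY Z (XW Z U) a ≤ YY Z (XW Z U) (MulAut.conj k • a) := by
    intro k a ha
    have h1 : YY Z (XW Z U) a ≤ MulAut.conj k⁻¹ • YY Z (XW Z U) (MulAut.conj k • a) := by
      refine iSup_le fun p => ?_
      have h2 : XW Z U (MulAut.conj k • (p : Subgroup G)) ≤ YY Z (XW Z U) (MulAut.conj k • a) :=
        le_iSup (fun p : {p : Subgroup G // Adj Z (MulAut.conj k • a) p} => XW Z U (p : Subgroup G))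
          ⟨_, p.2.conj k⟩
      have h3 := conj_le_iff (g := k⁻¹) |>.2 h2
      rwa [XW_conj, inv_conj_conj] at h3
    have h3 := conj_le_iff (g := k) |>.2 h1
    rwa [conj_inv_conj] at h3
  refine le_antisymm ?_ (key k ha)
  have h1 := key k⁻¹ (ha.conj k)
  rw [inv_conj_conj] at h1
  have h3 := conj_le_iff (g := k) |>.2 h1
  rwa [conj_inv_conj] at h3

theorem le_YY {a p : Subgroup G} (h : Adj Z a p) : XW Z U p ≤ YY Z (XW Z U) a :=
  le_iSup (fun p : {p : Subgroup G // Adj Z a p} => XW Z U (p : Subgroup G)) ⟨p, h⟩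

theorem X_cent {a c : Subgroup G} (h : Adj Z a c) : XW Z U c ≤ centralizer (a : Set G) :=
  (D.F.XQ c (D.P.adj_pt h)).trans (D.P.QQ_le_cent_of_adj h)

theorem YY_cent (a : Subgroup G) : YY Z (XW Z U) a ≤ centralizer (a : Set G) := iSup_le fun p => D.X_cent p.2

theorem mv' {a p : Subgroup G} {w : G} (hp : Adj Z a p) (hw : w ∈ XW Z U p) {x : Subgroup G} (hx : Adj Z a x) :
    Adj Z a (MulAut.conj w • x) := by
  have h1 := Adj.conj hx w
  rwa [Cfsg.Agent.Omega.NOThreeL.Pair.conj_eq_of_mem (centralizer_le_normalizer _ (D.X_cent hp hw))] at h1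

/-- the base case of the geometry -/
theorem gd {a : Subgroup G} (ha : IsPt Z a) : GD (NN Z a) {p | Adj Z a p} (XW Z U) (Nat.card (Z 0)) where
  comm := fun x hx y hy => D.NN_com ha hx hy
  sq := fun x hx => by
    have h := (eab_iff.1 (NN_eab D.P ha)).2 x hx
    rwa [pow_two] at h
  hq := D.q3
  le := fun p hp => Adj.le_NN hp
  card := fun p hp => D.card_pt (D.P.adj_pt hp)
  ti := fun p hp x hx v hvp hvx hv1 => D.ti' (D.P.adj_pt hp) (D.P.adj_pt hx) hvp hvx hv1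
  XN := fun p hp w hw v hv => D.F.com p (D.P.adj_pt hp) w hw v (D.NQ hp hv)
  Xp := fun p hp w hw v hv => D.cent_of (D.P.adj_pt hp) hw (D.F.aX p (D.P.adj_pt hp) hv)
  mv := fun p hp w hw x hx => D.mv' hp hw hx
  Xc := fun p hp w hw x hx => D.F.conj w x (D.P.adj_pt hx)
  reg := by
    intro x hx w hw b hb hne z hz
    obtain ⟨w', hw', h1, h2⟩ := D.reg x (D.P.adj_pt hx) w hw b (D.NQ hx hb) hne z hz
    exact ⟨w', hw', h1, fun v hv => h2 v (D.NQ hx hv)⟩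
  cardT := by
    obtain ⟨j, rfl⟩ := ha
    have key : ∀ p, Adj Z (MulAut.conj j • Z 0) p →
        (centralizer (NN Z (MulAut.conj j • Z 0) : Set G)).relIndex (XW Z U p) =
        (centralizer (NN Z (Z 0) : Set G)).relIndex (XW Z U (Z 1)) := by
      rintro _ ⟨k, hk, rfl⟩
      rw [XW_conj, hk, NN_conj]
      have e2 : centralizer ((MulAut.conj k • NN Z (Z 0) : Subgroup G) : Set G) =
          MulAut.conj k • centralizer (NN Z (Z 0) : Set G) := (ZN.ChoiceBase.cj_centralizer k _).symm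
      rw [e2, relIndex_pointwise_smul]
    intro p hp x hx
    rw [key p hp, key x hx]
  span := le_rfl

/-- no vector `≠ 1` of `N_1` is centralised by all `X_p` -/
theorem nk0 {a c : Subgroup G} (h : Adj Z a c) (hm : ¬ XW Z U c ≤ centralizer (NN Z a : Set G)) {v : G}
    (hv : v ∈ NN Z (Z 0)) (hkill : ∀ p, Adj Z (Z 0) p → ∀ g ∈ XW Z U p, g * v = v * g) : v = 1 := by
  have hm0 := D.mov_all h D.adj01 hm
  have h1 : HH (Z 0) ≤ normalizer ((NN Z (Z 0) ⊓ centralizer (YY Z (XW Z U) (Z 0) : Set G) : Subgroup G) : Set G) := by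
    refine NO3L.LemP.le_normalizer_inf (PP.HH_le_NN _) ?_
    refine le_trans ?_ (NO3L.LemP.normalizer_le_normalizer_cent (YY Z (XW Z U) (Z 0)))
    intro g hg
    refine ChoiceBase.mem_normalizer_iff_cj.2 ?_
    have h2 := D.YY_conj g D.pt0
    rw [Cfsg.Agent.Omega.NOThreeL.Pair.conj_eq_of_mem hg] at h2
    exact h2.symm
  have h2 : NN Z (Z 0) ⊓ centralizer (YY Z (XW Z U) (Z 0) : Set G) = ⊥ := by
    rcases D.irr _ inf_le_left h1 with h3 | h3
    · exact h3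
    · exfalso
      exact hm0 ((D.le_YY D.adj01).trans (comm_symm (h3.trans inf_le_right)))
  have h3 : v ∈ NN Z (Z 0) ⊓ centralizer (YY Z (XW Z U) (Z 0) : Set G) := by
    refine ⟨hv, ?_⟩
    have h5 : YY Z (XW Z U) (Z 0) ≤ centralizer ({v} : Set G) :=
      iSup_le fun p g hg => mem_centralizer_singleton_iff.2 (hkill p p.2 g hg)
    exact mem_centralizer_iff.2 fun y hy => mem_centralizer_singleton_iff.1 (h5 hy)
  rw [h2, mem_bot] at h3
  exact h3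

/-- `X p` centralises a vector `≠ 1` of `x` : it centralises `x` -/
theorem one0 {a p x : Subgroup G} (hp : Adj Z a p) (hx : Adj Z a x) {v : G} (hv : v ∈ x) (hv1 : v ≠ 1)
    (h : ∀ w ∈ XW Z U p, w * v = v * w) : XW Z U p ≤ centralizer (x : Set G) := by
  intro w hw
  have hpp := D.P.adj_pt hp
  have hxp := D.P.adj_pt hx
  have h1 : MulAut.conj w • x = x := by
    refine D.ti' (hxp.conj w) hxp (v := v) ⟨v, hv, ?_⟩ hv hv1
    change w * v * w⁻¹ = v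
    rw [h w hw, mul_inv_cancel_right]
  refine mem_centralizer_iff.2 fun u hu => ?_
  by_contra hne
  have h2 : w * u * w⁻¹ ∈ x := h1 ▸ (⟨u, hu, rfl⟩ : w * u * w⁻¹ ∈ MulAut.conj w • x)
  have h3 : w * u * w⁻¹ * u⁻¹ ≠ 1 := by
    intro e
    rw [mul_inv_eq_one, mul_inv_eq_iff_eq_mul] at e
    exact hne e.symm
  have h4 := D.ti' hpp hxp (D.F.com p hpp w hw u (D.NQ hp (hx.le_NN hu))) (mul_mem h2 (inv_mem hu)) h3
  subst h4
  exact hne (D.cent_of hpp hw (D.F.aX _ hpp hu)).symm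

/-- one step of the symmetrised non-perp relation on the points of `N_a` -/
def St (Z U : Fin 2 → Subgroup G) (a x y : Subgroup G) : Prop :=
  x ∈ {p | Adj Z a p} ∧ y ∈ {p | Adj Z a p} ∧ (Mv (XW Z U) x y ∨ Mv (XW Z U) y x)

theorem st_conj {a x y : Subgroup G} (g : G) (h : St Z U a x y) :
    St Z U (MulAut.conj g • a) (MulAut.conj g • x) (MulAut.conj g • y) := by
  obtain ⟨h1, h2, h3⟩ := h
  have key : ∀ {x y : Subgroup G}, Adj Z a x → Mv (XW Z U) x y → Mv (XW Z U) (MulAut.conj g • x) (MulAut.conj g • y) := by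
    intro x y hx hm hle
    refine hm fun w hw => ?_
    have h4 : g * w * g⁻¹ ∈ XW Z U (MulAut.conj g • x) := by
      rw [XW_conj]
      exact ⟨w, hw, rfl⟩
    exact (mem_cent_conj (g := g)).1 (hle h4)
  exact ⟨Adj.conj h1 g, Adj.conj h2 g, h3.imp (key h1) (key h2)⟩

omit D in
theorem st_symm {a x y : Subgroup G} (h : St Z U a x y) : St Z U a y x := ⟨h.2.1, h.1, h.2.2.symm⟩

theorem rt_conj {a x y : Subgroup G} (g : G) (h : Relation.ReflTransGen (St Z U a) x y) :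
    Relation.ReflTransGen (St Z U (MulAut.conj g • a)) (MulAut.conj g • x) (MulAut.conj g • y) := by
  induction h with
  | refl => exact Relation.ReflTransGen.refl
  | tail _ h2 ih => exact ih.tail (D.st_conj g h2)

/-- **the non-perp graph on the points of `N_1` is connected** (no vector of `N_1 - Z 1` is fixed by `N(Z 0) ∩ N(Z 1)`) -/
theorem conn0 {a c : Subgroup G} (h : Adj Z a c) (hm : ¬ XW Z U c ≤ centralizer (NN Z a : Set G)) {x : Subgroup G}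
    (hx : Adj Z (Z 0) x) : Relation.ReflTransGen (St Z U (Z 0)) (Z 1) x := by
  by_contra hcon
  set M : Subgroup G := sSup {y | Adj Z (Z 0) y ∧ ¬ Relation.ReflTransGen (St Z U (Z 0)) (Z 1) y} with hM
  have hxM : x ≤ M := le_sSup ⟨hx, hcon⟩
  have hne : M ≠ ⊥ := by
    intro e
    rw [e] at hxM
    have h1 := D.card_pt (D.P.adj_pt hx)
    rw [le_bot_iff.1 hxM, Subgroup.card_bot] at h1
    have := D.q3
    omega
  have hMn : HH (Z 0) ⊓ HH (Z 1) ≤ normalizer (M : Set G) := by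
    have key : ∀ g ∈ HH (Z 0) ⊓ HH (Z 1), MulAut.conj g • M ≤ M := by
      intro g hg
      have hg0 : MulAut.conj g • Z 0 = Z 0 := Cfsg.Agent.Omega.NOThreeL.Pair.conj_eq_of_mem hg.1
      have hg1 : MulAut.conj g • Z 1 = Z 1 := Cfsg.Agent.Omega.NOThreeL.Pair.conj_eq_of_mem hg.2
      have hgi0 : MulAut.conj g⁻¹ • Z 0 = Z 0 := Cfsg.Agent.Omega.NOThreeL.Pair.conj_eq_of_mem (inv_mem hg.1)
      have hgi1 : MulAut.conj g⁻¹ • Z 1 = Z 1 := Cfsg.Agent.Omega.NOThreeL.Pair.conj_eq_of_mem (inv_mem hg.2)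
      have h1 : M ≤ MulAut.conj g⁻¹ • M := by
        refine sSup_le ?_
        rintro y ⟨hy, hyc⟩
        have h2 : MulAut.conj g • y ≤ M := by
          refine le_sSup ⟨?_, fun h3 => hyc ?_⟩
          · have := Adj.conj hy g
            rwa [hg0] at this
          · have h4 := D.rt_conj g⁻¹ h3
            rwa [hgi0, hgi1, inv_conj_conj] at h4
        have h3 := conj_le_iff (g := g⁻¹) |>.2 h2
        rwa [inv_conj_conj] at h3
      have h3 := conj_le_iff (g := g) |>.2 h1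
      rwa [conj_inv_conj] at h3
    intro g hg
    refine ChoiceBase.mem_normalizer_iff_cj.2 (le_antisymm (key g hg) ?_)
    have h1 := conj_le_iff (g := g) |>.2 (key g⁻¹ (inv_mem hg))
    rwa [conj_inv_conj] at h1
  obtain ⟨t, htM, ht, ht1⟩ := D.fx M (sSup_le fun y hy => Adj.le_NN hy.1) hMn hne
  -- all `X_p` centralise `Z 1`
  have hall : ∀ p, Adj Z (Z 0) p → XW Z U p ≤ centralizer (Z 1 : Set G) := by
    intro p hp
    by_cases hc : Relation.ReflTransGen (St Z U (Z 0)) (Z 1) p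
    · refine D.one0 hp D.adj01 ht ht1 fun w hw => ?_
      have h1 : M ≤ centralizer (XW Z U p : Set G) := by
        refine sSup_le ?_
        rintro y ⟨hy, hyc⟩
        refine comm_symm ?_
        by_contra h2
        exact hyc (hc.tail ⟨hp, hy, Or.inl h2⟩)
      exact mem_centralizer_iff.1 (h1 htM) w hw
    · by_contra h2
      exact hc (Relation.ReflTransGen.single ⟨D.adj01, hp, Or.inr h2⟩)
  exact ht1 (D.nk0 h hm (D.adj01.le_NN ht) fun p hp g hg => (mem_centralizer_iff.1 (hall p hp hg) t ht).symm)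

theorem conn {a c : Subgroup G} (h : Adj Z a c) (hm : ¬ XW Z U c ≤ centralizer (NN Z a : Set G)) {p x : Subgroup G}
    (hp : Adj Z a p) (hx : Adj Z a x) : Relation.ReflTransGen (St Z U a) p x := by
  have hsym : ∀ {x y : Subgroup G}, Relation.ReflTransGen (St Z U a) x y → Relation.ReflTransGen (St Z U a) y x := by
    intro x y h
    induction h with
    | refl => exact Relation.ReflTransGen.refl
    | tail _ h2 ih => exact Relation.ReflTransGen.head (st_symm h2) ih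
  obtain ⟨k, hk⟩ := h.pt
  have key : ∀ {y : Subgroup G}, Adj Z a y → Relation.ReflTransGen (St Z U a) (MulAut.conj k • Z 1) y := by
    intro y hy
    have hy' : Adj Z (Z 0) (MulAut.conj k⁻¹ • y) := by
      have := Adj.conj hy k⁻¹
      rwa [hk, inv_conj_conj] at this
    have h1 := D.rt_conj k (D.conn0 h hm hy')
    rwa [← hk, conj_inv_conj] at h1
  exact (hsym (key hp)).trans (key hx)

variable [Finite G]

/-- **The geometry of `N_a`.** -/
theorem nd {a c : Subgroup G} (h : Adj Z a c) (hm : ¬ XW Z U c ≤ centralizer (NN Z a : Set G)) :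
    ND (NN Z a) {p | Adj Z a p} (XW Z U) (Nat.card (Z 0)) where
  toGD := D.gd h.pt
  nk := by
    obtain ⟨k, hk⟩ := h.pt
    intro v hv hkill
    rw [hk, NN_conj] at hv
    obtain ⟨v₀, hv₀, rfl⟩ := hv
    have h3 : v₀ = 1 := by
      refine D.nk0 h hm hv₀ fun p hp g hg => ?_
      have h6 := hkill (MulAut.conj k • p) (by rw [hk]; exact hp.conj k) (MulAut.conj k g)
        (by rw [XW_conj]; exact ⟨g, hg, rfl⟩)
      change MulAut.conj k g * MulAut.conj k v₀ = MulAut.conj k v₀ * MulAut.conj k g at h6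
      rw [← map_mul, ← map_mul] at h6
      exact (MulAut.conj k).injective h6
    rw [h3]
    simp
  line := by
    intro p hp
    obtain ⟨V, hV, hpV, hVN, hc, hcov, hpts⟩ := D.exists_line hp
    refine ⟨V, hpV, hVN, hc.le, fun v hv hv1 => ?_, fun s hs hsV => ?_, ?_⟩
    · obtain ⟨s, h1, h2, h3⟩ := hcov v hv hv1
      exact ⟨s, h1, h2, h3⟩
    · obtain ⟨-, h2⟩ := hpts s (D.P.adj_pt hs) hsV
      exact fun w hw => mem_centralizer_iff.2 fun v hv =>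
        D.cent_of (D.P.adj_pt hs) (ln_le_XW h2 hv) hw
    · -- a second point
      obtain ⟨v, hv, hvp⟩ : ∃ v ∈ V, v ∉ p := by
        by_contra hcon
        push Not at hcon
        have h1 : V = p := le_antisymm hcon hpV
        rw [h1, D.card_pt (D.P.adj_pt hp)] at hc
        have h2 := D.q3
        nlinarith
      obtain ⟨s, h1, h2, h3⟩ := hcov v hv fun e => hvp (e ▸ one_mem _)
      exact ⟨s, h1, h2, fun e => hvp (e ▸ h3)⟩
  ex := ⟨c, h⟩
  conn := fun p hp x hx => D.conn h hm hp hx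

end NrH

end Cfsg.Agent.Omega.NO3S.EThree.NrOne

end

section


/-!
# (E), `k = 2`, no radical, `[W_1, N_2] ≠ 1` is impossible: the end of (NR1)

* `NrH.pt_le_X`, `NrH.mem_X` : `c^⊥ ≤ X_c`;
* `NrH.two_common` : two common neighbours `c ≠ r` of `a`, `b` imply `[N_a, N_b] = 1`;
* **`NrH.nr_one`** : `X_u` centralises `N_a` for `a ~ u`.
-/

set_option autoImplicit false
set_option linter.unusedSectionVars false

namespace Cfsg.Agent.Omega.NO3S.EThree.NrOne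

open Subgroup Cfsg
open Cfsg.Agent.ZN Cfsg.Agent.Omega.OM.PG Cfsg.Agent.Omega.OM.PG.Peel Cfsg.Agent.Omega.OM.PG.PeelQ
open Cfsg.Agent.Omega.OM.PG.PcQ (RegX not_adj_self)
open Cfsg.Agent.Omega.NO3S.EThree Cfsg.Agent.Omega.NO3S.EThree.ExactA
open Cfsg.Agent.Omega.NoFF.Basic (comm_symm conj_conj conj_le_iff)
open Cfsg.Agent.Omega.NOThreeL.Pair (conj_eq_of_mem)
open Cfsg.Agent.Omega.OmThm.Grp (GD Mv)
open Cfsg.Agent.Omega.NO3S.EThree.NrGeo (ND)
open scoped Pointwise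

universe u

variable {G : Type u} [Group G] [Finite G]

namespace NrH

variable {Z U : Fin 2 → Subgroup G} (D : NrH Z U)
include D

/-- the points of `c^⊥` lie in `X_c` -/
theorem pt_le_X {a c x : Subgroup G} (h : Adj Z a c) (hm : ¬ XW Z U c ≤ centralizer (NN Z a : Set G)) (hx : Adj Z a x)
    (hcx : XW Z U c ≤ centralizer (x : Set G)) : x ≤ XW Z U c := by
  have hc := D.P.adj_pt h
  by_cases hne : c = x
  · rw [← hne]
    exact D.F.aX c hc
  obtain ⟨V, hV, hcV, hVN, hVc, hcov, hpts⟩ := D.exists_line h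
  obtain ⟨v, hv, hvc⟩ : ∃ v ∈ V, v ∉ c := by
    by_contra hcon
    push Not at hcon
    have h1 : V = c := le_antisymm hcon hcV
    rw [h1, D.card_pt hc] at hVc
    have h2 := D.q3
    nlinarith
  obtain ⟨r, hr, hrV, hvr⟩ := hcov v hv fun e => hvc (e ▸ one_mem _)
  have hrc : c ≠ r := fun e => hvc (e ▸ hvr)
  have hVX := ln_le_XW hV
  have hcr : XW Z U c ≤ centralizer (r : Set G) := fun w hw =>
    mem_centralizer_iff.2 fun v hv => D.cent_of hc (hVX (hrV hv)) hw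
  obtain ⟨g, hgc, hgr, -⟩ := (D.nd h hm).trans (c := c) (y := r) (p := x) h hr hx hcr hcx hrc hne
  have hgcc : MulAut.conj g • c = c := conj_eq_of_mem (centralizer_le_normalizer _ hgc)
  have hV' : LnOn Z U c (MulAut.conj g • V) := by
    have := hV.conj g
    rwa [hgcc] at this
  rw [← hgr]
  exact (conj_le_iff.2 hrV).trans (ln_le_XW hV')

/-- the vectors of `c^⊥` lie in `X_c` -/
theorem mem_X {b c : Subgroup G} (h : Adj Z b c) (hm : ¬ XW Z U c ≤ centralizer (NN Z b : Set G)) {m : G}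
    (hmN : m ∈ NN Z b) (hc : ∀ w ∈ XW Z U c, w * m = m * w) : m ∈ XW Z U c := by
  by_cases hm1 : m = 1
  · rw [hm1]
    exact one_mem _
  obtain ⟨p, hp, hmp⟩ := (D.nd h hm).vect hmN hm1
  exact D.pt_le_X h hm hp ((D.nd h hm).one h hp hmp hm1 hc) hmp

omit [Finite G] in
theorem gm_mem {a c : Subgroup G} (h : Adj Z a c) {g m : G} (hg : g ∈ NN Z a) (hm : m ∈ XW Z U c) :
    g * m * g⁻¹ * m⁻¹ ∈ c := by
  have h1 := inv_mem (D.F.com c (D.P.adj_pt h) m hm g (D.NQ h hg))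
  have e : (m * g * m⁻¹ * g⁻¹)⁻¹ = g * m * g⁻¹ * m⁻¹ := by group
  rwa [e] at h1

omit [Finite G] in
theorem fix {a b c : Subgroup G} (hac : Adj Z a c) (hbc : Adj Z b c) {g : G} (hg : g ∈ NN Z a) :
    MulAut.conj g • b = b := conj_eq_of_mem (centralizer_le_normalizer _ (D.NN_cent hac hbc hg))

/-- (G4) -/
theorem g4 {a b c r x : Subgroup G} (hac : Adj Z a c) (hbc : Adj Z b c) (har : Adj Z a r) (hbr : Adj Z b r)
    (hm : ¬ XW Z U c ≤ centralizer (NN Z b : Set G)) (hcr : XW Z U c ≤ centralizer (r : Set G)) (hx : Adj Z b x)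
    (hxc : XW Z U c ≤ centralizer (x : Set G)) (hxr : ¬ XW Z U r ≤ centralizer (x : Set G)) {g x₀ : G}
    (hg : g ∈ NN Z a) (hx₀ : x₀ ∈ x) (hx1 : x₀ ≠ 1) (hgx : g * x₀ = x₀ * g) : g ∈ centralizer (NN Z b : Set G) := by
  have E := D.nd hbc hm
  have hmr : ¬ XW Z U r ≤ centralizer (NN Z b : Set G) := D.mov_all hbc hbr hm
  have hgm : ∀ s, Adj Z b s → Adj Z b (MulAut.conj g • s) := by
    intro s hs
    have := hs.conj g
    rwa [D.fix hac hbc hg] at this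
  have hcx : c ≠ x := by
    rintro rfl
    exact hxr (E.sym hbc hbr hcr)
  -- `g` centralises `x`
  have hxX : x ≤ XW Z U c := D.pt_le_X hbc hm hx hxc
  have hgx' : MulAut.conj g • x = x := by
    refine D.ti' (D.P.adj_pt (hgm x hx)) (D.P.adj_pt hx) (v := x₀) ⟨x₀, hx₀, ?_⟩ hx₀ hx1
    change g * x₀ * g⁻¹ = x₀
    rw [hgx, mul_inv_cancel_right]
  have hgxx : ∀ v ∈ x, g * v = v * g := by
    intro v hv
    by_contra hne
    have h1 := D.gm_mem hac hg (hxX hv)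
    have h2 : g * v * g⁻¹ ∈ x := hgx' ▸ (⟨v, hv, rfl⟩ : g * v * g⁻¹ ∈ MulAut.conj g • x)
    refine hcx (D.ti' (D.P.adj_pt hac) (D.P.adj_pt hx) h1 (mul_mem h2 (inv_mem hv)) fun e => hne ?_)
    rwa [mul_inv_eq_one, mul_inv_eq_iff_eq_mul] at e
  -- `[g, N_b] ≤ r`
  have key : ∀ m ∈ NN Z b, ∃ x' ∈ x, ∀ w ∈ XW Z U r, w * (m * x'⁻¹) = (m * x'⁻¹) * w := fun m hm => E.ix hbr hx hxr hm
  have hgr : ∀ m ∈ NN Z b, g * m * g⁻¹ * m⁻¹ ∈ r := by
    intro m hmN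
    obtain ⟨x', hx', h1⟩ := key m hmN
    have h2 : m * x'⁻¹ ∈ XW Z U r := D.mem_X hbr hmr (mul_mem hmN (inv_mem (hx.le_NN hx'))) h1
    have h3 := D.gm_mem har hg h2
    have e : g * (m * x'⁻¹) * g⁻¹ * (m * x'⁻¹)⁻¹ = g * m * g⁻¹ * m⁻¹ := by
      have h4 := hgxx x' hx'
      have h5 : x'⁻¹ * g⁻¹ = g⁻¹ * x'⁻¹ := by
        rw [← mul_inv_rev, ← mul_inv_rev, h4]
      calc g * (m * x'⁻¹) * g⁻¹ * (m * x'⁻¹)⁻¹ = g * m * (x'⁻¹ * g⁻¹) * (x' * m⁻¹) := by group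
        _ = _ := by rw [h5]; group
    rwa [e] at h3
  have htv : ∀ s, Adj Z b s → XW Z U r ≤ centralizer (s : Set G) → ∀ v ∈ s, g * v = v * g := by
    intro s hs hrs
    exact E.tv hbr hs (fun v hv => (mem_centralizer_iff.1 (D.NN_cent' har hg) v hv).symm) hgr hgm
      (fun s hs => D.F.conj g s (D.P.adj_pt hs)) hrs
  refine mem_centralizer_iff.2 fun m hmN => ?_
  obtain ⟨x', hx', h1⟩ := key m hmN
  have h4 : g * (m * x'⁻¹) = (m * x'⁻¹) * g := by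
    by_cases h5 : m * x'⁻¹ = 1
    · rw [h5, one_mul, mul_one]
    · obtain ⟨s, hs, hms⟩ := E.vect (mul_mem hmN (inv_mem (hx.le_NN hx'))) h5
      exact htv s hs (E.one hbr hs hms h5 h1) _ hms
  calc m * g = (m * x'⁻¹) * (x' * g) := by group
    _ = (m * x'⁻¹) * (g * x') := by rw [hgxx x' hx']
    _ = (g * (m * x'⁻¹)) * x' := by rw [h4]; group
    _ = g * m := by group

/-- **two common neighbours** -/
theorem two_common {a b c r : Subgroup G} (hac : Adj Z a c) (hbc : Adj Z b c) (har : Adj Z a r) (hbr : Adj Z b r)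
    (hne : c ≠ r) (hm : ¬ XW Z U c ≤ centralizer (NN Z b : Set G)) : Com Z a b := by
  have E := D.nd hbc hm
  have hmr : ¬ XW Z U r ≤ centralizer (NN Z b : Set G) := D.mov_all hbc hbr hm
  have hma : ¬ XW Z U c ≤ centralizer (NN Z a : Set G) := D.mov_all hbc hac hm
  have Ea := D.nd hac hma
  have hcp := D.P.adj_pt hac
  have hrp := D.P.adj_pt har
  by_cases hcr : XW Z U c ≤ centralizer (r : Set G)
  swap
  · intro g hg
    refine mem_centralizer_iff.2 fun m hmN => ?_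
    obtain ⟨x, hx, h1⟩ := E.ix hbc hbr hcr hmN
    have hrc : ¬ XW Z U r ≤ centralizer (c : Set G) := fun h => hcr (E.sym hbr hbc h)
    have hm1N : m * x⁻¹ ∈ NN Z b := mul_mem hmN (inv_mem (hbr.le_NN hx))
    obtain ⟨y, hy, h2⟩ := E.ix hbr hbc hrc hm1N
    have hm' : m * x⁻¹ * y⁻¹ ∈ NN Z b := mul_mem hm1N (inv_mem (hbc.le_NN hy))
    have h3 : ∀ w ∈ XW Z U c, w * (m * x⁻¹ * y⁻¹) = (m * x⁻¹ * y⁻¹) * w := by
      intro w hw
      have h5 : w * y⁻¹ = y⁻¹ * w := D.cent_of hcp hw (inv_mem (D.F.aX c hcp hy))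
      calc w * (m * x⁻¹ * y⁻¹) = w * (m * x⁻¹) * y⁻¹ := by group
        _ = m * x⁻¹ * (w * y⁻¹) := by rw [h1 w hw]; group
        _ = _ := by rw [h5]; group
    have h4 := D.mem_X hbc hm hm' h3
    have h5 := D.mem_X hbr hmr hm' h2
    have h6 := ti_one D.ti hcp hrp hne (D.gm_mem hac hg h4) (D.gm_mem har hg h5)
    rw [mul_inv_eq_one, mul_inv_eq_iff_eq_mul] at h6
    have h7 : g * y = y * g := (mem_centralizer_iff.1 (D.NN_cent' hac hg) y hy).symm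
    have h8 : g * x = x * g := (mem_centralizer_iff.1 (D.NN_cent' har hg) x hx).symm
    calc m * g = (m * x⁻¹ * y⁻¹) * (y * (x * g)) := by group
      _ = (m * x⁻¹ * y⁻¹) * (y * g * x) := by rw [← h8]; group
      _ = ((m * x⁻¹ * y⁻¹) * g) * (y * x) := by rw [← h7]; group
      _ = g * m := by rw [← h6]; group
  · by_contra hcon
    obtain ⟨g, hg, hgN⟩ := SetLike.not_le_iff_exists.1 hcon
    have hrc : XW Z U r ≤ centralizer (c : Set G) := E.sym hbc hbr hcr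
    obtain ⟨x, hx, hxc, hxr⟩ := E.sep hbc hbr hne
    obtain ⟨y, hy, hyr, hyc⟩ := E.sep hbr hbc hne.symm
    obtain ⟨x', hx', hxc', hxr'⟩ := Ea.sep hac har hne
    obtain ⟨z, hz, hz1⟩ := Ea.exists_v hx'
    have hzX : z ∈ XW Z U c := D.pt_le_X hac hma hx' hxc' hz
    have hxX : x ≤ XW Z U c := D.pt_le_X hbc hm hx hxc
    have hyX : y ≤ XW Z U r := D.pt_le_X hbr hmr hy hyr
    have hN : ∀ v : x × y, (v.1 : G) * (v.2 : G) ∈ NN Z b := fun v => mul_mem (hx.le_NN v.1.2) (hy.le_NN v.2.2)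
    let f : x × y → c := fun v => ⟨((v.1 : G) * (v.2 : G)) * z * ((v.1 : G) * (v.2 : G))⁻¹ * z⁻¹,
      D.gm_mem hbc (hN v) hzX⟩
    have hf : Function.Injective f := by
      rintro ⟨v, w⟩ ⟨v', w'⟩ e
      have e1 : ((v : G) * (w : G)) * z * ((v : G) * (w : G))⁻¹ * z⁻¹ =
          ((v' : G) * (w' : G)) * z * ((v' : G) * (w' : G))⁻¹ * z⁻¹ := congrArg Subtype.val e
      have e2 := mul_right_cancel e1
      set n := ((v : G) * (w : G)) with hn
      set n' := ((v' : G) * (w' : G)) with hn'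
      have e3 : (n⁻¹ * n') * z = z * (n⁻¹ * n') := by
        calc (n⁻¹ * n') * z = n⁻¹ * (n' * z * n'⁻¹) * n' := by group
          _ = z * (n⁻¹ * n') := by rw [← e2]; group
      have hnN : n⁻¹ * n' ∈ NN Z b := mul_mem (inv_mem (hN (v, w))) (hN (v', w'))
      have h1 : n⁻¹ * n' ∈ centralizer (NN Z a : Set G) :=
        D.g4 hbc hac hbr har hma hcr hx' hxc' hxr' hnN hz hz1 e3
      have h2 : g * (n⁻¹ * n') = (n⁻¹ * n') * g := mem_centralizer_iff.1 h1 g hg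
      set p := (v : G)⁻¹ * (v' : G) with hp
      set s := (w : G)⁻¹ * (w' : G) with hs
      have hpx : p ∈ x := mul_mem (inv_mem v.2) v'.2
      have hsy : s ∈ y := mul_mem (inv_mem w.2) w'.2
      have hps : n⁻¹ * n' = p * s := by
        rw [hn, hn', hp, hs]
        have h3 := D.NN_com hbc.pt (inv_mem (hy.le_NN w.2)) (mul_mem (inv_mem (hx.le_NN v.2)) (hx.le_NN v'.2))
        calc ((v : G) * (w : G))⁻¹ * ((v' : G) * (w' : G)) = ((w : G)⁻¹ * ((v : G)⁻¹ * (v' : G))) * (w' : G) := by group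
          _ = _ := by rw [h3]; group
      rw [hps] at h2
      have h4 : g * p * g⁻¹ * p⁻¹ ∈ c := D.gm_mem hac hg (hxX hpx)
      have h5 : g * s * g⁻¹ * s⁻¹ ∈ r := D.gm_mem har hg (hyX hsy)
      have h6 : g * p * g⁻¹ * p⁻¹ = (g * s * g⁻¹ * s⁻¹)⁻¹ := by
        have h7 := D.NN_com hbc.pt (hx.le_NN hpx) (hbr.le_NN (inv_mem h5))
        have h8 : (g * p * g⁻¹ * p⁻¹) * p = (g * s * g⁻¹ * s⁻¹)⁻¹ * p := by
          rw [← h7]
          calc (g * p * g⁻¹ * p⁻¹) * p = (g * (p * s)) * (g * s)⁻¹ := by group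
            _ = (p * s * g) * (g * s)⁻¹ := by rw [h2]
            _ = _ := by group
        exact mul_right_cancel h8
      have h7 : g * p * g⁻¹ * p⁻¹ = 1 := ti_one D.ti hcp hrp hne h4 (h6 ▸ inv_mem h5)
      have h8 : g * s * g⁻¹ * s⁻¹ = 1 := by
        rw [h7] at h6
        exact inv_eq_one.1 h6.symm
      rw [mul_inv_eq_one, mul_inv_eq_iff_eq_mul] at h7 h8
      have hp1 : p = 1 := by
        by_contra hp1
        exact hgN (D.g4 hac hbc har hbr hm hcr hx hxc hxr hg hpx hp1 h7)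
      have hs1 : s = 1 := by
        by_contra hs1
        exact hgN (D.g4 har hbr hac hbc hmr hrc hy hyr hyc hg hsy hs1 h8)
      exact Prod.ext (Subtype.ext (inv_mul_eq_one.1 hp1)) (Subtype.ext (inv_mul_eq_one.1 hs1))
    have h1 := Nat.card_le_card_of_injective f hf
    rw [Nat.card_prod, D.card_pt (D.P.adj_pt hx), D.card_pt (D.P.adj_pt hy), D.card_pt hcp] at h1
    have h2 := D.q3
    nlinarith

/-- **(NR1)** -/
theorem nr_one {a c : Subgroup G} (h : Adj Z a c) : XW Z U c ≤ centralizer (NN Z a : Set G) := by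
  by_contra hm
  obtain ⟨l, hl, hlN⟩ : ∃ l, LnOn Z U c l ∧ ¬ l ≤ centralizer (NN Z a : Set G) := by
    by_contra hcon
    push Not at hcon
    exact hm (sup_le (comm_symm (D.com _ _ h)) (iSup_le fun l => hcon l l.2))
  have hlX := ln_le_XW hl
  obtain ⟨k, hk0, hk1⟩ := hl
  -- `b`
  have hbc : Adj Z (MulAut.conj k • Z 1) c := by
    rw [hk0]
    exact D.P.adj_symm (D.adj01.conj k)
  have hlb : l ≤ NN Z (MulAut.conj k • Z 1) := by
    rw [hk1, NN_conj]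
    refine conj_le_iff.2 ?_
    obtain ⟨s, hs0, hs1, hs2, hs3⟩ := D.P.swap
    rw [← hs0, ← hs3, NN_conj]
    exact conj_le_iff.2 D.UN
  set b := MulAut.conj k • Z 1 with hb
  have hmb : ¬ XW Z U c ≤ centralizer (NN Z b : Set G) := D.mov_all h hbc hm
  have E := D.nd hbc hmb
  have Ea := D.nd h hm
  obtain ⟨v, hv, hvN⟩ := SetLike.not_le_iff_exists.1 hlN
  obtain ⟨g, hg, hgv⟩ : ∃ g ∈ NN Z a, g * v ≠ v * g := by
    by_contra hcon
    push Not at hcon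
    exact hvN (mem_centralizer_iff.2 hcon)
  have hncom : ¬ Com Z a b := fun h1 => hgv (mem_centralizer_iff.1 (h1 hg) v (hlb hv)).symm
  have hin : ∀ m ∈ NN Z b, g * m * g⁻¹ * m⁻¹ ∈ c := by
    intro m hmN
    by_cases h1 : g * m * g⁻¹ * m⁻¹ = 1
    · rw [h1]
      exact one_mem _
    have h2 : g * m * g⁻¹ * m⁻¹ ∈ NN Z b := by
      refine mul_mem ?_ (inv_mem hmN)
      exact (mem_normalizer_iff.1 (PP.HH_le_NN b (centralizer_le_normalizer _ (D.NN_cent h hbc hg))) m).1 hmN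
    have h3 : g * m * g⁻¹ * m⁻¹ ∈ NN Z a := by
      have h4 := (mem_normalizer_iff.1 (PP.HH_le_NN a (centralizer_le_normalizer _ (D.NN_cent hbc h hmN))) g⁻¹).1
        (inv_mem hg)
      have e : g * m * g⁻¹ * m⁻¹ = g * (m * g⁻¹ * m⁻¹) := by group
      rw [e]
      exact mul_mem hg h4
    obtain ⟨p, hp, hmp⟩ := E.vect h2 h1
    obtain ⟨p', hp', hmp'⟩ := Ea.vect h3 h1
    have e : p = p' := D.ti' (D.P.adj_pt hp) (D.P.adj_pt hp') hmp hmp' h1
    subst e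
    by_cases hpc : c = p
    · rw [hpc]
      exact hmp
    · exact absurd (D.two_common h hbc hp' hp hpc hmb) hncom
  have hv1 : v ≠ 1 := by
    rintro rfl
    exact hgv (by rw [mul_one, one_mul])
  obtain ⟨s, hs, hvs⟩ := E.vect (hlb hv) hv1
  have hcs : XW Z U c ≤ centralizer (s : Set G) :=
    E.one hbc hs hvs hv1 fun w hw => D.cent_of (D.P.adj_pt h) hw (hlX hv)
  refine hgv (E.tv hbc hs (fun v hv => (mem_centralizer_iff.1 (D.NN_cent' h hg) v hv).symm) hin ?_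
    (fun s hs => D.F.conj g s (D.P.adj_pt hs)) hcs v hvs)
  intro s hs
  have := Adj.conj hs g
  rwa [D.fix h hbc hg] at this

end NrH

end Cfsg.Agent.Omega.NO3S.EThree.NrOne

end

end

-- merged: Cfsg.Agent.Mrg.Omega.NO3S.EThree.NrOneQ
section

/-!
# (NR1) over the frame `FQ` of TEXT Q4: no radical, `[X_1, N_2] = 1`

* `NrOne.com` : `[N_a, N_u] = 1` for `a ~ u`; `NrOne.fx` : a `B`-invariant subgroup `≠ 1` of `N_1` meets `Z 1`;
  `NrOne.irr` : `N_1` is irreducible for `N_G(Z 0)`;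
* **`NrOne.nr_one`** : `X_u` centralises `N_a` for `a ~ u`.
-/

set_option autoImplicit false
set_option linter.unusedSectionVars false

namespace Cfsg.Agent.Omega.NO3S.EThree.NrOne

open Subgroup Cfsg Cfsg.Agent.ZN Cfsg.Agent.Omega.MinPar
open Cfsg.Agent.Omega.NoFF.Basic (conj_conj mem_conj conj_le_iff conj_le_centralizer comm_symm comm_mono)
open Cfsg.Agent.Omega.NOThreeL.Pair (conj_eq_of_mem)
open Cfsg.Agent.Omega.OM.PG Cfsg.Agent.Omega.OM.PG.PeelQ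
open Cfsg.Agent.Omega.OM.PG.Peel (XW XW_conj)
open Cfsg.Agent.Omega.NO3S.EThree.ExactA (eab_iff eab_mono NoP)
open Cfsg.Agent.Omega.NO3S.EThree.NrTwo (NoRadN)
open scoped Pointwise

universe u

variable {G : Type u} [Group G] {Z U : Fin 2 → Subgroup G}

/-- `N_a ∩ N_u = 1` : `[N_a, N_u] = 1` -/
theorem com_of (P : PP Z U) (h : NoRadN Z) : ∀ a u : Subgroup G, Adj Z a u → Com Z a u := by
  intro a u hau x hx
  refine mem_centralizer_iff.2 fun y hy => ?_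
  have hx' : x ∈ HH u := P.QQ_le_HH (P.adj_symm hau) (P.NN_le_QQ hau.pt hx)
  have hy' : y ∈ HH a := P.QQ_le_HH hau (P.NN_le_QQ (P.adj_pt hau) hy)
  have h1 : x * y * x⁻¹ * y⁻¹ ∈ NN Z u := mul_mem ((mem_normalizer_iff.1 (PP.HH_le_NN u hx') y).1 hy) (inv_mem hy)
  have h2 : x * y * x⁻¹ * y⁻¹ ∈ NN Z a := by
    have e : x * y * x⁻¹ * y⁻¹ = x * (y * x⁻¹ * y⁻¹) := by group
    rw [e]
    exact mul_mem hx ((mem_normalizer_iff.1 (PP.HH_le_NN a hy') x⁻¹).1 (inv_mem hx))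
  have h3 : x * y * x⁻¹ * y⁻¹ ∈ NN Z a ⊓ NN Z u := ⟨h2, h1⟩
  rw [h a u hau, mem_bot, mul_inv_eq_one, mul_inv_eq_iff_eq_mul] at h3
  exact h3.symm

variable {B : Subgroup G} {q : ℕ} (D : FQ Z U B q) [Finite G]
include D

/-- `[N_a, N_u] = 1` for `a ~ u` -/
theorem com (hnr : ¬ Z 0 ≤ NN Z (Z 0)) : ∀ a u : Subgroup G, Adj Z a u → Com Z a u :=
  com_of D.toPP (D.noRadN hnr)

/-- `N_G(Z 0) ∩ N_G(Z 1)` is transitive on `(Z 1)#` -/
theorem trans_Z1 {a a' : G} (ha : a ∈ Z 1) (ha1 : a ≠ 1) (ha' : a' ∈ Z 1) (ha1' : a' ≠ 1) :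
    ∃ g ∈ HH (Z 0), g * a * g⁻¹ = a' := by
  obtain ⟨l, hl1, hl2, hl3, -, -⟩ := D.mvl 1 0 (by decide)
  have hlU' : MulAut.conj l⁻¹ • U 1 = U 1 := by
    have h3 := congrArg (fun X => MulAut.conj l⁻¹ • X) hl1
    simpa only [inv_conj_conj] using h3.symm
  have key : ∀ c ∈ Z 1, c ≠ 1 → l⁻¹ * c * l ∈ U 1 ∧ l⁻¹ * c * l ∉ Z 1 := by
    intro c hc hc1
    refine ⟨?_, fun h => hc1 ?_⟩
    · rw [← hlU']
      refine ⟨c, D.ZU' 1 hc, ?_⟩
      change l⁻¹ * c * l⁻¹⁻¹ = _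
      rw [inv_inv]
    · have h3 : c ∈ MulAut.conj l • Z 1 ⊓ Z 1 := by
        refine ⟨⟨_, h, ?_⟩, hc⟩
        change l * (l⁻¹ * c * l) * l⁻¹ = c
        group
      rwa [hl2, mem_bot] at h3
  obtain ⟨hx, hxZ⟩ := key a ha ha1
  obtain ⟨hy, hyZ⟩ := key a' ha' ha1'
  set x := l⁻¹ * a * l with hxd
  set y := l⁻¹ * a' * l with hyd
  obtain ⟨h, h0, h1, h2, h3⟩ := D.tor 1 0 (by decide) x hx hxZ y hy hyZ
  obtain ⟨b, hb, -, h4⟩ := D.root 1 0 (by decide) y hy hyZ _ h3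
  have e1 : b * y * b⁻¹ = h * x * h⁻¹ := by
    have hyz : y * (y⁻¹ * (h * x * h⁻¹)) = (y⁻¹ * (h * x * h⁻¹)) * y :=
      mem_centralizer_iff.1 ((eab_iff.1 (D.eU 1)).1 (D.ZU' 1 h3)) y hy
    calc b * y * b⁻¹ = (b * y * b⁻¹ * y⁻¹) * y := by group
      _ = (y⁻¹ * (h * x * h⁻¹)) * y := by rw [h4]
      _ = y * (y⁻¹ * (h * x * h⁻¹)) := hyz.symm
      _ = h * x * h⁻¹ := by group
  have hbZ : b ∈ centralizer (Z 0 : Set G) := D.D_le_cent 0 (D.B_le hb)
  have hhZ : h ∈ centralizer (Z 0 : Set G) := centralizer_le (D.ZU' 0) h0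
  refine ⟨l * (b⁻¹ * h) * l⁻¹, centralizer_le_normalizer _
    (mul_mem (mul_mem hl3 (mul_mem (inv_mem hbZ) hhZ)) (inv_mem hl3)), ?_⟩
  calc l * (b⁻¹ * h) * l⁻¹ * a * (l * (b⁻¹ * h) * l⁻¹)⁻¹ = l * (b⁻¹ * (h * x * h⁻¹) * b) * l⁻¹ := by rw [hxd]; group
    _ = l * (b⁻¹ * (b * y * b⁻¹) * b) * l⁻¹ := by rw [e1]
    _ = a' := by rw [hyd]; group

/-- a `B`-invariant subgroup `≠ 1` of `N_1` meets `Z 1` -/
theorem fx (hnr : ¬ Z 0 ≤ NN Z (Z 0)) {K : Subgroup G} (hK : K ≤ NN Z (Z 0)) (hn : B ≤ normalizer (K : Set G))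
    (hne : K ≠ ⊥) : ∃ x ∈ K, x ∈ Z 1 ∧ x ≠ 1 := by
  have hB : K ≤ B := hK.trans ((D.N_le_O 0).trans D.O_le_B)
  obtain ⟨x, hx, hx1, hxB⟩ := Cfsg.Agent.Omega.NoFF.LinesPlug.exists_fixed D.B2 hB hn hne
  have hx2 : x ^ 2 = 1 := (eab_iff.1 (D.N_eab 0)).2 x (hK hx)
  have h1 := D.zB x (hB hx) hx2 hxB
  obtain ⟨a, ha, b, hb, e⟩ := D.sup_mem (i := 0) (j := 1) (by decide) h1
  have ha1 : a = 1 := by
    refine D.N_inf_Z hnr 0 ?_ ha
    have h3 : a = x * b⁻¹ := by rw [e]; group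
    rw [h3]
    exact mul_mem (hK hx) (inv_mem ((D.adj (i := 0) (j := 1) (by decide)).le_NN hb))
  refine ⟨x, hx, ?_, hx1⟩
  rw [e, ha1, one_mul]
  exact hb

/-- **`N_1` is irreducible for `N_G(Z 0)`.** -/
theorem irr (hnr : ¬ Z 0 ≤ NN Z (Z 0)) : ∀ K : Subgroup G, K ≤ NN Z (Z 0) → HH (Z 0) ≤ normalizer (K : Set G) →
    K = ⊥ ∨ NN Z (Z 0) ≤ K := by
  intro K hK hn
  by_cases hne : K = ⊥
  · exact Or.inl hne
  right
  obtain ⟨x, hx, hxb, hx1⟩ := fx D hnr hK ((D.B_le_HH 0).trans hn) hne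
  have hZK : Z 1 ≤ K := by
    intro y hy
    by_cases hy1 : y = 1
    · rw [hy1]; exact one_mem _
    obtain ⟨g, hg, rfl⟩ := trans_Z1 D hxb hx1 hy hy1
    exact (mem_normalizer_iff.1 (hn hg) _).1 hx
  refine sSup_le ?_
  rintro _ ⟨k, hk, rfl⟩
  have hk' : k ∈ HH (Z 0) := ChoiceBase.mem_normalizer_iff_cj.2 hk.symm
  have h2 : MulAut.conj k • K = K := conj_eq_of_mem (hn hk')
  rw [← h2]
  exact conj_le_iff.2 hZK

/-- the hypotheses of (NR1) over `FQ` -/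
theorem nrH (hq : 3 ≤ q) (hreg : PcQ.RegX Z (XW Z U)) (hnr : ¬ Z 0 ≤ NN Z (Z 0)) : NrH Z U where
  P := D.toPP
  F := D.xf
  ti := D.tip
  reg := hreg
  q3 := by rw [D.cardZ]; exact hq
  h01 := by
    intro e
    have h1 : Z 0 ≤ U 0 ⊓ U 1 := le_inf (D.ZU' 0) (by rw [e]; exact D.ZU' 1)
    rw [D.inf] at h1
    exact D.ne (le_bot_iff.1 h1)
  com := com D hnr
  irr := irr D hnr
  fx := fun K hK hn hne => fx D hnr hK ((le_inf (D.B_le_HH 0) (D.B_le_HH 1)).trans hn) hne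
  pts := by
    intro x hx hx1
    obtain ⟨k, hk, hxk⟩ := D.pts x hx hx1
    exact ⟨_, ⟨k, rfl⟩, hk, hxk⟩
  cardU := by rw [D.cardU, D.cardZ, pow_two]
  UN := D.U_le_N (by decide)

/-- **(NR1).** -/
theorem nr_one (hq : 3 ≤ q) (hreg : PcQ.RegX Z (XW Z U)) (hnr : ¬ Z 0 ≤ NN Z (Z 0))
    {a u : Subgroup G} (h : Adj Z a u) : XW Z U u ≤ centralizer (NN Z a : Set G) :=
  (nrH D hq hreg hnr).nr_one h

end Cfsg.Agent.Omega.NO3S.EThree.NrOne

end

-- merged: Cfsg.Agent.Mrg.Omega.NO3S.EThree.NrIn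
section

/-!
# Row (7), no radical: `NrIn`

* `UIn K` : UNI, weak form, for the data `MQ`;
* `MQ.nbQ` : `N_G(Z 0) ∩ N_G(T) ≤ N_G(Z 1)` for 2-groups `T ≥ B`; `MQ.done`, `MQ.l0` : STEP F and LEMMA 0;
* **`nrIn_of : UIn K → NrIn K`**.
-/

set_option autoImplicit false
set_option linter.unusedSectionVars false

namespace Cfsg.Agent.Omega.NO3S.EThree.Row7

open Subgroup Cfsg Cfsg.Agent.ZN.ChoiceBase
open Cfsg.Agent.Omega.OM
open Cfsg.Agent.Omega.NO3S.EThree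
open Cfsg.Agent.Omega.OM.PG.Peel (XW)
open Cfsg.Agent.Omega.NO3S.EThree.Frame
open Cfsg.Agent.Omega.MinPar (NonLoc)
open Cfsg.Agent.Omega.Frame (Cls)
open Cfsg.Agent.Omega.Node.MultiOf
open scoped Pointwise

universe u

variable {G : Type u} [Group G]

/-- UNI, weak form, for the data of row (7). -/
def UIn (K : Cls.{u}) : Prop :=
  ∀ (G : Type u) [Group G] [Finite G], K G → ∀ (S : Sylow 2 G) (P K' B ZJ : Subgroup G)
    (L W Z C : Fin 2 → Subgroup G) (q : ℕ), MQ S P K' B ZJ L W Z C q → DoneU.Uni0 Z W B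

namespace MQ

variable [Finite G] {S : Sylow 2 G} {P K' B ZJ : Subgroup G} {L W Z C : Fin 2 → Subgroup G} {q : ℕ}

theorem fq (h : MQ S P K' B ZJ L W Z C q) : FQ Z W B q := FQ.of_bg h.bg (h.ti 0) h.nonloc

theorem nbQ (h : MQ S P K' B ZJ L W Z C q) : DoneU.NbQ Z B := by
  refine DoneU.nbQ_of h.bg.wc ?_
  rintro g ⟨hg0, hgB⟩
  obtain ⟨σ, hσ⟩ := h.bg.perm_W hgB
  have h0 : cj g (Z 0) = Z 0 := mem_normalizer_iff_cj.1 hg0
  have hσ0 : σ 0 = 0 := h.bg.Z_inj ((hσ 0).2.symm.trans h0)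
  have hσ1 : σ 1 = 1 := by
    rcases fin2 (σ 1) with h1 | h1
    · exact absurd (σ.injective (h1.trans hσ0.symm)) (by decide)
    · exact h1
  refine mem_normalizer_iff_cj.2 ?_
  rw [(hσ 1).2, hσ1]

theorem sylU0 (h : MQ S P K' B ZJ L W Z C q) : SylU0 Z W :=
  ⟨(S : Subgroup G) ⊓ normalizer (Z 0 : Set G), h.bg.syl 0, by
    rw [h.bg.inf_normalizer 0]; exact inf_le_right⟩

theorem regX (h : MQ S P K' B ZJ L W Z C q) : PG.PcQ.RegX Z (XW Z W) := by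
  have h2 : 2 < q := lt_of_lt_of_le (by decide) h.hq
  have D : FQ ![Z 0, Z 1] ![W 0, W 1] B q := by
    rw [vec2, vec2]
    exact h.fq
  have h1 := h.bg.regX h2 D
  rwa [vec2, vec2] at h1

/-- **LEMMA 0.** -/
theorem l0 (h : MQ S P K' B ZJ L W Z C q) (hU : DoneU.Uni0 Z W B) : PG.PcQ.L0 Z := DoneU.l0 h.fq hU h.nbQ

/-- **STEP F.** -/
theorem done (h : MQ S P K' B ZJ L W Z C q) (hU : DoneU.Uni0 Z W B) : DoneQ Z W :=
  fun _ h1 h2 h3 => DoneU.done h.fq hU h.nbQ ⟨h1, h2, h3⟩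

end MQ

/-- **No radical: `NrIn` from UNI.** -/
theorem nrIn_of {K : Cls.{u}} (hU : UIn K) : NrIn K := by
  intro G _ _ hG S P K' B ZJ L W Z C q h hnr
  have h2 : 2 < q := lt_of_lt_of_le (by decide) h.hq
  have D := h.fq
  refine ⟨D.thmC2_nr h2 hnr h.sylU0 (h.done (hU G hG S P K' B ZJ L W Z C q h)), ?_⟩
  exact NrOne.nr_one D h2 h.regX hnr (D.adj (i := 1) (j := 0) (by decide))

end Cfsg.Agent.Omega.NO3S.EThree.Row7

end
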